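import Cfsg.Agent.H806.LsFiThree
import Cfsg.Agent.H912.LSUse
import Cfsg.Agent.H915.LD
import Cfsg.Agent.H489.DegBase

/-!
# `Fi₂₂`, `Fi₂₃`, `B`, `M`: every projective representation of a cover has degree at least 16
(every characteristic, every cover; helper806)
-/

set_option autoImplicit false

universe u v

namespace Cfsg.Agent.H806.Ls

open Cfsg Cfsg.Agent.H912.Bd Cfsg.Agent.H915.LD Cfsg.Agent.H489.Deg Cfsg.Agent.H203.LS

variable {p : ℕ} (hp : p.Prime) {F : Type u} [Field F] [Finite F] [CharP F p] {n : ℕ}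
  {P : Subgroup (Matrix.GeneralLinearGroup (Fin n) F)} (hC : Cfsg.Agent.H915.LD.Core P)

include hC in
theorem nc_of_core {T : Type v} [Group T] (e : Soc P ≃* T) : ∃ g h : T, g * h ≠ h * g := by
  by_contra hcon
  push Not at hcon
  apply hC.nonabelian
  refine ⟨⟨fun a b => ?_⟩⟩
  apply e.injective
  rw [map_mul, map_mul, hcon]

include hp hC

theorem le_of_two_three {T : Type v} [Group T] (e : Soc P ≃* T)
    (h2 : ∀ [IsSimpleGroup T], (∃ g h : T, g * h ≠ h * g) → LS.{v, u, u} 2 28 T)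
    (h3 : ∀ [IsSimpleGroup T], (∃ g h : T, g * h ≠ h * g) → LS.{v, u, u} 3 16 T) : 16 ≤ n := by
  have hs : IsSimpleGroup T := (MulEquiv.isSimpleGroup_congr e).1 hC.simple
  have hnc := nc_of_core hC e
  by_cases hp3 : p = 3
  · have := le_of_ls (h2 hnc) (cast_ne (F := F) hp Nat.prime_two (by omega)) P hC.perfect e
    omega
  · exact le_of_ls (h3 hnc) (cast_ne (F := F) hp Nat.prime_three hp3) P hC.perfect e

theorem fi22_le (e : Soc P ≃* Cfsg.Spor.Fi22) : 16 ≤ n :=
  le_of_two_three hp hC e fi22_ls_two fi22_ls_three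

theorem fi23_le (e : Soc P ≃* Cfsg.Spor.Fi23) : 16 ≤ n :=
  le_of_two_three hp hC e fi23_ls_two fi23_ls_three

theorem b_le (e : Soc P ≃* Cfsg.Spor.BabyMonster) : 16 ≤ n :=
  le_of_two_three hp hC e b_ls_two b_ls_three

theorem m_le (e : Soc P ≃* Cfsg.Spor.Monster) : 16 ≤ n :=
  le_of_two_three hp hC e m_ls_two m_ls_three

end Cfsg.Agent.H806.Ls
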