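import Cfsg.Agent.H806.LsTwo
import Cfsg.Agent.H920.FiTwoMain

/-!
# `LS 2 28` for `Fi₂₂`, `Fi₂₃`, `Fi₂₄'`, `B`, `M` (helper806)
-/

set_option autoImplicit false

universe u v w

namespace Cfsg.Agent.H806.Ls

open Cfsg Cfsg.Spor Cfsg.Agent.H921.Spor Cfsg.Agent.H921.Spor.Cox Cfsg.Agent.H921.Spor.Fi
open Cfsg.Agent.ChevalleyStructure.WeylData Cfsg.Agent.H920 Cfsg.Agent.H203.LS
open Cfsg.Agent.H920.FiTwo (Ctx ths gn_sq gn_comm gn_braid comm_ev)

section Twist

variable {G : Type u} [Group G] {t : ℕ → G} {g z : G}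

theorem ev_twist (w : List ℕ) (hw : ∀ a ∈ w, z * t a = t a * z) :
    ev (fun a => t a * z) w = ev t w * z ^ w.length := by
  induction w with
  | nil => simp
  | cons a w ih =>
    rw [ev_cons, ev_cons, ih fun b hb => hw b (List.mem_cons_of_mem _ hb), List.length_cons, pow_succ']
    have h1 : z * ev t w = ev t w * z := comm_ev fun b hb => hw b (List.mem_cons_of_mem _ hb)
    calc t a * z * (ev t w * z ^ w.length) = t a * (z * ev t w) * z ^ w.length := by group
      _ = _ := by rw [h1]; group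

theorem ev_congr {t t' : ℕ → G} {w : List ℕ} (h : ∀ a ∈ w, t a = t' a) : ev t w = ev t' w := by
  induction w with
  | nil => rfl
  | cons a w ih =>
    rw [ev_cons, ev_cons, h a List.mem_cons_self, ih fun b hb => h b (List.mem_cons_of_mem _ hb)]

theorem ths_lt : ∀ a ∈ ths, a < 7 := by decide

theorem ctx_twist (hc : Ctx t g) (hz : z * z = 1) (hzt : ∀ a, a < 7 → z * t a = t a * z) (hzg : z * g = g * z) :
    Ctx (fun a => t a * z) (g * z) ∧ FiTwo.T (fun a => t a * z) (g * z) = FiTwo.T t g := by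
  have e0 : ∀ a, a < 7 → ∀ x, t a * z * (x * z) = t a * (z * x * z) := fun a _ x => by group
  have hzz : ∀ x, z * x = x * z → z * x * z = x := fun x hx => by rw [hx, mul_assoc, hz, mul_one]
  have es : ev (fun a => t a * z) ths = ev t ths * z := by
    rw [ev_twist _ fun a ha => hzt a (ths_lt a ha)]
    have h1 : ths.length = 2 * 16 + 1 := by decide
    rw [h1, pow_succ, pow_mul, pow_two, hz, one_pow, one_mul]
  have hzs : z * ev t ths = ev t ths * z := comm_ev fun a ha => hzt a (ths_lt a ha)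
  refine ⟨⟨?_, ?_, ?_, ?_, ?_⟩, ?_⟩
  · intro a ha b hb
    rw [e0 a ha, hzz _ (hzt b hb)]
    exact hc.pre a ha b hb
  · calc g * z * (g * z) = g * (z * g * z) := by group
      _ = 1 := by rw [hzz _ hzg, hc.gg]
  · intro a h1 h2
    calc g * z * (t a * z) = g * (z * t a * z) := by group
      _ = t a * (z * g * z) := by rw [hzz _ (hzt a h2), hzz _ hzg, hc.gt a h1 h2]
      _ = _ := by group
  · calc g * z * (t 0 * z) * (g * z) = g * (z * t 0 * z) * g * z := by group
      _ = t 0 * g * t 0 * z := by rw [hzz _ (hzt 0 (by norm_num)), hc.g0]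
      _ = t 0 * (z * g * z) * t 0 * z := by rw [hzz _ hzg]
      _ = _ := by group
  · rw [es]
    calc g * z * (ev t ths * z) = g * (z * ev t ths * z) := by group
      _ = ev t ths * (z * g * z) := by rw [hzz _ hzs, hzz _ hzg, hc.gs]
      _ = _ := by group
  · unfold FiTwo.T
    rw [es]
    calc g * z * (ev t ths * z) = g * (z * ev t ths * z) := by group
      _ = _ := by rw [hzz _ hzs]

theorem coe_ev {K : Subgroup G} (t' : ℕ → K) (w : List ℕ) : ((ev t' w : K) : G) = ev (fun a => (t' a : G)) w := by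
  induction w with
  | nil => rfl
  | cons a w ih => rw [ev_cons, ev_cons, Subgroup.coe_mul, ih]

/-- The twisted elements in a subgroup. -/
theorem ctx_sub {K : Subgroup G} (hc : Ctx t g) (hz : z * z = 1) (hzt : ∀ a, a < 7 → z * t a = t a * z)
    (hzg : z * g = g * z) (hK : ∀ a, a < 7 → t a * z ∈ K) (hgK : g * z ∈ K) :
    ∃ (t' : ℕ → K) (g' : K), Ctx t' g' ∧ ((FiTwo.T t' g' : K) : G) = FiTwo.T t g := by
  classical
  obtain ⟨h1, h2⟩ := ctx_twist hc hz hzt hzg
  let t' : ℕ → K := fun a => if ha : t a * z ∈ K then ⟨_, ha⟩ else 1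
  have ht : ∀ a, a < 7 → (t' a : G) = t a * z := by
    intro a ha
    have : t' a = ⟨_, hK a ha⟩ := dif_pos (hK a ha)
    rw [this]
  have hs : ((ev t' ths : K) : G) = ev (fun a => t a * z) ths := by
    rw [coe_ev]; exact ev_congr fun a ha => ht a (ths_lt a ha)
  refine ⟨t', ⟨_, hgK⟩, ⟨?_, ?_, ?_, ?_, ?_⟩, ?_⟩
  · intro a ha b hb
    apply Subtype.ext
    rw [Subgroup.coe_pow, Subgroup.coe_mul, ht a ha, ht b hb]
    exact h1.pre a ha b hb
  · exact Subtype.ext h1.gg
  · intro a ha hb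
    apply Subtype.ext
    rw [Subgroup.coe_mul, Subgroup.coe_mul, ht a hb]
    exact h1.gt a ha hb
  · apply Subtype.ext
    rw [Subgroup.coe_mul, Subgroup.coe_mul, Subgroup.coe_mul, Subgroup.coe_mul, ht 0 (by norm_num)]
    exact h1.g0
  · apply Subtype.ext
    rw [Subgroup.coe_mul, Subgroup.coe_mul, hs]
    exact h1.gs
  · rw [← h2]
    unfold FiTwo.T
    rw [Subgroup.coe_mul, hs]

/-- Criterion for `T ≠ 1`: a node attached to `g` only. -/
theorem T_ne_one {j : G} (hss : ev t ths * ev t ths = 1) (hj : ∀ a, a < 7 → j * t a = t a * j)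
    (hb : g * j * g = j * g * j) (hgg : g * g = 1) (hjj : j * j = 1) (hne : g * j ≠ 1) : FiTwo.T t g ≠ 1 := by
  intro hT
  have h1 : g = ev t ths := by
    unfold FiTwo.T at hT
    rw [← inv_eq_of_mul_eq_one_left hss]
    exact eq_inv_of_mul_eq_one_left hT
  have h2 : j * g = g * j := by
    rw [h1]
    exact comm_ev fun a ha => hj a (ths_lt a ha)
  apply hne
  have e1 : g * j * g = j := by rw [← h2, mul_assoc, hgg, mul_one]
  have e2 : j * g * j = g := by rw [h2, mul_assoc, hjj, mul_one]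
  have e3 : j = g := e1.symm.trans (hb.trans e2)
  rw [e3]
  exact hgg

end Twist

section General

variable {α : Type} [DecidableEq α] {edges : List (α × ℕ × α)} {extra : List (FreeGroup α)}

theorem comm_prod {G : Type u} [Group G] {y a b c : G} (ha : y * a = a * y) (hb : y * b = b * y) (hc : c = a * b) :
    y * c = c * y := by
  rw [hc, ← mul_assoc, ha, mul_assoc, hb, mul_assoc]

theorem check5' : eqW certE7 ths (Two.w0 ++ rp [6, 5, 4, 3, 2, 1] 5) = true := FiTwo.check5

/-- The context from a diagram. -/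
theorem ctx_of {f : ℕ → α} {y : α} (hn : ∀ x : α, x ∈ coxNodes edges) (hs : Fi.sub certE7 edges f = true)
    (hy : ∀ a < 7, 1 ≤ a → coxLabel edges y (f a) = 2) (hy0 : coxLabel edges y (f 0) = 3)
    (hc : gn edges extra y * ev (fun a => gn edges extra (f a)) Two.w0 =
      ev (fun a => gn edges extra (f a)) Two.w0 * gn edges extra y) :
    Ctx (fun a => gn edges extra (f a)) (gn edges extra y) where
  pre := Fi.pre certE7 f hs
  gg := gn_sq (hn _)
  gt := fun a h1 h2 => gn_comm (hn _) (hn _) (hy a h2 h1)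
  g0 := gn_braid (hn _) (hn _) hy0
  gs := by
    have h2 : gn edges extra y * ev (fun a => gn edges extra (f a)) (rp [6, 5, 4, 3, 2, 1] 5) =
        ev (fun a => gn edges extra (f a)) (rp [6, 5, 4, 3, 2, 1] 5) * gn edges extra y := by
      apply comm_ev
      intro a ha
      have h1 : ∀ a ∈ rp [6, 5, 4, 3, 2, 1] 5, a < 7 ∧ 1 ≤ a := by decide
      exact gn_comm (hn _) (hn _) (hy a (h1 a ha).1 (h1 a ha).2)
    have h3 := (Fi.pre certE7 f hs (extra := extra)).eq check5'
    rw [ev_append] at h3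
    exact comm_prod hc h2 h3

/-- nodes connected with those of `V` -/
def near (edges : List (α × ℕ × α)) : ℕ → List α → List α
  | 0, V => V
  | n + 1, V => near edges n (V ++ (coxNodes edges).filter fun c => V.any fun q => Nat.beq (coxLabel edges q c) 3)

theorem near_mem {x₀ : α} (n : ℕ) (V : List α)
    (hV : ∀ x ∈ V, x ∈ coxNodes edges ∧ gn edges extra x₀ * gn edges extra x ∈ commutator (CoxPresented α edges extra)) :
    ∀ x ∈ near edges n V, gn edges extra x₀ * gn edges extra x ∈ commutator (CoxPresented α edges extra) := by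
  induction n generalizing V with
  | zero => exact fun x hx => (hV x hx).2
  | succ n ih =>
    apply ih
    intro x hx
    rcases List.mem_append.1 hx with hx | hx
    · exact hV x hx
    · rw [List.mem_filter, List.any_eq_true] at hx
      obtain ⟨hxn, q, hq, hq3⟩ := hx
      refine ⟨hxn, ?_⟩
      obtain ⟨h1, h2⟩ := hV q hq
      have h3 := adj_mem (extra := extra) h1 hxn (Nat.eq_of_beq_eq_true hq3)
      have h4 := Subgroup.mul_mem _ h2 h3
      rwa [mul_assoc, ← mul_assoc (gn edges extra q), gn_sq h1, one_mul] at h4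

/-- All products of two nodes of a connected diagram lie in the commutator subgroup. -/
theorem all_mem {x₀ : α} (n : ℕ) (h0 : x₀ ∈ coxNodes edges) (hall : ∀ x : α, x ∈ near edges n [x₀])
    (hn : ∀ x : α, x ∈ coxNodes edges) (x y : α) :
    gn edges extra x * gn edges extra y ∈ commutator (CoxPresented α edges extra) := by
  have h1 : ∀ x, gn edges extra x₀ * gn edges extra x ∈ commutator (CoxPresented α edges extra) := by
    intro x
    refine near_mem n [x₀] ?_ x (hall x)
    intro y hy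
    rw [List.mem_singleton] at hy
    subst hy
    refine ⟨h0, ?_⟩
    rw [gn_sq h0]; exact Subgroup.one_mem _
  have h2 := Subgroup.mul_mem _ (Subgroup.inv_mem _ (h1 x)) (h1 y)
  rw [mul_inv_rev, mul_assoc, inv_mul_cancel_left, inv_eq_of_mul_eq_one_left (gn_sq (hn x))] at h2
  exact h2

end General

/-! ### `Fi₂₃` -/

/-- the nodes of the diagram of type `E₇` -/
def f23 (a : ℕ) : Fi23.Gen := [Fi23.Gen.f, .h, .e, .d, .c, .b, .a].getD a .f

theorem nodes23 (x : Fi23.Gen) : x ∈ coxNodes Fi23.edges := by cases x <;> decide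

theorem w0_23 : ev (fun a => gn Fi23.edges Fi23.extra (f23 a)) Two.w0 = 1 := by
  unfold Two.w0
  rw [ev_rp]
  have h2 : ev (fun a => gn Fi23.edges Fi23.extra (f23 a)) [6, 5, 4, 3, 2, 0, 1] =
      gn Fi23.edges Fi23.extra .a * gn Fi23.edges Fi23.extra .b * gn Fi23.edges Fi23.extra .c *
        gn Fi23.edges Fi23.extra .d * gn Fi23.edges Fi23.extra .e * gn Fi23.edges Fi23.extra .f *
        gn Fi23.edges Fi23.extra .h := by
    simp only [ev_cons, ev_nil, mul_one, mul_assoc]
    rfl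
  rw [h2]
  exact PresentedGroup.one_of_mem (rels := coxRelators Fi23.edges ∪ {r | r ∈ Fi23.extra})
    (x := (Fi23.a * Fi23.b * Fi23.c * Fi23.d * Fi23.e * Fi23.f * Fi23.h) ^ 9) (Or.inr (by
      change _ ∈ Fi23.extra
      unfold Fi23.extra
      simp))

theorem ctx23 : Ctx (fun a => gn Fi23.edges Fi23.extra (f23 a)) (gn Fi23.edges Fi23.extra .g) :=
  ctx_of nodes23 (by decide +kernel) (by decide) (by decide) (by rw [w0_23, mul_one, one_mul])

theorem nc_of_simple {G : Type u} [Group G] (hnc : ¬ ∀ a b : G, a * b = b * a) : ∃ g h : G, g * h ≠ h * g := by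
  push Not at hnc; exact hnc

theorem T_ne23 (hnc : ∃ g h : Fi23, g * h ≠ h * g) :
    FiTwo.T (fun a => gn Fi23.edges Fi23.extra (f23 a)) (gn Fi23.edges Fi23.extra .g) ≠ 1 := by
  refine T_ne_one (j := gn Fi23.edges Fi23.extra .j) ctx23.ss ?_ (gn_braid (nodes23 _) (nodes23 _) (by decide))
    (gn_sq (nodes23 _)) (gn_sq (nodes23 _))
    (ne_of_nc hnc .g .j 11 (by decide) (by decide) (by intro x; cases x <;> decide))
  intro a ha
  have : ∀ a < 7, coxLabel Fi23.edges .j (f23 a) = 2 := by decide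
  exact gn_comm (nodes23 _) (nodes23 _) (this a ha)

theorem fi23_ls_two [IsSimpleGroup Fi23] (hnc : ∃ g h : Fi23, g * h ≠ h * g) : LS.{0, v, w} 2 28 Fi23 :=
  ls_two ctx23 (T_ne23 hnc)

/-! ### `Fi₂₄'` -/

theorem fi24_ls_two [IsSimpleGroup Fi24'] (hnc : ∃ g h : Fi24', g * h ≠ h * g) : LS.{0, v, w} 2 28 Fi24' := by
  have hmem := all_mem (edges := Fi24.edges) (extra := Fi24.extra) (x₀ := .l) 12 (by decide)
    (by intro x; cases x <;> decide) FiTwo.nodes
  obtain ⟨t', g', h1, h2⟩ := ctx_sub (K := commutator Fi24) (z := gn Fi24.edges Fi24.extra .l) FiTwo.ctx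
    (gn_sq (FiTwo.nodes _)) (by
      intro a ha
      have : ∀ a < 7, coxLabel Fi24.edges .l (FiTwo.f7 a) = 2 := by decide
      exact gn_comm (FiTwo.nodes _) (FiTwo.nodes _) (this a ha))
    (gn_comm (FiTwo.nodes _) (FiTwo.nodes _) (by decide)) (fun a ha => hmem _ _) (hmem _ _)
  refine ls_two h1 ?_
  intro h3
  rw [h3] at h2
  refine T_ne_one (j := gn Fi24.edges Fi24.extra .j) FiTwo.ctx.ss ?_
    (gn_braid (FiTwo.nodes _) (FiTwo.nodes _) (by decide)) (gn_sq (FiTwo.nodes _)) (gn_sq (FiTwo.nodes _))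
    (ne_of_nc (Fi24_nc hnc) .g .j 11 (by decide) (by decide) (by intro x; cases x <;> decide)) h2.symm
  intro a ha
  have : ∀ a < 7, coxLabel Fi24.edges .j (FiTwo.f7 a) = 2 := by decide
  exact gn_comm (FiTwo.nodes _) (FiTwo.nodes _) (this a ha)

/-! ### `B` -/

/-- the nodes of the diagram of type `E₇` -/
def fB (a : ℕ) : BabyMonster.Gen :=
  [BabyMonster.Gen.t3, .t9, .t4, .t5, .t6, .t7, .t8].getD a .t3

theorem nodesB (x : BabyMonster.Gen) : x ∈ coxNodes BabyMonster.edges := by cases x <;> decide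

abbrev gB (x : BabyMonster.Gen) : BabyMonster := gn BabyMonster.edges BabyMonster.extra x

theorem preB : Pre certE7 (fun a => gB (fB a)) := Fi.pre certE7 fB (by decide +kernel)

theorem w0_B : ev (fun a => gB (fB a)) Two.w0 = 1 := by
  have h1 : eqW certE7 Two.w0 (rp [3, 2, 0, 4, 5, 6, 1] 9) = true := by decide +kernel
  rw [preB.eq h1, ev_rp]
  have h2 : ev (fun a => gB (fB a)) [3, 2, 0, 4, 5, 6, 1] =
      gB .t5 * gB .t4 * gB .t3 * gB .t6 * gB .t7 * gB .t8 * gB .t9 := by
    simp only [ev_cons, ev_nil, mul_one, mul_assoc]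
    rfl
  rw [h2]
  exact PresentedGroup.one_of_mem (rels := coxRelators BabyMonster.edges ∪ {r | r ∈ BabyMonster.extra})
    (x := (BabyMonster.t5 * BabyMonster.t4 * BabyMonster.t3 * BabyMonster.t6 * BabyMonster.t7 * BabyMonster.t8 *
      BabyMonster.t9) ^ 9) (Or.inr (by
      change _ ∈ BabyMonster.extra
      unfold BabyMonster.extra
      simp))

theorem ctxB : Ctx (fun a => gB (fB a)) (gB .t2) :=
  ctx_of nodesB (by decide +kernel) (by decide) (by decide) (by
    have := w0_B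
    change gB .t2 * ev (fun a => gB (fB a)) Two.w0 = ev (fun a => gB (fB a)) Two.w0 * gB .t2
    rw [this, mul_one, one_mul])

theorem b_ls_two [IsSimpleGroup BabyMonster] (hnc : ∃ g h : BabyMonster, g * h ≠ h * g) :
    LS.{0, v, w} 2 28 BabyMonster := by
  refine ls_two ctxB (T_ne_one (j := gB .t1) ctxB.ss ?_ (gn_braid (nodesB _) (nodesB _) (by decide))
    (gn_sq (nodesB _)) (gn_sq (nodesB _))
    (ne_of_nc hnc .t2 .t1 11 (by decide) (by decide) (by intro x; cases x <;> decide)))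
  intro a ha
  have : ∀ a < 7, coxLabel BabyMonster.edges .t1 (fB a) = 2 := by decide
  exact gn_comm (nodesB _) (nodesB _) (this a ha)

/-! ### `M` -/

/-- the nodes of the diagram of type `E₇` -/
def fM7 (a : ℕ) : Bimonster.Gen := [Bimonster.Gen.c1, .b3, .b1, .a, .b2, .c2, .d2].getD a .a

theorem nodesM (x : Bimonster.Gen) : x ∈ coxNodes Bimonster.edges := by cases x <;> decide

theorem preM : Pre certE7 (fun a => gM (fM7 a)) := Fi.pre certE7 fM7 (by decide +kernel)

theorem w0_M : ev (fun a => gM (fM7 a)) Two.w0 = gM .f2 := by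
  have h1 : eqW certE7 Two.w0 (rp [3, 4, 2, 1, 5, 0, 6] 9) = true := by decide +kernel
  rw [preM.eq h1, ev_rp]
  have h2 : ev (fun a => gM (fM7 a)) [3, 4, 2, 1, 5, 0, 6] =
      gM .a * gM .b2 * gM .b1 * gM .b3 * gM .c2 * gM .c1 * gM .d2 := by
    simp only [ev_cons, ev_nil, mul_one, mul_assoc]
    rfl
  rw [h2]
  have h3 : PresentedGroup.mk (coxRelators Bimonster.edges ∪ {r | r ∈ Bimonster.extra})
      (Bimonster.f2 * (((Bimonster.a * Bimonster.b2 * Bimonster.b1 * Bimonster.b3 * Bimonster.c2 * Bimonster.c1 *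
        Bimonster.d2) ^ 9)⁻¹)) = 1 :=
    PresentedGroup.one_of_mem (Or.inr (by
      change _ ∈ Bimonster.extra
      unfold Bimonster.extra
      simp))
  rw [map_mul, map_inv, map_pow, map_mul, map_mul, map_mul, map_mul, map_mul, map_mul, mul_inv_eq_one] at h3
  exact h3.symm

theorem ctxM : Ctx (fun a => gM (fM7 a)) (gM .d1) :=
  ctx_of nodesM (by decide +kernel) (by decide) (by decide) (by
    have := w0_M
    change gM .d1 * ev (fun a => gM (fM7 a)) Two.w0 = ev (fun a => gM (fM7 a)) Two.w0 * gM .d1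
    rw [this]
    exact gn_comm (nodesM _) (nodesM _) (by decide))

theorem simple_of_equiv {G : Type u} {H : Type v} [Group G] [Group H] (e : G ≃* H) [IsSimpleGroup G] :
    IsSimpleGroup H :=
  e.symm.isSimpleGroup

theorem m_mem : ∀ x y : Bimonster.Gen, gM x * gM y ∈ commutator Bimonster :=
  all_mem (edges := Bimonster.edges) (extra := Bimonster.extra) (x₀ := .a) 6 (by decide)
    (by intro x; cases x <;> decide) nodesM

/-- elements of the Monster -/
theorem m_mem_centr {x : Bimonster.Gen} (hx : coxLabel Bimonster.edges .f3 x = 2) :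
    gM x * gM .f3 ∈ Subgroup.centralizer {gM .f3} ⊓ commutator Bimonster := by
  refine Subgroup.mem_inf.2 ⟨?_, m_mem _ _⟩
  rw [Subgroup.mem_centralizer_singleton_iff]
  have h1 : gM .f3 * gM x = gM x * gM .f3 := gn_comm (nodesM _) (nodesM _) hx
  rw [← mul_assoc, h1]

theorem m_ls_two [IsSimpleGroup Monster] (hnc : ∃ g h : Monster, g * h ≠ h * g) : LS.{0, v, w} 2 28 Monster := by
  obtain ⟨e⟩ := exists_equiv
  have := simple_of_equiv e
  refine LS.congr e.symm ?_
  obtain ⟨t', g', h1, h2⟩ := ctx_sub (K := Subgroup.centralizer {gM .f3} ⊓ commutator Bimonster) (z := gM .f3) ctxM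
    (gn_sq (nodesM _)) (by
      intro a ha
      have : ∀ a < 7, coxLabel Bimonster.edges .f3 (fM7 a) = 2 := by decide
      exact gn_comm (nodesM _) (nodesM _) (this a ha))
    (gn_comm (nodesM _) (nodesM _) (by decide)) (fun a ha => m_mem_centr (by
      have : ∀ a < 7, coxLabel Bimonster.edges .f3 (fM7 a) = 2 := by decide
      exact this a ha)) (m_mem_centr (by decide))
  refine ls_two h1 ?_
  intro h3
  rw [h3] at h2
  refine T_ne_one (j := gM .e1) ctxM.ss ?_
    (gn_braid (nodesM _) (nodesM _) (by decide)) (gn_sq (nodesM _)) (gn_sq (nodesM _))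
    (ne_of_nc (M_nc hnc) .d1 .e1 16 (by decide) (by decide) (by intro x; cases x <;> decide)) h2.symm
  intro a ha
  have : ∀ a < 7, coxLabel Bimonster.edges .e1 (fM7 a) = 2 := by decide
  exact gn_comm (nodesM _) (nodesM _) (this a ha)

/-! ### `Fi₂₂` -/

/-- the nodes of the diagram of type `E₇` -/
def f22 (a : ℕ) : Fi22.Gen := [Fi22.Gen.f, .h, .e, .d, .c, .b, .a].getD a .f

theorem nodes22 (x : Fi22.Gen) : x ∈ coxNodes Fi22.edges := by cases x <;> decide

abbrev g22 (x : Fi22.Gen) : Fi22 := gn Fi22.edges Fi22.extra x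

theorem pre22 : Pre certE7 (fun a => g22 (f22 a)) := Fi.pre certE7 f22 (by decide +kernel)

theorem w0_22 : ev (fun a => g22 (f22 a)) Two.w0 = 1 := by
  unfold Two.w0
  rw [ev_rp]
  have h2 : ev (fun a => g22 (f22 a)) [6, 5, 4, 3, 2, 0, 1] =
      g22 .a * g22 .b * g22 .c * g22 .d * g22 .e * g22 .f * g22 .h := by
    simp only [ev_cons, ev_nil, mul_one, mul_assoc]
    rfl
  rw [h2]
  exact PresentedGroup.one_of_mem (rels := coxRelators Fi22.edges ∪ {r | r ∈ Fi22.extra})
    (x := (Fi22.a * Fi22.b * Fi22.c * Fi22.d * Fi22.e * Fi22.f * Fi22.h) ^ 9) (Or.inr (by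
      change _ ∈ Fi22.extra
      unfold Fi22.extra
      simp))

theorem ctx22 : Ctx (fun a => g22 (f22 a)) (g22 .g) :=
  ctx_of nodes22 (by decide +kernel) (by decide) (by decide) (by
    have := w0_22
    change g22 .g * ev (fun a => g22 (f22 a)) Two.w0 = ev (fun a => g22 (f22 a)) Two.w0 * g22 .g
    rw [this, mul_one, one_mul])

section Abstract

variable {G : Type u} [Group G]

/-- expansion of the letter 7 -/
def exW : List ℕ → List ℕ
  | [] => []
  | a :: l => if a = 7 then ths ++ exW l else a :: exW l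

theorem comm_exW {t : ℕ → G} {i : G} (hi : ∀ a < 7, a ≠ 1 → i * t a = t a * i) (hs : i * ev t ths = ev t ths * i)
    {l : List ℕ} (hl : ∀ a ∈ l, a ≤ 7 ∧ a ≠ 1) : i * ev t (exW l) = ev t (exW l) * i := by
  induction l with
  | nil => simp [exW]
  | cons a l ih =>
    have ih' := ih fun b hb => hl b (List.mem_cons_of_mem _ hb)
    obtain ⟨h1, h2⟩ := hl a List.mem_cons_self
    unfold exW
    split_ifs with h7
    · rw [ev_append, ← mul_assoc, hs, mul_assoc, ih', mul_assoc]
    · rw [ev_cons, ← mul_assoc, hi a (by omega) h2, mul_assoc, ih', mul_assoc]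

theorem ev_one (t : ℕ → G) (a : ℕ) : ev t [a] = t a := by rw [ev_cons, ev_nil, mul_one]

theorem degenerate {t : ℕ → G} {i : G} (hpre : Pre certE7 t) (hw0 : ev t Two.w0 = 1)
    (hi : ∀ a < 7, a ≠ 1 → i * t a = t a * i) (hs : i * ev t ths = ev t ths * i) (hii : i * i = 1)
    (hb : i * t 1 * i = t 1 * i * t 1) : t 6 * t 5 = 1 := by
  by_contra hne
  have ht1 : t 1 * t 1 = 1 := hpre.sq (by norm_num)
  obtain ⟨r, hr⟩ : ∃ r, r = ev t [3, 2, 4, 3, 1, 3, 4, 2, 3] := ⟨_, rfl⟩
  have hrr : r * r = 1 := by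
    have : eqW certE7 ([3, 2, 4, 3, 1, 3, 4, 2, 3] ++ [3, 2, 4, 3, 1, 3, 4, 2, 3]) [] = true := by decide +kernel
    have h1 := hpre.eq this
    rwa [ev_append, ev_nil, ← hr] at h1
  have hrt : r * t 1 = t 1 * r := by
    have : eqW certE7 ([3, 2, 4, 3, 1, 3, 4, 2, 3] ++ [1]) ([1] ++ [3, 2, 4, 3, 1, 3, 4, 2, 3]) = true := by
      decide +kernel
    have h1 := hpre.eq this
    rwa [ev_append, ev_append, ev_one, ← hr] at h1
  obtain ⟨U, hU⟩ : ∃ U, U = ev t [3, 2, 4, 3] := ⟨_, rfl⟩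
  have hUr : r = U * t 1 * U⁻¹ := by
    rw [hU, ← hpre.ev_reverse (w := [3, 2, 4, 3]) (by decide), hr]
    have : ([3, 2, 4, 3, 1, 3, 4, 2, 3] : List ℕ) = [3, 2, 4, 3] ++ ([1] ++ [3, 2, 4, 3].reverse) := by decide
    rw [this, ev_append, ev_append, ev_one, mul_assoc]
  have hiU : i * U = U * i := by
    rw [hU]
    exact comm_ev fun a ha => by
      have : ∀ a ∈ [3, 2, 4, 3], a < 7 ∧ a ≠ 1 := by decide
      exact hi a (this a ha).1 (this a ha).2
  have hir : i * r * i = r * i * r := by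
    have e1 : U⁻¹ * i = i * U⁻¹ := by rw [inv_mul_eq_iff_eq_mul, ← mul_assoc, ← hiU]; group
    calc i * r * i = (i * U) * t 1 * (U⁻¹ * i) := by rw [hUr]; group
      _ = U * (i * t 1 * i) * U⁻¹ := by rw [hiU, e1]; group
      _ = U * t 1 * i * t 1 * U⁻¹ := by rw [hb]; group
      _ = U * t 1 * (U⁻¹ * (U * i)) * t 1 * U⁻¹ := by group
      _ = U * t 1 * (U⁻¹ * (i * U)) * t 1 * U⁻¹ := by rw [hiU]
      _ = r * i * r := by rw [hUr]; group
  -- the element `j`
  obtain ⟨q, hq⟩ : ∃ q, q = r * t 1 := ⟨_, rfl⟩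
  have hqq : q * q = 1 := by
    calc q * q = r * (t 1 * r) * t 1 := by rw [hq]; group
      _ = (r * r) * (t 1 * t 1) := by rw [← hrt]; group
      _ = 1 := by rw [hrr, ht1, one_mul]
  have hqi : q⁻¹ = q := inv_eq_of_mul_eq_one_left hqq
  obtain ⟨j, hj⟩ : ∃ j, j = q * i * q := ⟨_, rfl⟩
  have hjj : j * j = 1 := by
    calc j * j = q * (i * (q * q) * i) * q := by rw [hj]; group
      _ = 1 := by rw [hqq, mul_one, hii, mul_one, hqq]
  have hcomm : i * j = j * i := by
    have e1 : (i * t 1) * i * (i * t 1)⁻¹ = t 1 := (Two.conj_of_braid hb).symm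
    have e2 : (i * t 1)⁻¹ * r * (i * t 1) = j := by
      have e3 : (i * t 1)⁻¹ = t 1 * i := by
        rw [mul_inv_rev, inv_eq_of_mul_eq_one_left hii, inv_eq_of_mul_eq_one_left ht1]
      rw [e3]
      calc t 1 * i * r * (i * t 1) = t 1 * (i * r * i) * t 1 := by group
        _ = (t 1 * r) * i * (r * t 1) := by rw [hir]; group
        _ = j := by rw [hj, hq, hrt]
    rw [← e2]
    have e4 : r * ((i * t 1) * i * (i * t 1)⁻¹) = ((i * t 1) * i * (i * t 1)⁻¹) * r := by rw [e1, hrt]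
    calc i * ((i * t 1)⁻¹ * r * (i * t 1))
        = (i * t 1)⁻¹ * (((i * t 1) * i * (i * t 1)⁻¹) * r) * (i * t 1) := by group
      _ = (i * t 1)⁻¹ * (r * ((i * t 1) * i * (i * t 1)⁻¹)) * (i * t 1) := by rw [e4]
      _ = _ := by group
  -- the double coset
  have hdc : q = ev t (exW [0, 7, 2, 3, 4, 0, 2, 3]) * t 1 * ev t (exW [4, 3, 2, 0, 7, 4, 3, 2, 0, 2, 4, 6]) := by
    have h1 : eqW certE7 ([3, 2, 4, 3, 1, 3, 4, 2, 3] ++ [1]) (exW [0, 7, 2, 3, 4, 0, 2, 3] ++ ([1] ++
      (exW [4, 3, 2, 0, 7, 4, 3, 2, 0, 2, 4, 6] ++ Two.w0))) = true := by decide +kernel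
    have h2 := hpre.eq h1
    rw [ev_append, ev_append, ev_append, ev_append, hw0, mul_one, ev_one] at h2
    rw [hq, hr, h2, mul_assoc]
  have c1 := comm_exW hi hs (l := [0, 7, 2, 3, 4, 0, 2, 3]) (by decide)
  have c2 := comm_exW hi hs (l := [4, 3, 2, 0, 7, 4, 3, 2, 0, 2, 4, 6]) (by decide)
  generalize ev t (exW [0, 7, 2, 3, 4, 0, 2, 3]) = S1 at hdc c1
  generalize ev t (exW [4, 3, 2, 0, 7, 4, 3, 2, 0, 2, 4, 6]) = S2 at hdc c2
  have hj2 : j = S2⁻¹ * (t 1 * i * t 1) * S2 := by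
    have e1 : q⁻¹ * i * q = S2⁻¹ * (t 1 * i * t 1) * S2 := by
      have e2 : (t 1)⁻¹ = t 1 := inv_eq_of_mul_eq_one_left ht1
      calc q⁻¹ * i * q = S2⁻¹ * (t 1)⁻¹ * S1⁻¹ * (i * S1) * t 1 * S2 := by rw [hdc]; group
        _ = S2⁻¹ * (t 1)⁻¹ * i * t 1 * S2 := by rw [c1]; group
        _ = _ := by rw [e2]; group
    rw [hj, ← e1, hqi]
  have hbr : i * j * i = j * i * j := by
    have e1 : i * (t 1 * i * t 1) * i = t 1 := by
      rw [← hb]
      calc i * (i * t 1 * i) * i = (i * i) * t 1 * (i * i) := by group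
        _ = t 1 := by rw [hii, one_mul, mul_one]
    have e2 : (t 1 * i * t 1) * i * (t 1 * i * t 1) = t 1 := by
      calc (t 1 * i * t 1) * i * (t 1 * i * t 1) = t 1 * (i * (t 1 * i * t 1) * i) * t 1 := by group
        _ = t 1 := by rw [e1, ht1, one_mul]
    have e3 : S2 * i * S2⁻¹ = i := by rw [← c2]; group
    calc i * j * i = S2⁻¹ * ((S2 * i * S2⁻¹) * (t 1 * i * t 1) * (S2 * i * S2⁻¹)) * S2 := by rw [hj2]; group
      _ = S2⁻¹ * ((t 1 * i * t 1) * (S2 * i * S2⁻¹) * (t 1 * i * t 1)) * S2 := by rw [e3, e1, e2]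
      _ = j * i * j := by rw [hj2]; group
  have hij : i = j := by
    have e1 : i * j * i = j := by rw [hcomm, mul_assoc, hii, mul_one]
    have e2 : j * i * j = i := by rw [← hcomm, mul_assoc, hjj, mul_one]
    rw [← e2, ← hbr, e1]
  have hiq : i * q * i = q := by
    have e1 : i = q * i * q := hij.trans hj
    calc i * q * i = (q * i * q) * q * i := by rw [← e1]
      _ = q * i * (q * q) * i := by group
      _ = q := by rw [hqq, mul_one, mul_assoc, hii, mul_one]
  have hq1 : q = 1 := by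
    calc q = i * q * i := hiq.symm
      _ = (i * r * i) * (i * t 1 * i) := by
          calc i * q * i = i * r * (i * i) * t 1 * i := by rw [hii, hq]; group
            _ = _ := by group
      _ = r * (i * q * i) * t 1 := by rw [hir, hb, hq]; group
      _ = (r * r) * (t 1 * t 1) := by rw [hiq, hq]; group
      _ = 1 := by rw [hrr, ht1, one_mul]
  refine hpre.ne_one (x := [3, 2, 4, 3, 1, 3, 4, 2, 3, 1]) [5] [3, 2, 1, 3, 4, 5, 6, 5, 4] (a := 6) (b := 5) hne
    (by decide) (by decide) (by decide) (by decide +kernel) ?_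
  have : ([3, 2, 4, 3, 1, 3, 4, 2, 3, 1] : List ℕ) = [3, 2, 4, 3, 1, 3, 4, 2, 3] ++ [1] := by decide
  rw [this, ev_append, ev_one, ← hr, ← hq]
  exact hq1

end Abstract

theorem T_ne22 (hnc : ∃ g h : Fi22, g * h ≠ h * g) : FiTwo.T (fun a => g22 (f22 a)) (g22 .g) ≠ 1 := by
  intro hT
  have h1 : g22 .g = ev (fun a => g22 (f22 a)) ths := by
    unfold FiTwo.T at hT
    rw [← inv_eq_of_mul_eq_one_left ctx22.ss]
    exact eq_inv_of_mul_eq_one_left hT
  refine ne_of_nc hnc .a .b 8 (by decide) (by decide) (by intro x; cases x <;> decide) (edges := Fi22.edges)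
    (extra := Fi22.extra) ?_
  refine degenerate (t := fun a => g22 (f22 a)) (i := g22 .i) pre22 w0_22 ?_ ?_ (gn_sq (nodes22 _))
    (gn_braid (nodes22 _) (nodes22 _) (by decide))
  · intro a ha h1
    have : ∀ a < 7, a ≠ 1 → coxLabel Fi22.edges .i (f22 a) = 2 := by decide
    exact gn_comm (nodes22 _) (nodes22 _) (this a ha h1)
  · rw [← h1]
    exact gn_comm (nodes22 _) (nodes22 _) (by decide)

theorem fi22_ls_two [IsSimpleGroup Fi22] (hnc : ∃ g h : Fi22, g * h ≠ h * g) : LS.{0, v, w} 2 28 Fi22 :=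
  ls_two ctx22 (T_ne22 hnc)

end Cfsg.Agent.H806.Ls
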