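import Cfsg.Agent.H747.RowTwo
import Cfsg.Agent.H763.RgdSimple
import Cfsg.Agent.ClosedTwo.LieTwo

/-!
# The row of S5161 for the groups of Lie type of characteristic 2 (helper806)

* `NormRow.of_ti` : a Sylow 2-subgroup which meets its other conjugates trivially;
* `oddRow_of_rgd` : root group data of rank at least two;
* `normRow_of_rgd_one` : root group data of rank one;
* `row_sz`, `row_twF4` : `Sz(q)`, `²F₄(q)`;
* `row_char2 : IsLieTypeChar 2 K → RowTwo K`.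
-/

set_option autoImplicit false
set_option linter.unusedSectionVars false

namespace Cfsg.Agent.H806.RowCharTwo

open Cfsg Cfsg.Agent.H747
open CoxeterSystem Cfsg.Agent.ChevalleyStructure.CoxeterGeom Cfsg.Agent.Tits.Roots Cfsg.Agent.Tits.Core
  Cfsg.Agent.Nodes.Reps Cfsg.Agent.Nodes.BNOf Cfsg.Agent.Nodes.StabComb
  Cfsg.Agent.Nodes.Bruhat Cfsg.Agent.Nodes.OppDec Cfsg.Agent.Nodes.FreeTorus Cfsg.Agent.KFacts.RgdCharP
  Cfsg.Agent.Nodes.LeviDec Cfsg.Agent.KFacts.RgdVJ Cfsg.Agent.KFacts.RgdFilt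
  Cfsg.Agent.H763.Abs Cfsg.Agent.H763.Rgd Cfsg.Agent.ClosedTwo

/-- A Sylow 2-subgroup which meets its other conjugates trivially. -/
theorem normRow_of_ti {K : Type*} [Group K] (T : Sylow 2 K)
    (h : ∀ x ∈ (T : Subgroup K), x ≠ 1 → ∀ g : K, g * x * g⁻¹ ∈ (T : Subgroup K) →
      g ∈ Subgroup.normalizer ((T : Subgroup K) : Set K)) : NormRow K := by
  refine ⟨T, fun P g hP hg => ?_⟩
  by_cases hP1 : P = ⊥
  · subst hP1
    refine ⟨1, one_mem _, fun x hx => ?_⟩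
    rw [Subgroup.mem_bot.1 hx]
    group
  · obtain ⟨⟨x, hx⟩, hx1⟩ := Subgroup.ne_bot_iff_exists_ne_one.1 hP1
    have hx1' : x ≠ 1 := fun h0 => hx1 (Subtype.ext h0)
    exact ⟨g, h x (hP hx) hx1' g (hg x hx), fun _ _ => rfl⟩

section Rgd

variable {I W Y : Type*} [Fintype I] [DecidableEq I] [Group W] [Group Y] {M : CoxeterMatrix I}
  {cs : CoxeterSystem M W} {A : I → I → ℤ} {h : IsCartan M A} {T : Subgroup Y} {n : I → Y}
  {X : (I → ℤ) → Subgroup Y}

theorem pow_of_isPGroup {U : Subgroup Y} (hU : IsPGroup 2 U) {x : Y} (hx : x ∈ U) : ∃ k : ℕ, x ^ 2 ^ k = 1 := by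
  obtain ⟨k, hk⟩ := hU ⟨x, hx⟩
  exact ⟨k, congrArg Subtype.val hk⟩

theorem le_twoGen {U R : Subgroup Y} (hU : IsPGroup 2 U) (hUR : U ≤ Subgroup.normalizer (R : Set Y)) :
    U ≤ twoGen R := fun _ hx => Subgroup.subset_closure ⟨hUR hx, pow_of_isPGroup hU hx⟩

theorem exists_sylow_UU [Finite W] [Finite Y] (R : RGD cs h 2 T n X)
    (hGG : GG cs h T X = ⊤) : ∃ S : Sylow 2 Y, (S : Subgroup Y) = UU cs h X := by
  have : Fact (Nat.Prime 2) := ⟨Nat.prime_two⟩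
  obtain ⟨S', hS'⟩ := R.isPGroup_Upos.exists_le_sylow
  exact ⟨S', Cfsg.Agent.Nodes.NormalForm.eq_U_of_isPGroup R S'.2 hS' (by rw [hGG]; exact le_top)⟩

/-- Root group data of rank at least two. -/
theorem oddRow_of_rgd [Finite W] [Finite Y] [IsSimpleGroup Y] [Nontrivial I] (R : RGD cs h 2 T n X)
    (hc : ∃ a b : Y, a * b ≠ b * a) (hG : RGD.Sup X {x | IsRoot cs h x} = ⊤) : OddRow Y := by
  have hp : Fact (Nat.Prime 2) := ⟨Nat.prime_two⟩
  have hGG := H763.Simp.GG_top R hc hG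
  obtain ⟨S, hS⟩ := exists_sylow_UU R hGG
  refine ⟨S, fun H hH => ?_⟩
  rw [hS] at hH ⊢
  have hU2 : IsPGroup 2 (UU cs h X) := R.isPGroup_Upos
  refine H763.Simp.normalizer_le R hc hG hH.1 fun i t ht => ?_
  obtain ⟨htL, htH⟩ := Subgroup.mem_inf.1 ht
  have htT : t ∈ T := Torus.HH_le R hGG htH
  have htB : t ∈ RGD.B cs h T X := RGD.T_le_B htT
  refine hH.gen (R := VV cs h X i) (VV_le i) (U_norm_V R i)
    (fun x hx => H763.Simp.cent_VV R hc hG i hx.2) (R.B_le_normalizer_U htB) ?_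
  have hX : X (sr i) ≤ twoGen (VV cs h X i) := le_trans (X_le_UU i) (le_twoGen hU2 (U_norm_V R i))
  have hL : LL X (sr i) ≤ twoGen (VV cs h X i) := by
    unfold LL
    refine sup_le hX ?_
    have h2 : cj (n i) (X (sr i)) = X (-sr i) := by
      rw [R.conj i _ (isRoot_sr cs h i), rep_simple_sr]
    rw [← h2]
    intro y hy
    rw [mem_cj] at hy
    have h3 := X_le_UU (cs := cs) (h := h) i hy
    obtain ⟨k, hk⟩ := pow_of_isPGroup hU2 h3
    have e : y = n i * ((n i)⁻¹ * y * n i) * (n i)⁻¹ := by group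
    refine Subgroup.subset_closure ⟨?_, k, ?_⟩
    · rw [e]
      exact mul_mem (mul_mem (n_norm_V R i) (U_norm_V R i h3)) (inv_mem (n_norm_V R i))
    · rw [e, conj_pow, hk, mul_one, mul_inv_cancel]
  exact hL htL

/-- Root group data of rank one. -/
theorem normRow_of_rgd_one [Finite W] [Finite Y] [Subsingleton I] [Nonempty I] (R : RGD cs h 2 T n X)
    (hGG : GG cs h T X = ⊤) : NormRow Y := by
  have hp : Fact (Nat.Prime 2) := ⟨Nat.prime_two⟩
  obtain ⟨S, hS⟩ := exists_sylow_UU R hGG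
  refine normRow_of_ti S fun x hx hx1 g hg => ?_
  rw [hS] at hx hg ⊢
  exact R.B_le_normalizer_U (Filt.mem_B_rank_one R hGG hx hx1 hg)

end Rgd

section Filt

/-- a simple group with root group data is not commutative -/
theorem not_comm_of_filt {G : Type*} [Group G] [IsSimpleGroup G] (hG : HasFilt 2 G) :
    ∃ a b : G, a * b ≠ b * a := by
  obtain ⟨l, M, A, h, T, n, X, R, F, hW, hX, hF⟩ := hG
  by_contra hno
  push Not at hno
  rcases Nat.eq_zero_or_pos l with h0 | h0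
  · subst h0
    have h1 : (⊤ : Subgroup G) = ⊥ := by
      rw [← hX, eq_bot_iff]
      refine RGD.Sup_le fun x hx => ?_
      obtain ⟨w, i, -⟩ := hx
      exact i.elim0
    exact top_ne_bot h1
  · let i : Fin l := ⟨0, h0⟩
    have h1 : (X (sr i)).Normal := ⟨fun x hx g => by rw [hno g x, mul_assoc, mul_inv_cancel, mul_one]; exact hx⟩
    rcases h1.eq_bot_or_eq_top with h2 | h2
    · exact Nodes.Bruhat.X_ne_bot R (isRoot_sr _ _ i) h2
    · apply R.notp i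
      have h3 : X (sr i) ⊔ X (-sr i) = X (sr i) := by rw [h2, top_sup_eq]
      rw [h3]
      exact R.pgrp i

theorem rowTwo_of_filt {G : Type*} [Group G] [Finite G] [IsSimpleGroup G] (hG : HasFilt 2 G) : RowTwo G := by
  have hp : Fact (Nat.Prime 2) := ⟨Nat.prime_two⟩
  have hc := not_comm_of_filt hG
  obtain ⟨l, M, A, h, T, n, X, R, hW, hBT, hGG, hN, hconn, hX, hl⟩ := hG.data hc
  by_cases hl1 : l = 1
  · subst hl1
    exact Or.inr (normRow_of_rgd_one R hGG)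
  · have : Nontrivial (Fin l) := Fin.nontrivial_iff_two_le.2 (by omega)
    exact Or.inl (oddRow_of_rgd R hc hX)

end Filt

/-! ### the Suzuki groups -/

theorem row_sz {J : Type*} [Group J] [Finite J] (h : Cfsg.Lie.IsoSuzuki J) : RowTwo J := by
  obtain ⟨F, iF, iF', m, hm, hF, ⟨R⟩⟩ := Cfsg.Agent.ThreePrime.SzRel.exists_rel h
  obtain ⟨Q, hQ⟩ := R.exists_sylow_eq hm hF
  refine Or.inr (normRow_of_ti Q fun x hx hx1 g hg => ?_)
  rw [hQ] at hx hg ⊢
  exact R.ti hx hx1 hg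

/-! ### the Ree groups of type `²F₄` -/

section TwF4

open Cfsg.Agent.KFacts.TwF4 Cfsg.Agent.KFacts.TwF4.Arc Cfsg.Agent.KFacts.TwF4.Irr Cfsg.Agent.KFacts.TwF4.Inv
  Cfsg.Agent.SplitTwo.ZS

universe u

variable {F : Type*} [Field F] [Finite F] {σ : F →+* F} {G : Type u} [Group G] [Finite G] (S : Full σ G)

theorem norm_Q : J S.XZ 0 8 ≤ Subgroup.normalizer (J S.XZ 1 7 : Set G) :=
  S.zsys8.le_normalizer (a := 1) (b := 7) (by norm_num)

theorem norm_R : J S.XZ 1 9 ≤ Subgroup.normalizer (J S.XZ 2 8 : Set G) :=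
  S.zsys8.le_normalizer (a := 2) (b := 8) (by norm_num)

theorem h_norm (c d : Fˣ) (a b : ℤ) : S.h c d ∈ Subgroup.normalizer (J S.XZ a b : Set G) := by
  have hT : S.h c d ∈ S.T := S.mem_T.2 ⟨c, d, rfl⟩
  rw [Subgroup.mem_normalizer_iff]
  intro x
  refine ⟨fun hx => S.T_conj_J hT hx, fun hx => ?_⟩
  have h1 := S.T_conj_J (inv_mem hT) hx
  rwa [show (S.h c d)⁻¹ * (S.h c d * x * (S.h c d)⁻¹) * (S.h c d)⁻¹⁻¹ = x by group] at h1

/-- the torus of the first rank one group -/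
theorem h_diag (hR : S.R.p = 2) (x : Fˣ) : S.h x x ∈ twoGen (J S.XZ 2 8) := by
  have h1 : S.XZ 1 ≤ twoGen (J S.XZ 2 8) :=
    le_twoGen (two_X S hR 1) ((X_le_J (by norm_num) (by norm_num)).trans (norm_R S))
  have h9 : S.XZ 9 ≤ twoGen (J S.XZ 2 8) :=
    le_twoGen (two_X S hR 9) ((X_le_J (by norm_num) (by norm_num)).trans (norm_R S))
  have hn : S.n1 ∈ S.XZ 1 ⊔ S.XZ 9 := n1_mem_of S le_sup_left le_sup_right
  have hT : S.h x 1 ∈ S.T := S.mem_T.2 ⟨x, 1, rfl⟩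
  have hc : S.XZ 1 ⊔ S.XZ 9 ≤ (S.XZ 1 ⊔ S.XZ 9).comap (MulAut.conj (S.h x 1)).toMonoidHom :=
    sup_le (fun y hy => Subgroup.mem_sup_left (S.T_conj hT 1 hy))
      (fun y hy => Subgroup.mem_sup_right (S.T_conj hT 9 hy))
  have hn' : S.h x 1 * S.n1 * (S.h x 1)⁻¹ ∈ S.XZ 1 ⊔ S.XZ 9 := hc hn
  have h2 := mul_mem hn' (inv_mem hn)
  have e1 : S.h x 1 * S.n1 * (S.h x 1)⁻¹ * S.n1⁻¹ = S.h x 1 * (S.n1 * (S.h x 1)⁻¹ * S.n1⁻¹) := by group
  rw [e1, S.h_inv, S.n1_h, S.h_mul] at h2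
  simp only [inv_one, mul_one, one_mul, inv_inv] at h2
  exact (sup_le h1 h9 : _ ≤ twoGen (J S.XZ 2 8)) h2

/-- the torus of the second rank one group -/
theorem h_sig (hR : S.R.p = 2) (y : Fˣ) : S.h (Units.map (σ : F →* F) y) y ∈ twoGen (J S.XZ 1 7) := by
  have h0 : S.XZ 0 ≤ twoGen (J S.XZ 1 7) :=
    le_twoGen (two_X S hR 0) ((X_le_J (by norm_num) (by norm_num)).trans (norm_Q S))
  have h8 : S.XZ 8 ≤ twoGen (J S.XZ 1 7) :=
    le_twoGen (two_X S hR 8) ((X_le_J (by norm_num) (by norm_num)).trans (norm_Q S))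
  exact (sup_le h0 h8 : L4 S ≤ _) (h_mem_L4 S y)

theorem oddRow_full (hF : ∃ c : Fˣ, c ≠ 1) (hR : S.R.p = 2) : OddRow G := by
  obtain ⟨P, hP⟩ := SylU.exists_sylow S hF hR
  refine ⟨P, fun H hH g hg => ?_⟩
  rw [hP] at hH hg
  obtain ⟨b, hb, t, ht, rfl⟩ := SylU.norm_U S hF hR (Subgroup.mem_normalizer_iff.1 hg)
  obtain ⟨c, d, rfl⟩ := S.mem_T.1 ht
  refine mul_mem (hH.1 hb) ?_
  have hd1 : ∀ x : Fˣ, S.h x x ∈ H := by
    intro x
    refine hH.gen (R := J S.XZ 2 8) (J_mono (by norm_num) le_rfl)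
      ((J_mono le_rfl (by norm_num)).trans (norm_R S)) ?_ (h_norm S x x 1 8) (h_diag S hR x)
    rintro y ⟨-, hy⟩
    rw [S.centralizer_J28] at hy
    exact J_mono (by norm_num) (by norm_num) (S.W46_le hy)
  have hd2 : ∀ y : Fˣ, S.h (Units.map (σ : F →* F) y) y ∈ H := by
    intro y
    refine hH.gen (R := J S.XZ 1 7) (J_mono le_rfl (by norm_num))
      ((J_mono (by norm_num) le_rfl).trans (norm_Q S)) ?_ (h_norm S _ y 1 8) (h_sig S hR y)
    rintro x ⟨-, hx⟩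
    have hx' : x ∈ S.Zc 2 := by
      rw [← S.centralizer_Q]
      exact hx
    exact mem_J (S.Zc_le 2 hx') (by norm_num) (by norm_num)
  -- `y = σ z z`, `z = c / d`
  obtain ⟨z, hz⟩ : ∃ z : Fˣ, z = c / d := ⟨_, rfl⟩
  obtain ⟨y, hy⟩ : ∃ y : Fˣ, y = Units.map (σ : F →* F) z * z := ⟨_, rfl⟩
  have h1 : Units.map (σ : F →* F) y = z * y := by
    rw [hy, map_mul, map_map σ S.sq, pow_two, mul_assoc z z, mul_comm z (Units.map (σ : F →* F) z)]
  have h2 := mul_mem (hd1 (d / y)) (hd2 y)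
  rw [S.h_mul, h1] at h2
  have e1 : d / y * (z * y) = c := by
    rw [hz, mul_comm (c / d) y, ← mul_assoc, div_mul_cancel, mul_div_cancel]
  have e2 : d / y * y = d := div_mul_cancel d y
  rwa [e1, e2] at h2

end TwF4

theorem row_twF4 {H : Type*} [Group H] [Finite H] (h : Cfsg.Lie.Iso2F4 H) : RowTwo H := by
  obtain ⟨K, iK, iK', m, hm, hK, ⟨e⟩⟩ := h
  obtain ⟨φ, hφ⟩ := Cfsg.Agent.ChevalleyStructure.TwF4.TwistedFix.exists_rln hK
  have := Cfsg.Agent.ChevalleyStructure.TwF4.Twisted.charP_two hK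
  have hfin : Finite ↥(Cfsg.Lie.twistedF4 K (2 ^ m)) := inferInstance
  have hF : ∃ c : Kˣ, c ≠ 1 := by
    have h1 : 1 < Nat.card Kˣ := by
      rw [Nat.card_units, Nat.card_eq_fintype_card, hK]
      have : 2 ^ 3 ≤ 2 ^ (2 * m + 1) := Nat.pow_le_pow_right (by norm_num) (by omega)
      omega
    have h2 : Nontrivial Kˣ := Finite.one_lt_card_iff_nontrivial.1 h1
    exact exists_ne 1
  exact RowTwo.congr e.symm
    (Or.inl (oddRow_full (Cfsg.Agent.KFacts.TwF4.Inst.full hK hφ) hF rfl))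

/-! ### all groups of Lie type of characteristic 2 -/

open Cfsg.Agent.KFacts.RgdLieCharP in
/-- **The row of the groups of Lie type of characteristic 2.** -/
theorem row_char2 {K : Type*} [Group K] [Finite K] [IsSimpleGroup K] (h : Cfsg.IsLieTypeChar 2 K) : RowTwo K := by
  rcases h with h | h | h | h | h | h | h | h | ⟨-, h⟩ | ⟨-, h⟩ | ⟨h, -⟩
  · exact rowTwo_of_filt (hasFilt_of_lie (Or.inl h))
  · exact rowTwo_of_filt (hasFilt_of_lie (Or.inr (Or.inl h)))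
  · exact rowTwo_of_filt (hasFilt_of_lie (Or.inr (Or.inr (Or.inl h))))
  · exact rowTwo_of_filt (hasFilt_of_lie (Or.inr (Or.inr (Or.inr (Or.inl h)))))
  · exact rowTwo_of_filt (hasFilt_of_lie (Or.inr (Or.inr (Or.inr (Or.inr (Or.inl h))))))
  · exact rowTwo_of_filt (hasFilt_of_lie (Or.inr (Or.inr (Or.inr (Or.inr (Or.inr (Or.inl h)))))))
  · exact rowTwo_of_filt (hasFilt_of_lie (Or.inr (Or.inr (Or.inr (Or.inr (Or.inr (Or.inr (Or.inl h))))))))
  · exact rowTwo_of_filt (hasFilt_of_lie (Or.inr (Or.inr (Or.inr (Or.inr (Or.inr (Or.inr (Or.inr h))))))))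
  · exact row_sz h
  · exact row_twF4 h
  · exact absurd h (by norm_num)

end Cfsg.Agent.H806.RowCharTwo
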