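import Mathlib

/-!
# An involution normalising a Sylow 3-subgroup: the core computation

Let `V` be an abelian group of exponent two on which a group `H` acts through `ρ`, `P` a finite
subgroup of `H` of odd order without non-trivial fixed points on `V`, `r` an involution normalising
`P` and not centralising it, `m ∈ V` fixed by `r`.  If `m` satisfies the norm conditions expressing
that `m r` is a 3-transposition with its conjugates under `P`, then `m = u * r u` for some `u`.
-/

set_option autoImplicit false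

namespace Cfsg.Agent.H806.SylowInv

variable {V H : Type*} [CommGroup V] [Group H] (ρ : H →* MulAut V)

/-- the norm under an element of order three -/
def nm (x : H) (v : V) : V := v * ρ x v * ρ (x * x) v

theorem nm_mul (x : H) (v w : V) : nm ρ x (v * w) = nm ρ x v * nm ρ x w := by
  simp only [nm, map_mul]
  rw [mul_mul_mul_comm v w, mul_mul_mul_comm (v * _) _]

theorem nm_apply {x : H} (hx : x ^ 3 = 1) (v : V) : nm ρ x (ρ x v) = nm ρ x v := by
  have h1 : ρ x (ρ x v) = ρ (x * x) v := by rw [map_mul]; rfl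
  have h2 : ρ (x * x) (ρ x v) = v := by
    have : ρ (x * x) (ρ x v) = ρ (x * x * x) v := by rw [map_mul ρ (x * x) x]; rfl
    rw [this]
    have : x * x * x = 1 := by rw [← hx, pow_succ, pow_two]
    rw [this]; simp
  simp only [nm, h1, h2]
  rw [mul_comm _ v, ← mul_assoc]

theorem free_piece (hV : ∀ v : V, v * v = 1) {s x : H} {v : V} (hs : s * s = 1)
    (hsx : s * x * s = x⁻¹) (hx : x ^ 3 = 1) (hsv : ρ s v = v) (hN : nm ρ x v = 1) :
    v = ρ x v * ρ s (ρ x v) := by
  have hx3 : x * x * x = 1 := by rw [← hx, pow_succ, pow_two]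
  have hxi : x⁻¹ = x * x := inv_eq_of_mul_eq_one_left hx3
  have hsi : s⁻¹ = s := inv_eq_of_mul_eq_one_left hs
  have e1 : ρ s (ρ x v) = ρ (x * x) v := by
    calc ρ s (ρ x v) = ρ (s * x) v := by rw [map_mul]; rfl
      _ = ρ (x⁻¹ * s) v := by rw [← hsx, mul_assoc, hs, mul_one]
      _ = ρ x⁻¹ (ρ s v) := by rw [map_mul]; rfl
      _ = ρ (x * x) v := by rw [hsv, hxi]
  rw [e1]
  have h2 : v * (ρ x v * ρ (x * x) v) = 1 := by rw [← mul_assoc]; exact hN
  have h3 : v⁻¹ = v := inv_eq_of_mul_eq_one_left (hV v)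
  calc v = v⁻¹ := h3.symm
    _ = _ := inv_eq_of_mul_eq_one_right h2

theorem rho_mul (a b : H) (v : V) : ρ (a * b) v = ρ a (ρ b v) := by rw [map_mul]; rfl

variable {ρ} in
theorem centralizer_step (hV : ∀ v : V, v * v = 1) {P : Subgroup H} {r : H} (hr : r * r = 1)
    {m : V} (hm : ρ r m = m)
    (hN : ∀ p ∈ P, r * p * r * p⁻¹ ≠ 1 → (r * p * r * p⁻¹) ^ 3 = 1 ∧
      nm ρ (r * p * r * p⁻¹) m * nm ρ (r * p * r * p⁻¹) (ρ p m) = 1)
    {p : H} (hp : p ∈ P) (hpx : r * p * r * p⁻¹ ≠ 1) {c : H} (hc : c ∈ P) (hrc : r * c * r = c) :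
    ∃ u : V, m * ρ c m = u * ρ r u := by
  set x := r * p * r * p⁻¹ with hx
  have hri : r⁻¹ = r := inv_eq_of_mul_eq_one_left hr
  have hcr : c * r * c⁻¹ = r := by
    have h1 : c * r = r * c := by
      calc c * r = (r * c * r) * r := by rw [hrc]
        _ = r * c := by rw [mul_assoc, hr, mul_one]
    rw [h1, mul_inv_cancel_right]
  have e1 : r * (p * c) * r * (p * c)⁻¹ = x := by
    calc r * (p * c) * r * (p * c)⁻¹ = r * p * (c * r * c⁻¹) * p⁻¹ := by group
      _ = x := by rw [hcr]
  obtain ⟨hx3, h1⟩ := hN p hp hpx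
  obtain ⟨-, h2⟩ := hN (p * c) (P.mul_mem hp hc) (by rw [e1]; exact hpx)
  rw [e1, rho_mul] at h2
  set w := m * ρ c m with hw
  set v := ρ p w with hv
  set s := p * r * p⁻¹ with hs
  have hss : s * s = 1 := by
    calc s * s = p * (r * r) * p⁻¹ := by rw [hs]; group
      _ = 1 := by rw [hr]; group
  have hxs : x = r * s := by rw [hx, hs]; group
  have hsx : s * x * s = x⁻¹ := by
    rw [hxs]
    calc s * (r * s) * s = s * r * (s * s) := by simp only [mul_assoc]
      _ = s * r := by rw [hss, mul_one]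
      _ = (r * s)⁻¹ := by
        rw [mul_inv_rev, hri, inv_eq_of_mul_eq_one_left hss]
  have hrw : ρ r w = w := by
    rw [hw, map_mul, hm, ← rho_mul]
    have : r * c = c * r := by
      calc r * c = r * c * (r * r) := by rw [hr, mul_one]
        _ = (r * c * r) * r := by simp only [mul_assoc]
        _ = c * r := by rw [hrc]
    rw [this, rho_mul, hm]
  have hsv : ρ s v = v := by
    rw [hv, ← rho_mul, hs]
    rw [show p * r * p⁻¹ * p = p * r by group, rho_mul, hrw]
  have hNv : nm ρ x v = 1 := by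
    rw [hv, hw, map_mul, nm_mul]
    have h3 : nm ρ x m * nm ρ x m = 1 := by rw [← nm_mul, hV]; simp [nm]
    have h4 : nm ρ x (ρ p m) = (nm ρ x m)⁻¹ := eq_inv_of_mul_eq_one_right h1
    have h5 : nm ρ x (ρ p (ρ c m)) = (nm ρ x m)⁻¹ := eq_inv_of_mul_eq_one_right h2
    rw [h4, h5, ← mul_inv_rev, h3, inv_one]
  have key := free_piece ρ hV hss hsx hx3 hsv hNv
  refine ⟨ρ p⁻¹ (ρ x v), ?_⟩
  have h6 : w = ρ p⁻¹ v := by rw [hv, ← rho_mul, inv_mul_cancel]; simp
  rw [h6]
  conv_lhs => rw [key]
  rw [map_mul, ← rho_mul ρ p⁻¹ s, ← rho_mul ρ r p⁻¹]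
  have : p⁻¹ * s = r * p⁻¹ := by rw [hs]; group
  rw [this]

/-- **Core computation.** -/
theorem exists_eq (hV : ∀ v : V, v * v = 1) {P : Subgroup H} [Finite P]
    (hodd : Odd (Nat.card P)) {r : H} (hr : r * r = 1) (hrP : ∀ x ∈ P, r * x * r ∈ P)
    {m : V} (hm : ρ r m = m)
    (hN : ∀ p ∈ P, r * p * r * p⁻¹ ≠ 1 → (r * p * r * p⁻¹) ^ 3 = 1 ∧
      nm ρ (r * p * r * p⁻¹) m * nm ρ (r * p * r * p⁻¹) (ρ p m) = 1)
    (hx : ∃ p ∈ P, r * p * r * p⁻¹ ≠ 1)
    (hfix : ∀ v : V, (∀ p ∈ P, ρ p v = v) → v = 1) :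
    ∃ u : V, m = u * ρ r u := by
  classical
  obtain ⟨p, hp, hpx⟩ := hx
  have := Fintype.ofFinite P
  -- the image of `1 + r`
  let φ : V →* V :=
    { toFun := fun u => u * ρ r u
      map_one' := by simp
      map_mul' := fun a b => by rw [map_mul, mul_mul_mul_comm] }
  let B : Subgroup V := φ.range
  let π : V →* V ⧸ B := QuotientGroup.mk' B
  have hπ : ∀ v, π v = 1 ↔ ∃ u : V, v = u * ρ r u := by
    intro v
    show QuotientGroup.mk' B v = 1 ↔ _
    rw [← MonoidHom.mem_ker, QuotientGroup.ker_mk']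
    constructor
    · rintro ⟨u, hu⟩; exact ⟨u, hu.symm⟩
    · rintro ⟨u, hu⟩; exact ⟨u, hu.symm⟩
  rw [← hπ]
  have hQ2 : ∀ y : V ⧸ B, y * y = 1 := by
    intro y
    obtain ⟨v, rfl⟩ := QuotientGroup.mk'_surjective B y
    rw [← map_mul, hV, map_one]
  -- the sum over `P` is trivial
  have hsum : ∏ q : P, ρ (q : H) m = 1 := by
    apply hfix
    intro q hq
    rw [map_prod]
    refine Fintype.prod_equiv (Equiv.mulLeft ⟨q, hq⟩) _ _ ?_
    intro a
    rw [← rho_mul]
    rfl
  have hsum' : ∏ q : P, π (ρ (q : H) m) = 1 := by rw [← map_prod, hsum, map_one]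
  -- split into the fixed and the moved elements
  rw [← Finset.prod_filter_mul_prod_filter_not Finset.univ (fun q : P => r * (q : H) * r = q)]
    at hsum'
  have h1 : ∏ q ∈ Finset.univ.filter (fun q : P => r * (q : H) * r = q), π (ρ (q : H) m)
      = ∏ q ∈ Finset.univ.filter (fun q : P => r * (q : H) * r = q), π m := by
    refine Finset.prod_congr rfl ?_
    intro q hq
    rw [Finset.mem_filter] at hq
    have h2 := (hπ _).2 (centralizer_step hV hr hm hN hp hpx q.2 hq.2)
    rw [map_mul] at h2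
    have h3 := hQ2 (π m)
    exact (mul_left_cancel (h3.trans h2.symm)).symm
  have hri : r⁻¹ = r := inv_eq_of_mul_eq_one_left hr
  have hrr : ∀ q : H, r * (r * q * r) * r = q := fun q => by
    calc r * (r * q * r) * r = (r * r) * q * (r * r) := by simp only [mul_assoc]
      _ = q := by rw [hr, one_mul, mul_one]
  have h2 : ∏ q ∈ Finset.univ.filter (fun q : P => ¬ r * (q : H) * r = q),
      π (ρ (q : H) m) = 1 := by
    refine Finset.prod_involution (fun q _ => ⟨r * q * r, hrP q q.2⟩) ?_ ?_ ?_ ?_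
    · intro q hq
      -- `π (ρ q m) * π (ρ (r q r) m) = 1`
      show π (ρ (q : H) m) * π (ρ (r * q * r) m) = 1
      rw [← map_mul, hπ]
      refine ⟨ρ (q : H) m, ?_⟩
      rw [rho_mul ρ (r * q) r, hm, rho_mul]
    · intro q hq _ h
      rw [Finset.mem_filter] at hq
      exact hq.2 (congrArg Subtype.val h)
    · intro q hq
      rw [Finset.mem_filter] at hq ⊢
      refine ⟨Finset.mem_univ _, ?_⟩
      intro h
      apply hq.2
      have h' : r * (r * (q : H) * r) * r = r * q * r := h
      rw [hrr q] at h'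
      exact h'.symm
    · intro q hq
      apply Subtype.ext
      exact hrr q
  rw [h1, h2, mul_one, Finset.prod_const] at hsum'
  -- the number of fixed elements is odd
  have hcard : Odd (Finset.univ.filter (fun q : P => r * (q : H) * r = q)).card := by
    have h3 : ∑ q ∈ Finset.univ.filter (fun q : P => ¬ r * (q : H) * r = q), (1 : ZMod 2) = 0 := by
      refine Finset.sum_involution (fun q _ => ⟨r * q * r, hrP q q.2⟩) ?_ ?_ ?_ ?_
      · intro q hq; decide
      · intro q hq _ h
        rw [Finset.mem_filter] at hq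
        exact hq.2 (congrArg Subtype.val h)
      · intro q hq
        rw [Finset.mem_filter] at hq ⊢
        refine ⟨Finset.mem_univ _, ?_⟩
        intro h
        apply hq.2
        have h' : r * (r * (q : H) * r) * r = r * q * r := h
        rw [hrr q] at h'
        exact h'.symm
      · intro q hq
        apply Subtype.ext
        exact hrr q
    rw [Finset.sum_const, nsmul_one, ZMod.natCast_eq_zero_iff] at h3
    have h4 := Finset.card_filter_add_card_filter_not (s := (Finset.univ : Finset P))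
      (fun q : P => r * (q : H) * r = q)
    rw [Finset.card_univ, ← Nat.card_eq_fintype_card] at h4
    rw [← h4] at hodd
    obtain ⟨k, hk⟩ := h3
    rw [hk] at hodd
    rcases Nat.even_or_odd (Finset.univ.filter (fun q : P => r * (q : H) * r = q)).card with h | h
    · exact absurd hodd (by
        rw [Nat.not_odd_iff_even]
        exact h.add ⟨k, by ring⟩)
    · exact h
  obtain ⟨k, hk⟩ := hcard
  rw [hk, pow_add, pow_mul, pow_two, hQ2, one_pow, one_mul, pow_one] at hsum'
  exact hsum'

end Cfsg.Agent.H806.SylowInv
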