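import Mathlib
import Cfsg.Agent.H806.SylowInv
import Cfsg.Agent.PLocal.ChiefReduction
import Cfsg.Agent.Lib.SubnormalJoin

/-!
# An involution with the 3-transposition property normalises a Sylow 3-subgroup

Let `Q` be a normal 2-subgroup of the finite group `G`, and `N` a normal subgroup with `Q P = N` for
each Sylow 3-subgroup `P`.  Let `d` be an involution such that `d d^g` has order at most three for
each `g`, and of order three for some `g ∈ N`.  Then `d` normalises some Sylow 3-subgroup.
-/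

set_option autoImplicit false

namespace Cfsg.Agent.H806.SylowThree

open Cfsg.Agent.H806.SylowInv
open scoped Pointwise

universe u

theorem step {G : Type u} [Group G] [Finite G] {M : Subgroup G} (hMn : M.Normal)
    (hMc : ∀ a ∈ M, ∀ b ∈ M, a * b = b * a) (hM2 : ∀ a ∈ M, a * a = 1) {P : Subgroup G}
    (hP : IsPGroup 3 P) (hPM : ∀ x ∈ P, x ∈ M → x = 1)
    (hfix : ∀ v ∈ M, (∀ p ∈ P, p * v * p⁻¹ = v) → v = 1)
    {r m : G} (hr : r * r = 1) (hrP : ∀ x ∈ P, r * x * r ∈ P) (hm : m ∈ M) (hrm : r * m * r = m)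
    (h3 : ∀ g : G, ((m * r) * (g * (m * r) * g⁻¹)) ^ 2 = 1 ∨
      ((m * r) * (g * (m * r) * g⁻¹)) ^ 3 = 1)
    (hx : ∃ p ∈ P, r * p * r * p⁻¹ ≠ 1) :
    ∃ u ∈ M, m * r = u * r * u⁻¹ := by
  let _ : CommGroup M :=
    { (inferInstance : Group M) with
      mul_comm := fun a b => Subtype.ext (hMc a a.2 b b.2) }
  have hri : r⁻¹ = r := inv_eq_of_mul_eq_one_left hr
  have hV : ∀ v : M, v * v = 1 := fun v => Subtype.ext (hM2 v v.2)
  let ρ : G →* MulAut M := MulAut.conjNormal
  have hρ : ∀ (g : G) (v : M), ((ρ g v : M) : G) = g * v * g⁻¹ := fun g v =>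
    MulAut.conjNormal_apply g v
  have hp3 : Fact (Nat.Prime 3) := ⟨Nat.prime_three⟩
  have hodd : Odd (Nat.card P) := by
    obtain ⟨k, hk⟩ := IsPGroup.iff_card.1 hP
    rw [hk]
    exact Odd.pow (by decide)
  have key := exists_eq (ρ := ρ) hV (P := P) hodd hr hrP (m := ⟨m, hm⟩)
    (by apply Subtype.ext; rw [hρ, hri]; exact hrm)
    (by
      intro p hp hpx
      set x := r * p * r * p⁻¹ with hxdef
      have hxP : x ∈ P := P.mul_mem (hrP p hp) (P.inv_mem hp)
      set m' : M := ⟨m, hm⟩ with hm'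
      set w : M := m' * ρ x (ρ p m') with hw
      -- `d d^p = w x`
      have hmr : m * r = r * m := by
        calc m * r = (r * m * r) * r := by rw [hrm]
          _ = r * m := by rw [mul_assoc, hr, mul_one]
      have e1 : ((w : M) : G) = m * (x * (p * m * p⁻¹) * x⁻¹) := by
        rw [hw]
        show (m' : G) * ((ρ x (ρ p m') : M) : G) = _
        rw [hρ, hρ]
      have e0 : (m * r) * (p * (m * r) * p⁻¹) = (w : G) * x := by
        calc (m * r) * (p * (m * r) * p⁻¹) = (m * r) * (p * (r * m) * p⁻¹) := by rw [hmr]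
          _ = m * (x * (p * m * p⁻¹) * x⁻¹) * x := by rw [hxdef]; group
          _ = (w : G) * x := by rw [e1]
      have e2 : ((w : G) * x) ^ 2 = ((w * ρ x w : M) : G) * x ^ 2 := by
        have : ((w * ρ x w : M) : G) = (w : G) * (x * w * x⁻¹) := by
          show (w : G) * ((ρ x w : M) : G) = _
          rw [hρ]
        rw [this]
        simp only [pow_succ, pow_zero, one_mul]
        group
      have e3 : ((w : G) * x) ^ 3 = ((nm ρ x w : M) : G) * x ^ 3 := by
        have : ((nm ρ x w : M) : G) = (w : G) * (x * w * x⁻¹) * (x * x * w * (x * x)⁻¹) := by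
          show (w : G) * ((ρ x w : M) : G) * ((ρ (x * x) w : M) : G) = _
          rw [hρ, hρ]
        rw [this]
        simp only [pow_succ, pow_zero, one_mul]
        group
      have hpow : ∀ n : ℕ, ∀ v : M, (v : G) * x ^ n = 1 → x ^ n = 1 := by
        intro n v hv
        refine hPM _ (P.pow_mem hxP n) ?_
        rw [← inv_eq_of_mul_eq_one_right hv]
        exact M.inv_mem v.2
      have h3' := h3 p
      rw [e0] at h3'
      have hx2 : x ^ 2 ≠ 1 := by
        intro h
        apply hpx
        obtain ⟨k, hk⟩ := hP ⟨x, hxP⟩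
        have hk' : x ^ 3 ^ k = 1 := congrArg Subtype.val hk
        have h4 : x ^ (Nat.gcd 2 (3 ^ k)) = 1 := pow_gcd_eq_one.2 ⟨h, hk'⟩
        have h5 : Nat.gcd 2 (3 ^ k) = 1 := Nat.Coprime.pow_right k (by decide)
        rwa [h5, pow_one] at h4
      rcases h3' with h | h
      · rw [e2] at h
        exact absurd (hpow 2 _ h) hx2
      · rw [e3] at h
        have hx3 := hpow 3 _ h
        refine ⟨hx3, ?_⟩
        rw [hx3, mul_one] at h
        have h4 : nm ρ x w = 1 := Subtype.ext h
        rw [hw, nm_mul, nm_apply ρ hx3] at h4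
        exact h4)
    hx
    (by
      intro v hv
      apply Subtype.ext
      exact hfix v v.2 (fun p hp => by
        have := congrArg Subtype.val (hv p hp)
        rwa [hρ] at this))
  obtain ⟨u, hu⟩ := key
  refine ⟨u, u.2, ?_⟩
  have hu' : m = u * (r * u * r) := by
    have := congrArg Subtype.val hu
    have h2 : m = u * ((ρ r u : M) : G) := this
    rwa [hρ, hri] at h2
  have huu : (u : G)⁻¹ = u := inv_eq_of_mul_eq_one_left (hM2 u u.2)
  rw [huu]
  calc m * r = u * (r * u * r) * r := by rw [← hu']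
    _ = u * r * u * (r * r) := by simp only [mul_assoc]
    _ = u * r * u := by rw [hr, mul_one]

theorem eq_one_of_mem_both {G : Type u} [Group G] {P Q : Subgroup G} (hP : IsPGroup 3 P)
    (hQ : IsPGroup 2 Q) {x : G} (hx : x ∈ P) (hy : x ∈ Q) : x = 1 := by
  obtain ⟨k, hk⟩ := hP ⟨x, hx⟩
  obtain ⟨l, hl⟩ := hQ ⟨x, hy⟩
  have hk' : x ^ 3 ^ k = 1 := congrArg Subtype.val hk
  have hl' : x ^ 2 ^ l = 1 := congrArg Subtype.val hl
  have h4 : x ^ (Nat.gcd (3 ^ k) (2 ^ l)) = 1 := pow_gcd_eq_one.2 ⟨hk', hl'⟩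
  have h5 : Nat.gcd (3 ^ k) (2 ^ l) = 1 := Nat.Coprime.pow k l (by decide)
  rwa [h5, pow_one] at h4

/-- **Main lemma**: an involution with the 3-transposition property normalises a Sylow
3-subgroup. -/
theorem exists_sylow : ∀ (n : ℕ) (G : Type u) [Group G] [Finite G], Nat.card G ≤ n →
    ∀ (Q N : Subgroup G), Q.Normal → N.Normal → IsPGroup 2 Q →
    (∀ P : Sylow 3 G, Q ⊔ (P : Subgroup G) = N) → ∀ d : G, d * d = 1 →
    (∀ g : G, (d * (g * d * g⁻¹)) ^ 2 = 1 ∨ (d * (g * d * g⁻¹)) ^ 3 = 1) →
    (∃ g ∈ N, (d * (g * d * g⁻¹)) ^ 2 ≠ 1) →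
    ∃ P : Sylow 3 G, ∀ x ∈ P, d * x * d ∈ P := by
  intro n
  induction n with
  | zero =>
    intro G _ _ hG
    exact absurd hG (by have := Nat.card_pos (α := G); omega)
  | succ n ih =>
    intro G _ _ hG Q N hQn hNn hQ2 hN d hd h3 hex
    have hp3 : Fact (Nat.Prime 3) := ⟨Nat.prime_three⟩
    have hp2 : Fact (Nat.Prime 2) := ⟨Nat.prime_two⟩
    have hdi : d⁻¹ = d := inv_eq_of_mul_eq_one_left hd
    by_cases hQ : Q = ⊥
    · obtain ⟨P⟩ := (inferInstance : Nonempty (Sylow 3 G))
      refine ⟨P, fun x hx => ?_⟩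
      have h1 := hN P
      rw [hQ, bot_sup_eq] at h1
      have h2 := hNn.conj_mem x (by rw [← h1]; exact hx) d
      rw [hdi, ← h1] at h2
      exact h2
    obtain ⟨M, hMn, hMQ, hM, hmin⟩ := Lib.SubnormalJoin.exists_minimal_normal_le Q hQn hQ
    have hMp : IsPGroup 2 M := hQ2.to_le hMQ
    have hel := PLocal.ChiefReduction.isElementaryAbelian_of_minimal hMn hMp hmin
    have hMc : ∀ a ∈ M, ∀ b ∈ M, a * b = b * a := fun a ha b hb => by
      have := hel.1
      exact congrArg Subtype.val (mul_comm' (⟨a, ha⟩ : M) ⟨b, hb⟩)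
    have hM2 : ∀ a ∈ M, a * a = 1 := fun a ha => by rw [← pow_two]; exact hel.2 a ha
    have hQc : Q ≤ Subgroup.centralizer (M : Set G) := by
      refine PLocal.ChiefReduction.le_centralizer_of_minimal hMn hMp hmin hQn ?_
      intro g hg
      obtain ⟨k, hk⟩ := hQ2 ⟨g, hg⟩
      refine ⟨k, ?_⟩
      have : g ^ 2 ^ k = 1 := congrArg Subtype.val hk
      rw [this]
      exact Subgroup.one_mem _
    -- the quotient
    have hlt : Nat.card (G ⧸ M) ≤ n := by
      have h1 := Subgroup.card_eq_card_quotient_mul_card_subgroup M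
      have h2 : 1 < Nat.card M := by
        rw [Finite.one_lt_card_iff_nontrivial]
        exact (Subgroup.nontrivial_iff_ne_bot M).2 hM
      have h3 : 0 < Nat.card (G ⧸ M) := Nat.card_pos
      nlinarith
    set π : G →* G ⧸ M := QuotientGroup.mk' M with hπ
    have hπs : Function.Surjective π := QuotientGroup.mk'_surjective M
    have hker : ∀ x : G, π x = 1 ↔ x ∈ M := fun x => by
      rw [hπ, ← MonoidHom.mem_ker, QuotientGroup.ker_mk']
    obtain ⟨P₁, hP₁⟩ := ih (G ⧸ M) hlt (Q.map π) (N.map π) (hQn.map π hπs) (hNn.map π hπs)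
      (hQ2.map π)
      (by
        intro P'
        obtain ⟨P, rfl⟩ := Sylow.mapSurjective_surjective hπs 3 P'
        rw [Sylow.coe_mapSurjective, ← Subgroup.map_sup, hN P])
      (π d) (by rw [← map_mul, hd, map_one])
      (by
        intro g'
        obtain ⟨g, rfl⟩ := hπs g'
        rcases h3 g with h | h
        · left
          rw [← map_inv, ← map_mul, ← map_mul, ← map_mul, ← map_pow, h, map_one]
        · right
          rw [← map_inv, ← map_mul, ← map_mul, ← map_mul, ← map_pow, h, map_one])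
      (by
        obtain ⟨g, hg, hg2⟩ := hex
        refine ⟨π g, ⟨g, hg, rfl⟩, ?_⟩
        intro h
        rw [← map_inv, ← map_mul, ← map_mul, ← map_mul, ← map_pow, hker] at h
        apply hg2
        have h4 := (h3 g).resolve_left hg2
        set y := d * (g * d * g⁻¹) with hy
        have h5 : (y ^ 2) * (y ^ 2) = 1 := hM2 _ h
        have h6 : y ^ 4 = 1 := by rw [← h5, ← pow_add]
        have h7 : y = 1 := by
          calc y = y ^ 4 * (y ^ 3)⁻¹ := by group
            _ = 1 := by rw [h6, h4]; simp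
        rw [h7, one_pow])
    obtain ⟨P, hP⟩ := Sylow.mapSurjective_surjective hπs 3 P₁
    have hPd : ∀ x ∈ P, ∃ z ∈ M, ∃ y ∈ P, d * x * d = z * y := by
      intro x hx
      have h1 : π x ∈ P₁ := by rw [← hP]; exact ⟨x, hx, rfl⟩
      have h2 := hP₁ _ h1
      rw [← map_mul, ← map_mul, ← hP] at h2
      obtain ⟨y, hy, hyx⟩ := h2
      refine ⟨d * x * d * y⁻¹, ?_, y, hy, by group⟩
      rw [← hker, map_mul π (d * x * d), map_inv, hyx, mul_inv_cancel]
    have hPM : ∀ x ∈ (P : Subgroup G), x ∈ M → x = 1 := fun x hx hxM =>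
      eq_one_of_mem_both P.isPGroup' hMp hx hxM
    have hPN : (P : Subgroup G) ≤ N := by rw [← hN P]; exact le_sup_right
    have hcN : ∀ v ∈ M, (∀ p ∈ (P : Subgroup G), p * v * p⁻¹ = v) →
        v ∈ Subgroup.centralizer (N : Set G) := by
      intro v hv hvp
      rw [← hN P, Subgroup.mem_centralizer_iff]
      intro g hg
      have hle : Q ⊔ (P : Subgroup G) ≤ Subgroup.centralizer {v} := by
        refine sup_le ?_ ?_
        · intro q hq
          rw [Subgroup.mem_centralizer_singleton_iff]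
          exact ((Subgroup.mem_centralizer_iff.1 (hQc hq)) v hv).symm
        · intro p hp
          rw [Subgroup.mem_centralizer_singleton_iff]
          have := hvp p hp
          calc p * v = (p * v * p⁻¹) * p := by group
            _ = v * p := by rw [this]
      exact Subgroup.mem_centralizer_singleton_iff.1 (hle hg)
    by_cases hfix : ∀ v ∈ M, (∀ p ∈ (P : Subgroup G), p * v * p⁻¹ = v) → v = 1
    · -- the main case
      have hK : (P : Subgroup G) ≤ M ⊔ P := le_sup_right
      have hKd : ((d • P : Sylow 3 G) : Subgroup G) ≤ M ⊔ P := by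
        rintro x hx
        rw [Sylow.coe_subgroup_smul] at hx
        obtain ⟨y, hy, rfl⟩ := hx
        obtain ⟨z, hz, y', hy', e⟩ := hPd y hy
        show d * y * d⁻¹ ∈ M ⊔ (P : Subgroup G)
        rw [hdi, e]
        exact Subgroup.mul_mem _ (Subgroup.mem_sup_left hz) (Subgroup.mem_sup_right hy')
      obtain ⟨⟨k, hkK⟩, hk⟩ := MulAction.exists_smul_eq (M ⊔ (P : Subgroup G) : Subgroup G)
        (P.subtype hK) ((d • P).subtype hKd)
      have hk' : k • P = d • P := by
        rw [Sylow.smul_subtype] at hk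
        exact Sylow.subtype_injective hk
      have hkk : k ∈ (M : Set G) * ((P : Subgroup G) : Set G) := by
        rw [← Subgroup.normal_mul]; exact hkK
      obtain ⟨u, hu, p, hp, rfl⟩ := hkk
      have hup : u • P = d • P := by
        rw [← hk', mul_smul]
        congr 1
        exact (Sylow.smul_eq_iff_mem_normalizer.2 (Subgroup.le_normalizer hp)).symm
      set r := u⁻¹ * d with hr
      have hrn : r • P = P := by rw [hr, mul_smul, ← hup, inv_smul_smul]
      have hrc : ∀ x ∈ (P : Subgroup G), r * x * r⁻¹ ∈ (P : Subgroup G) := by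
        intro x hx
        have h1 : r * x * r⁻¹ ∈ ((r • P : Sylow 3 G) : Subgroup G) := by
          rw [Sylow.coe_subgroup_smul]; exact ⟨x, hx, rfl⟩
        rwa [hrn] at h1
      have hui : u⁻¹ = u := inv_eq_of_mul_eq_one_left (hM2 u hu)
      have hrr : r * r = 1 := by
        have h1 : r * r ∈ M := by
          have e : r * r = u⁻¹ * (d * u⁻¹ * d⁻¹) := by
            rw [hr, hdi]; simp only [mul_assoc]
          rw [e]
          exact M.mul_mem (M.inv_mem hu) (hMn.conj_mem _ (M.inv_mem hu) d)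
        refine hfix _ h1 ?_
        intro p hp
        -- `p (r r) p⁻¹ (r r)⁻¹ ∈ M ∩ P`
        have h2 : p * (r * r) * p⁻¹ * (r * r)⁻¹ = 1 := by
          apply hPM
          · have e : p * (r * r) * p⁻¹ * (r * r)⁻¹ = p * (r * (r * p⁻¹ * r⁻¹) * r⁻¹) := by group
            rw [e]
            exact (P : Subgroup G).mul_mem hp (hrc _ (hrc _ ((P : Subgroup G).inv_mem hp)))
          · exact M.mul_mem (hMn.conj_mem _ h1 p) (M.inv_mem h1)
        rwa [mul_inv_eq_one] at h2
      have hri : r⁻¹ = r := inv_eq_of_mul_eq_one_left hrr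
      have hdur : d = u * r := by rw [hr, mul_inv_cancel_left]
      have hrur : r * u * r = u := by
        have h1 : u * (r * u * r) = 1 := by
          calc u * (r * u * r) = (u * r) * (u * r) := by simp only [mul_assoc]
            _ = 1 := by rw [← hdur, hd]
        have h2 := inv_eq_of_mul_eq_one_right h1
        rw [← h2, hui]
      have hx : ∃ p ∈ (P : Subgroup G), r * p * r * p⁻¹ ≠ 1 := by
        by_contra hcon
        push Not at hcon
        obtain ⟨g, hg, hg2⟩ := hex
        apply hg2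
        have hg' : g ∈ (Q : Set G) * ((P : Subgroup G) : Set G) := by
          rw [← Subgroup.normal_mul, hN P]; exact hg
        obtain ⟨q, hq, p', hp', rfl⟩ := hg'
        have hq : q ∈ Q := hq
        have hp' : p' ∈ (P : Subgroup G) := hp'
        have hy : d * (q * p' * d * (q * p')⁻¹) ∈ Q := by
          have e1 : p' * r * p'⁻¹ = r := by
            have h1 := hcon p' hp'
            calc p' * r * p'⁻¹ = r⁻¹ * (r * p' * r * p'⁻¹) := by group
              _ = r := by rw [h1, mul_one, hri]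
          have e2 : d * (q * p' * d * (q * p')⁻¹) =
              u * (r * (q * (p' * u * p'⁻¹)) * r⁻¹) * q⁻¹ := by
            calc d * (q * p' * d * (q * p')⁻¹)
                = u * r * (q * p' * (u * r) * (q * p')⁻¹) := by rw [← hdur]
              _ = u * r * (q * (p' * u * p'⁻¹) * (p' * r * p'⁻¹)) * q⁻¹ := by group
              _ = u * (r * (q * (p' * u * p'⁻¹)) * r⁻¹) * q⁻¹ := by
                rw [e1, hri]; simp only [mul_assoc]
          rw [e2]
          exact Q.mul_mem (Q.mul_mem (hMQ hu) (hQn.conj_mem _ (Q.mul_mem hq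
            (hMQ (hMn.conj_mem _ hu p'))) r)) (Q.inv_mem hq)
        have h4 := (h3 (q * p')).resolve_left hg2
        set y := d * (q * p' * d * (q * p')⁻¹) with hydef
        obtain ⟨k, hk⟩ := hQ2 ⟨y, hy⟩
        have hk2 : y ^ 2 ^ k = 1 := congrArg Subtype.val hk
        have h5 : y ^ (Nat.gcd 3 (2 ^ k)) = 1 := pow_gcd_eq_one.2 ⟨h4, hk2⟩
        have h6 : Nat.gcd 3 (2 ^ k) = 1 := Nat.Coprime.pow_right k (by decide)
        rw [h6, pow_one] at h5
        rw [h5, one_pow]
      obtain ⟨w, hw, hwr⟩ := step hMn hMc hM2 P.isPGroup' hPM hfix hrr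
        (fun x hx => by have := hrc x hx; rwa [hri] at this) hu hrur
        (fun g => by rw [← hdur]; exact h3 g) hx
      refine ⟨w • P, fun x hx => ?_⟩
      have hx' : x ∈ ((w • P : Sylow 3 G) : Subgroup G) := hx
      rw [Sylow.coe_subgroup_smul] at hx'
      obtain ⟨y, hy, rfl⟩ := hx'
      show d * (w * y * w⁻¹) * d ∈ ((w • P : Sylow 3 G) : Subgroup G)
      rw [Sylow.coe_subgroup_smul]
      refine ⟨r * y * r⁻¹, hrc y hy, ?_⟩
      show w * (r * y * r⁻¹) * w⁻¹ = d * (w * y * w⁻¹) * d
      have hdw : d = w * r * w⁻¹ := hdur.trans hwr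
      calc w * (r * y * r⁻¹) * w⁻¹ = w * (r * y * r) * w⁻¹ := by rw [hri]
        _ = (w * r * w⁻¹) * (w * y * w⁻¹) * (w * r * w⁻¹) := by group
        _ = d * (w * y * w⁻¹) * d := by rw [← hdw]
    · push Not at hfix
      obtain ⟨v, hv, hvp, hv1⟩ := hfix
      have hvc := hcN v hv hvp
      have hCn : (M ⊓ Subgroup.centralizer (N : Set G)).Normal := inferInstance
      have hMC : M ≤ Subgroup.centralizer (N : Set G) := by
        rcases hmin _ hCn inf_le_left with h | h
        · exfalso
          apply hv1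
          have : v ∈ M ⊓ Subgroup.centralizer (N : Set G) := ⟨hv, hvc⟩
          rw [h] at this
          exact this
        · rw [← h]; exact inf_le_right
      refine ⟨P, fun x hx => ?_⟩
      obtain ⟨z, hz, y, hy, e⟩ := hPd x hx
      have hzy : Commute z y :=
        ((Subgroup.mem_centralizer_iff.1 (hMC hz)) y (hPN hy)).symm
      have h1 : x ^ Nat.card P = 1 :=
        congrArg Subtype.val (pow_card_eq_one' (x := (⟨x, hx⟩ : (P : Subgroup G))))
      have h2 : y ^ Nat.card P = 1 :=
        congrArg Subtype.val (pow_card_eq_one' (x := (⟨y, hy⟩ : (P : Subgroup G))))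
      have h3' : (d * x * d) ^ Nat.card P = 1 := by
        have : d * x * d = d * x * d⁻¹ := by rw [hdi]
        rw [this, conj_pow, h1]; simp
      rw [e, hzy.mul_pow, h2, mul_one] at h3'
      obtain ⟨l, hl⟩ := IsPGroup.iff_card.1 P.isPGroup'
      have h4 : z ^ 2 = 1 := by rw [pow_two]; exact hM2 z hz
      have h5 : z ^ (Nat.gcd (Nat.card P) 2) = 1 := pow_gcd_eq_one.2 ⟨h3', h4⟩
      have h6 : Nat.gcd (Nat.card P) 2 = 1 := by rw [hl]; exact Nat.Coprime.pow_left l (by decide)
      rw [h6, pow_one] at h5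
      rw [e, h5, one_mul]
      exact hy

end Cfsg.Agent.H806.SylowThree
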