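import Mathlib
import Cfsg.Agent.H806.FFNorm

/-!
# Sylow 2-subgroups `M × V`, `V` a four-group: strongly closed factors

`FG P M C V z g0`: `P = M × V`, `M` full, `V` a four-group on which `g0` acts without fixed points, `g0` centralises
`M`.  Then `M` and `V` are strongly closed in `P` (`FG.closed`).
-/

set_option autoImplicit false
set_option linter.unusedSectionVars false

namespace Cfsg.Agent.H806.FourFull

open Subgroup
open Cfsg.Agent.Lib.GoldschmidtFusion
open Cfsg.Agent.Lib
open Cfsg.Agent.H301.Cop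
open Cfsg.Agent.H301.Data
open Cfsg.Agent.StdRank2.Split (CM mem_CM le_normalizer_CM le_of_sylow mem_of_pow_mem conj_mem conj_mem')
open scoped commutatorElement

variable {G : Type*} [Group G] [Finite G]

structure FG (P : Sylow 2 G) (M C V : Subgroup G) (z g0 : G) : Prop where
  prod : Cfsg.IsInternalDirectProduct M V (P : Subgroup G)
  full : Full M C z
  vd : VD V g0
  gM : ∀ m ∈ M, Commute g0 m

namespace FG

variable {P : Sylow 2 G} {M C V X : Subgroup G} {z g0 : G}

theorem M_le (h : FG P M C V z g0) : M ≤ P := h.prod.1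

theorem V_le (h : FG P M C V z g0) : V ≤ P := h.prod.2.1

theorem dec (h : FG P M C V z g0) {p : G} (hp : p ∈ (P : Subgroup G)) : ∃ m ∈ M, ∃ v ∈ V, p = m * v :=
  EssProd.exists_mul h.prod hp

theorem inf (h : FG P M C V z g0) {x : G} (hx : x ∈ M) (hx' : x ∈ V) : x = 1 := by
  have : x ∈ M ⊓ V := ⟨hx, hx'⟩
  rw [h.prod.2.2.2.1] at this
  exact mem_bot.1 this

theorem comm (h : FG P M C V z g0) {m v : G} (hm : m ∈ M) (hv : v ∈ V) : m * v = v * m :=
  h.prod.2.2.1 m hm v hv

/-- `V` is central in `P` -/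
theorem V_cen (h : FG P M C V z g0) {p v : G} (hp : p ∈ (P : Subgroup G)) (hv : v ∈ V) : Commute p v := by
  obtain ⟨m, hm, w, hw, rfl⟩ := h.dec hp
  exact (show Commute m v from h.comm hm hv).mul_left (h.vd.comm hw hv)

theorem z_cen (h : FG P M C V z g0) {p : G} (hp : p ∈ (P : Subgroup G)) : Commute p z := by
  obtain ⟨m, hm, w, hw, rfl⟩ := h.dec hp
  exact (show Commute m z from h.full.zcen hm).mul_left (show Commute z w from h.comm h.full.zR hw).symm

theorem zP (h : FG P M C V z g0) : z ∈ (P : Subgroup G) := h.M_le h.full.zR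

/-- `⟨z⟩ × V` -/
def Z (h : FG P M C V z g0) : Subgroup G := mulS (zpowers z) V (by
  intro a ha b hb
  rcases (mem_zp h.full.zz).1 ha with rfl | rfl
  · simp
  · exact h.comm h.full.zR hb)

theorem mem_Z (h : FG P M C V z g0) {x : G} : x ∈ h.Z ↔ ∃ e, (e = 1 ∨ e = z) ∧ ∃ v ∈ V, x = e * v := by
  rw [Z, mem_mulS]
  constructor
  · rintro ⟨e, he, a, ha, rfl⟩
    exact ⟨e, (mem_zp h.full.zz).1 he, a, ha, rfl⟩
  · rintro ⟨e, he, a, ha, rfl⟩
    exact ⟨e, (mem_zp h.full.zz).2 he, a, ha, rfl⟩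

theorem V_Z (h : FG P M C V z g0) {v : G} (hv : v ∈ V) : v ∈ h.Z := h.mem_Z.2 ⟨1, Or.inl rfl, v, hv, (one_mul v).symm⟩

theorem z_Z (h : FG P M C V z g0) : z ∈ h.Z := h.mem_Z.2 ⟨z, Or.inr rfl, 1, one_mem _, (mul_one z).symm⟩

theorem Z_cen (h : FG P M C V z g0) {p x : G} (hp : p ∈ (P : Subgroup G)) (hx : x ∈ h.Z) : Commute p x := by
  obtain ⟨e, he, v, hv, rfl⟩ := h.mem_Z.1 hx
  refine Commute.mul_right ?_ (h.V_cen hp hv)
  rcases he with rfl | rfl
  exacts [Commute.one_right _, h.z_cen hp]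

theorem Z_le (h : FG P M C V z g0) : h.Z ≤ P := by
  intro x hx
  obtain ⟨e, he, v, hv, rfl⟩ := h.mem_Z.1 hx
  refine mul_mem ?_ (h.V_le hv)
  rcases he with rfl | rfl
  exacts [one_mem _, h.zP]

theorem gz (h : FG P M C V z g0) : Commute g0 z := h.gM z h.full.zR

/-- `g0` normalises `R × V` for `R ≤ M` -/
theorem gconj (h : FG P M C V z g0) {m v : G} (hm : m ∈ M) : g0 * (m * v) * g0⁻¹ = m * (g0 * v * g0⁻¹) := by
  rw [conj_mul', conj_eq_iff_commute.2 (h.gM m hm)]

theorem gfix (h : FG P M C V z g0) {x : G} (hx : x ∈ (P : Subgroup G)) (hc : Commute g0 x) : x ∈ M := by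
  obtain ⟨m, hm, v, hv, rfl⟩ := h.dec hx
  have e := conj_eq_iff_commute.2 hc
  rw [h.gconj hm] at e
  have h1 := h.vd.fp v hv (conj_eq_iff_commute.1 (mul_left_cancel e))
  rw [h1, mul_one]; exact hm

/-! ### `N_G(P)` -/

/-- the action of the elements of odd order -/
theorem triv (h : FG P M C V z g0) {g : G} (hg : g ∈ normalizer ((P : Subgroup G) : Set G)) (hodd : Odd (orderOf g)) :
    Triv M C V (P : Subgroup G) z g where
  full := h.full
  two := P.isPGroup'
  zc a ha b hb := h.vd.comm ha hb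
  rz r hr a ha := h.comm hr ha
  inf x hx hx' := h.inf hx hx'
  mem x := by
    constructor
    · exact h.dec
    · rintro ⟨m, hm, v, hv, rfl⟩
      exact mul_mem (h.M_le hm) (h.V_le hv)
  gn := hg
  odd := hodd

theorem NP_z (h : FG P M C V z g0) {n : G} (hn : n ∈ normalizer ((P : Subgroup G) : Set G)) : Commute n z := by
  have : normalizer ((P : Subgroup G) : Set G) ≤ centralizer ({z} : Set G) := by
    apply normalizer_le (P := P) (sylow_not_dvd P)
    · intro p hp _
      rw [mem_centralizer_singleton_iff]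
      exact (h.z_cen hp).eq
    · intro g hg hodd
      rw [mem_centralizer_singleton_iff]
      exact (h.triv hg hodd).commute_z.eq
  have := this hn
  rw [mem_centralizer_singleton_iff] at this
  exact this

/-- elements of `P` centralised by `P` -/
theorem mem_Z_of_cen (h : FG P M C V z g0) {x : G} (hx : x ∈ (P : Subgroup G)) (hc : ∀ p ∈ (P : Subgroup G), x * p = p * x) :
    x ∈ h.Z := by
  obtain ⟨m, hm, v, hv, rfl⟩ := h.dec hx
  refine h.mem_Z.2 ⟨m, h.full.mem_center hm (fun s hs => ?_), v, hv, rfl⟩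
  have h1 : Commute (m * v) s := hc s (h.M_le hs)
  have h2 : Commute s v := h.V_cen (h.M_le hs) hv
  have h3 : Commute (m * v * v⁻¹) s := h1.mul_left h2.symm.inv_left
  rw [mul_inv_cancel_right] at h3
  exact h3

theorem NP_Z (h : FG P M C V z g0) : normalizer ((P : Subgroup G) : Set G) ≤ normalizer (h.Z : Set G) := by
  intro n hn
  apply mem_normalizer_of
  intro x hx
  apply h.mem_Z_of_cen (mem_normalizer_conj hn (h.Z_le hx))
  intro p hp
  have h1 := (h.Z_cen (mem_normalizer_conj' hn hp) hx).eq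
  calc n * x * n⁻¹ * p = n * (x * (n⁻¹ * p * n)) * n⁻¹ := by group
    _ = n * ((n⁻¹ * p * n) * x) * n⁻¹ := by rw [h1]
    _ = _ := by group

/-- **Lemma**: an element normalising `Z`, centralising `z`, is a power of `g0` times an element whose fourth power
centralises `Z` -/
theorem NZ_key (h : FG P M C V z g0) {n : G} (hz : Commute n z) (hn : n ∈ normalizer (h.Z : Set G)) :
    ∃ k : ℕ, ((g0 ^ k)⁻¹ * n) ^ 2 ^ 2 ∈ centralizer (h.Z : Set G) := by
  have key := h.vd.key (W1 := zpowers z) (n := n) ?_ ?_ ?_ ?_ ?_ ?_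
  · obtain ⟨k, h1, h2⟩ := key
    refine ⟨k, ?_⟩
    rw [mem_cent]
    intro x hx
    obtain ⟨e, he, v, hv, rfl⟩ := h.mem_Z.1 hx
    refine Commute.mul_right ?_ (h2 v hv)
    exact (h1 e ((mem_zp h.full.zz).2 he)).pow_left _
  · intro w hw hw'
    rcases (mem_zp h.full.zz).1 hw with rfl | rfl
    · rfl
    · exact h.inf h.full.zR hw'
  · intro w hw v hv
    rcases (mem_zp h.full.zz).1 hw with rfl | rfl
    · simp
    · exact h.comm h.full.zR hv
  · intro w hw
    rcases (mem_zp h.full.zz).1 hw with rfl | rfl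
    · simp
    · exact h.full.zz
  · intro w hw
    rcases (mem_zp h.full.zz).1 hw with rfl | rfl
    · exact Commute.one_right _
    · exact h.gz
  · intro w hw
    rcases (mem_zp h.full.zz).1 hw with rfl | rfl
    · exact Commute.one_right _
    · exact hz
  · intro v hv
    obtain ⟨e, he, v', hv', e1⟩ := h.mem_Z.1 (mem_normalizer_conj hn (h.V_Z hv))
    exact ⟨e, (mem_zp h.full.zz).2 he, v', hv', e1⟩

theorem g_NZ (h : FG P M C V z g0) : g0 ∈ normalizer (h.Z : Set G) := by
  apply mem_normalizer_of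
  intro x hx
  obtain ⟨e, he, v, hv, rfl⟩ := h.mem_Z.1 hx
  refine h.mem_Z.2 ⟨e, he, g0 * v * g0⁻¹, h.vd.gV v hv, ?_⟩
  apply h.gconj
  rcases he with rfl | rfl
  exacts [one_mem _, h.full.zR]

theorem g_NP (h : FG P M C V z g0) : g0 ∈ normalizer ((P : Subgroup G) : Set G) := by
  apply mem_normalizer_of
  intro x hx
  obtain ⟨m, hm, v, hv, rfl⟩ := h.dec hx
  rw [h.gconj hm]
  exact mul_mem (h.M_le hm) (h.V_le (h.vd.gV v hv))

theorem NP_key (h : FG P M C V z g0) {n : G} (hn : n ∈ normalizer ((P : Subgroup G) : Set G)) :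
    ∃ k : ℕ, (g0 ^ k)⁻¹ * n ∈ centralizer (h.Z : Set G) := by
  obtain ⟨k, hk⟩ := h.NZ_key (h.NP_z hn) (h.NP_Z hn)
  refine ⟨k, ?_⟩
  refine two_mem (N := normalizer ((P : Subgroup G) : Set G)) (T := (P : Subgroup G) ⊓ normalizer ((P : Subgroup G) : Set G))
    (P.isPGroup'.to_le inf_le_left) (sylow_not_dvd P) le_rfl le_normalizer
    (normalizer_centralizer_le h.NP_Z) ?_ (mul_mem (inv_mem (pow_mem h.g_NP k)) hn) hk
  rintro p ⟨⟨hp, -⟩, -⟩
  rw [mem_cent]
  intro x hx
  exact (h.Z_cen hp hx).eq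

theorem NV_of (h : FG P M C V z g0) {n : G} {k : ℕ} (hk : (g0 ^ k)⁻¹ * n ∈ centralizer (h.Z : Set G)) :
    n ∈ normalizer (V : Set G) := by
  have e : n = g0 ^ k * ((g0 ^ k)⁻¹ * n) := by group
  rw [e]
  refine mul_mem (pow_mem h.vd.nV k) ?_
  apply mem_normalizer_of
  intro v hv
  rw [mem_cent] at hk
  rw [conj_eq_iff_commute.2 (hk v (h.V_Z hv))]
  exact hv

theorem NP_V (h : FG P M C V z g0) : normalizer ((P : Subgroup G) : Set G) ≤ normalizer (V : Set G) := by
  intro n hn
  obtain ⟨k, hk⟩ := h.NP_key hn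
  exact h.NV_of hk

theorem P_M (h : FG P M C V z g0) : (P : Subgroup G) ≤ normalizer (M : Set G) := by
  intro p hp
  apply mem_normalizer_of
  intro x hx
  obtain ⟨m, hm, v, hv, rfl⟩ := h.dec hp
  have c := h.comm hx hv
  have e : m * v * x * (m * v)⁻¹ = m * x * m⁻¹ := by
    calc m * v * x * (m * v)⁻¹ = m * (v * x) * v⁻¹ * m⁻¹ := by group
      _ = m * (x * v) * v⁻¹ * m⁻¹ := by rw [c]
      _ = _ := by group
  rw [e]; exact mul_mem (mul_mem hm hx) (inv_mem hm)

theorem NP_M (h : FG P M C V z g0) : normalizer ((P : Subgroup G) : Set G) ≤ normalizer (M : Set G) := by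
  apply normalizer_le (P := P) (sylow_not_dvd P)
  · intro p hp _
    exact h.P_M hp
  · intro g hg hodd
    obtain ⟨k, hk⟩ := h.NP_key hg
    have T := h.triv hg hodd
    have hgM : g0 ∈ normalizer (M : Set G) := by
      apply mem_normalizer_of
      intro x hx
      rw [conj_eq_iff_commute.2 (h.gM x hx)]; exact hx
    have hm : (g0 ^ k)⁻¹ * g ∈ (P : Subgroup G) ⊔ centralizer ((P : Subgroup G) : Set G) := by
      obtain ⟨m, hm⟩ : ∃ m, m = (g0 ^ k)⁻¹ * g := ⟨_, rfl⟩
      rw [← hm] at hk ⊢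
      have hmN : m ∈ normalizer ((P : Subgroup G) : Set G) := by
        rw [hm]; exact mul_mem (inv_mem (pow_mem h.g_NP k)) hg
      refine two_mem (N := normalizer ((P : Subgroup G) : Set G))
        (T := (P : Subgroup G) ⊓ normalizer ((P : Subgroup G) : Set G))
        (P.isPGroup'.to_le inf_le_left) (sylow_not_dvd P) le_rfl le_normalizer ?_ ?_ hmN (j := 1) ?_
      · intro n hn
        have h1 := (normalizer_centralizer_le (le_refl (normalizer ((P : Subgroup G) : Set G)))) hn
        apply mem_normalizer_of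
        intro x hx
        have hPn : (P : Subgroup G) ≤ normalizer (centralizer ((P : Subgroup G) : Set G) : Set G) :=
          le_normalizer.trans (normalizer_centralizer_le le_rfl)
        have h2 : x ∈ (((P : Subgroup G) ⊔ centralizer ((P : Subgroup G) : Set G) : Subgroup G) : Set G) := hx
        rw [coe_mul_of_left_le_normalizer_right _ _ hPn] at h2
        obtain ⟨y, hy, c, hc, rfl⟩ := h2
        simp only
        rw [conj_mul']
        exact mul_mem (mem_sup_left (mem_normalizer_conj hn hy)) (mem_sup_right (mem_normalizer_conj h1 hc))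
      · exact (inf_le_left.trans inf_le_left).trans le_sup_left
      · apply mem_sup_right
        rw [pow_one, mem_cent]
        rw [mem_cent] at hk
        intro x hx
        obtain ⟨y, hy, v, hv, rfl⟩ := h.dec hx
        have c2 : Commute (m ^ 2) v := Commute.pow_left (hk v (h.V_Z hv)) 2
        refine Commute.mul_right ?_ c2
        obtain ⟨w, hw, e1⟩ := T.conj_R hy
        have hwZ : w ∈ h.Z := by
          obtain ⟨e, he, a, ha, rfl⟩ := T.mem_N.1 hw
          exact h.mem_Z.2 ⟨e, he, a, ha, rfl⟩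
        have hkN : g0 ^ k ∈ normalizer (h.Z : Set G) := pow_mem h.g_NZ k
        have hw' := mem_normalizer_conj' hkN hwZ
        have e2 : m * y * m⁻¹ = ((g0 ^ k)⁻¹ * w * g0 ^ k) * y := by
          have c3 : (g0 ^ k)⁻¹ * y = y * (g0 ^ k)⁻¹ := ((h.gM y hy).pow_left k).inv_left
          calc m * y * m⁻¹ = (g0 ^ k)⁻¹ * (g * y * g⁻¹) * g0 ^ k := by rw [hm]; group
            _ = (g0 ^ k)⁻¹ * (w * y) * g0 ^ k := by rw [e1]
            _ = (g0 ^ k)⁻¹ * w * g0 ^ k * ((g0 ^ k)⁻¹ * y) * g0 ^ k := by group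
            _ = _ := by rw [c3]; group
        have c4 := conj_eq_iff_commute.2 (show Commute m _ from hk _ hw')
        have hsq : ((g0 ^ k)⁻¹ * w * g0 ^ k) * ((g0 ^ k)⁻¹ * w * g0 ^ k) = 1 := by
          obtain ⟨e, he, v', hv', e5⟩ := h.mem_Z.1 hw'
          have ce : Commute e v' := by
            rcases he with rfl | rfl
            exacts [Commute.one_left _, h.comm h.full.zR hv']
          have ee : e * e = 1 := by rcases he with rfl | rfl; exacts [one_mul 1, h.full.zz]
          rw [e5]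
          calc e * v' * (e * v') = e * (v' * e) * v' := by group
            _ = (e * e) * (v' * v') := by rw [← ce.eq]; group
            _ = 1 := by rw [ee, h.vd.vv v' hv', one_mul]
        rw [← conj_eq_iff_commute]
        have e6 : m ^ 2 * y * (m ^ 2)⁻¹ = m * (m * y * m⁻¹) * m⁻¹ := by rw [pow_two]; group
        rw [e6, e2, conj_mul', c4, e2, ← mul_assoc, hsq, one_mul]
    have e : g = g0 ^ k * ((g0 ^ k)⁻¹ * g) := by group
    rw [e]
    refine mul_mem (pow_mem hgM k) ?_
    have h3 : (P : Subgroup G) ⊔ centralizer ((P : Subgroup G) : Set G) ≤ normalizer (M : Set G) := by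
      refine sup_le h.P_M ?_
      intro c hc
      rw [mem_cent] at hc
      apply mem_normalizer_of
      intro x hx
      rw [conj_eq_iff_commute.2 (hc x (h.M_le hx))]; exact hx
    exact h3 hm

end FG

end Cfsg.Agent.H806.FourFull
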