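import Cfsg.Agent.H806.RecTwoThreeA
import Cfsg.Agent.H58.Rec.Outer
import Cfsg.Agent.H58.Rec.Names
import Cfsg.Agent.H537.CopSC
import Cfsg.Agent.H163.PG.Fi23
import Cfsg.Agent.S2080

/-!
# `Fi23` is recognizable by the set of its element orders (helper806)
-/

set_option autoImplicit false
set_option maxRecDepth 100000

namespace Cfsg.Agent.H806.Rec

open Cfsg Subgroup
open Cfsg.Agent.H58.Rec Cfsg.Agent.OrdDiv Cfsg.Agent.H436
open Cfsg.Agent.H455.Isolated
open Cfsg.Agent.H537.Cop (SC)

universe u v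

theorem isolated_of_sc {G : Type*} [Group G] [Finite G] {r : ℕ} (hr : r.Prime) (h : SC r G) : Isolated G r := by
  rw [isolated_iff]
  rintro s hs hsr ⟨g, hg⟩
  have h1 : orderOf (g ^ s) = r := by
    rw [orderOf_pow_of_dvd hs.ne_zero (by rw [hg]; exact dvd_mul_left s r), hg]
    exact Nat.mul_div_cancel _ hs.pos
  have h2 := h _ h1
  have h3 := orderOf_dvd_natCard
    (⟨g, mem_centralizer_singleton_iff.2 ((Commute.refl g).pow_right s).eq⟩ : centralizer ({g ^ s} : Set G))
  rw [Subgroup.orderOf_mk, h2, hg] at h3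
  have h4 : s ∣ 1 := Nat.dvd_of_mul_dvd_mul_left hr.pos (by rwa [mul_one])
  exact hs.one_lt.ne' (Nat.dvd_one.1 h4)

/-- the order of `Fi23` -/
abbrev N23 : ℕ := 4089470473293004800

theorem eleven_no {M : Type*} [Group M] (hM : Spor.IsoFi23 M) {s : ℕ} (hs : s.Prime) (h3 : 3 ≤ s)
    (h22 : ¬ s ∣ 22) : ¬ HasOrd M (11 * s) := by
  obtain ⟨e⟩ := hM
  rintro ⟨g, hg⟩
  have hg' : orderOf (e g) = 11 * s := by rw [MulEquiv.orderOf_eq, hg]
  refine H163.PG.FiTT.eleven (x := (e g) ^ s) (y := (e g) ^ 11) (s := s) ?_ hs h3 h22 ?_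
    (((Commute.refl (e g)).pow_left s).pow_right 11).eq
  · rw [orderOf_pow_of_dvd hs.ne_zero (by rw [hg']; exact dvd_mul_left s 11), hg']
    exact Nat.mul_div_cancel _ hs.pos
  · rw [orderOf_pow_of_dvd (by norm_num) (by rw [hg']; exact dvd_mul_right 11 s), hg']
    exact Nat.mul_div_cancel_left _ (by norm_num)

theorem no_32 {M : Type*} [Group M] (hM : Spor.IsoFi23 M) : ¬ HasOrd M 32 := by
  obtain ⟨e⟩ := hM
  rintro ⟨g, hg⟩
  exact fi23_32 (e g) (by rw [MulEquiv.orderOf_eq, hg])

theorem no_121 {M : Type*} [Group M] [Finite M] (hc : Nat.card M = N23) : ¬ HasOrd M 121 := by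
  rintro ⟨g, hg⟩
  have h1 := orderOf_dvd_natCard g
  rw [hg, hc] at h1
  exact absurd h1 (by decide)

theorem lst_eq : lst [2, 3, 5, 7, 11, 13, 17, 23] [17, 23] 23 19 = [.fi23] := by decide +kernel

theorem frob_of {S : Type*} [Group S] [Finite S] (hc : Nat.card S = N23) {s e : ℕ} (hs : s.Prime)
    (hsN : s ∣ N23) (hsq : ¬ s * s ∣ N23) (h : SC s S) (he : 1 < e)
    (hu : ∀ f ∈ List.range s, f ∣ s - 1 → s * f ∣ N23 → N23 / (s * f) % s = 1 → f = e) : HasFrob S s e := by
  refine hasFrob_of_card hs hc hsN hsq (fun x hx y hxy => ?_) he hu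
  have h1 : zpowers x ≤ centralizer ({x} : Set S) := by
    rw [zpowers_le]
    exact mem_centralizer_singleton_iff.2 rfl
  have h2 : zpowers x = centralizer ({x} : Set S) :=
    eq_of_le_of_card_ge h1 (by rw [h x hx, Nat.card_zpowers, hx])
  rw [h2]
  exact mem_centralizer_singleton_iff.2 hxy.eq.symm

/-- **`Fi23` is recognizable by spectrum** -/
theorem rec_fi23 (hN : NameHyp.{u}) {G : Type u} [Group G] [Finite G] {M : Type v} [Group M] [Finite M]
    (hM : Spor.IsoFi23 M) (h : Same G M) : Nonempty (G ≃* M) := by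
  have hc : Nat.card M = N23 := NotCT.Orders.fi23 hM
  have s23 : SC 23 M := H537.Cop.fi23_23 hM
  have s17 : SC 17 M := H537.Cop.fi23_17 hM
  have p23 : Nat.Prime 23 := by norm_num
  have p17 : Nat.Prime 17 := by norm_num
  have p11 : Nat.Prime 11 := by norm_num
  have i23 := isolated_of_sc p23 s23
  have i17 := isolated_of_sc p17 s17
  have g23 : Good M 23 := good_of_two p23 (by norm_num) (by rw [hc]; decide) i23 p17 (by norm_num)
    (by rw [hc]; decide) i17 (by norm_num)
  have g17 : Good M 17 := good_of_two p17 (by norm_num) (by rw [hc]; decide) i17 p23 (by norm_num)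
    (by rw [hc]; decide) i23 (by norm_num)
  have hns : ¬ Group.IsSolvable G := by
    refine not_solvable_of_same h p11 p17 p23 (by norm_num) (by norm_num) (by norm_num) (by rw [hc]; decide)
      (by rw [hc]; decide) (by rw [hc]; decide) (eleven_no hM p17 (by norm_num) (by norm_num))
      (eleven_no hM p23 (by norm_num) (by norm_num)) ?_
    exact (isolated_iff.1 i17) 23 p23 (by norm_num)
  have h2 : 2 ∣ Nat.card G := (dvd_of_same h Nat.prime_two).2 (by rw [hc]; decide)
  obtain ⟨X, _, _, π, S, hred⟩ := exists_red hns h2 (g23.of_same h)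
  have r23 := hred 23 (g23.of_same h)
  have r17 := hred 17 (g17.of_same h)
  have hSs := r23.simple
  -- the name of `S`
  have hps : ∀ r : ℕ, r.Prime → r ∣ Nat.card G → r ∈ [2, 3, 5, 7, 11, 13, 17, 23] := by
    intro r hr hd
    have h3 := (dvd_of_same h hr).1 hd
    rw [hc, show N23 = 2 ^ 18 * 3 ^ 13 * 5 ^ 2 * 7 * 11 * 13 * 17 * 23 by norm_num] at h3
    simp only [hr.dvd_mul] at h3
    have key : ∀ q k : ℕ, q.Prime → r ∣ q ^ k → r = q := fun q k hq h4 =>
      (Nat.prime_dvd_prime_iff_eq hr hq).1 (hr.dvd_of_dvd_pow h4)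
    have key' : ∀ q : ℕ, q.Prime → r ∣ q → r = q := fun q hq h4 => (Nat.prime_dvd_prime_iff_eq hr hq).1 h4
    rcases h3 with ((((((h4 | h4) | h4) | h4) | h4) | h4) | h4) | h4
    · rw [key 2 18 (by norm_num) h4]; decide
    · rw [key 3 13 (by norm_num) h4]; decide
    · rw [key 5 2 (by norm_num) h4]; decide
    · rw [key' 7 (by norm_num) h4]; decide
    · rw [key' 11 (by norm_num) h4]; decide
    · rw [key' 13 (by norm_num) h4]; decide
    · rw [key' 17 (by norm_num) h4]; decide
    · rw [key' 23 (by norm_num) h4]; decide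
  have hSG : ∀ r : ℕ, r.Prime → r ∣ Nat.card S → r ∣ Nat.card G := fun r hr hd =>
    (hasOrd_prime hr).1 (r23.hasOrd' ((hasOrd_prime hr).2 hd))
  obtain ⟨g, hg⟩ := hN S r23.nonab
  have hmem := mem_lst hg (ps := [2, 3, 5, 7, 11, 13, 17, 23]) (rs := [17, 23]) (B := 23) (N := 19) (by norm_num)
    (by decide) (by norm_num) (by decide) (fun r hr hd => hps r hr (hSG r hr hd)) (by
      intro r hr
      rcases List.mem_cons.1 hr with rfl | hr
      · exact r17.dvd
      · rw [List.mem_singleton] at hr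
        rw [hr]
        exact r23.dvd)
  rw [lst_eq, List.mem_singleton] at hmem
  subst hmem
  have hSi : Spor.IsoFi23 S := hg.real
  obtain ⟨eS⟩ := hSi
  obtain ⟨eM⟩ := hM
  have e : S ≃* M := eS.trans eM.symm
  have hM : Spor.IsoFi23 M := ⟨eM⟩
  have hcS : Nat.card S = N23 := (Nat.card_congr e.toEquiv).trans hc
  have f23 : HasFrob S 23 11 := frob_of hcS p23 (by decide) (by decide) (s23.congr e) (by norm_num) (by decide)
  have f17 : HasFrob S 17 16 := frob_of hcS p17 (by decide) (by decide) (s17.congr e) (by norm_num) (by decide)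
  have no : ∀ s : ℕ, s.Prime → 3 ≤ s → ¬ s ∣ 22 → ¬ HasOrd G (11 * s) := fun s hs h3 h22 h4 =>
    eleven_no hM hs h3 h22 ((h _).1 h4)
  refine finish r23 (fun p hp hd => ?_) e (Or.inl ?_)
  · have h3 := hps p hp hd
    simp only [List.mem_cons, List.not_mem_nil, or_false] at h3
    rcases h3 with rfl | rfl | rfl | rfl | rfl | rfl | rfl | rfl
    · exact r23.kill' (by norm_num) p17 (by norm_num) f17 fun h4 => no_32 hM ((h _).1 h4)
    · exact r23.kill' (by norm_num) p23 (by norm_num) f23 (no 3 (by norm_num) (by norm_num) (by norm_num))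
    · exact r23.kill' (by norm_num) p23 (by norm_num) f23 (no 5 (by norm_num) (by norm_num) (by norm_num))
    · exact r23.kill' (by norm_num) p23 (by norm_num) f23 (no 7 (by norm_num) (by norm_num) (by norm_num))
    · exact r23.kill' (by norm_num) p23 (by norm_num) f23 fun h4 => no_121 hc ((h _).1 h4)
    · exact r23.kill' (by norm_num) p23 (by norm_num) f23 (no 13 (by norm_num) (by norm_num) (by norm_num))
    · exact r17.not_dvd
    · exact r23.not_dvd
  · rw [Cfsg.Agent.H548.Crit.card_out_congr eM]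
    exact Cfsg.Agent.S2080.result

end Cfsg.Agent.H806.Rec
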