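import Cfsg.Agent.H806.ImcCol
import Cfsg.Agent.H995.IMBRow
import Cfsg.Agent.H94.IMCLoc
import Cfsg.Agent.H648.Loc.RowB

/-!
# S4526, the Baby Monster (helper806, task 3150)

`imc_b` : for every prime divisor `p` of the order of the Baby Monster some irreducible character of degree
divisible by `p` has a vector fixed by a Sylow `p`-subgroup.

* `p = 2` : `loc_B`;
* `p = 3, 5` : otherwise an orbit `O` of a Sylow `p`-subgroup `P` on the transpositions only involves the
  constituents of degree prime to `p` of the permutation character `1 + 96255 + 9458750 + 4275362520 + 9287037474`,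
  i.e. the trivial one and one other constituent, and the number of transpositions `y ∈ O` whose product with a
  transposition `x ∉ O` is in the class `2B` is a rational multiple of `|O|`, not an integer;
* `p = 7` : the number of transpositions is prime to `7`, the degree `9458750` is not;
* the other primes divide the order exactly once: `im_b`.
-/

set_option autoImplicit false
set_option linter.constructorNameAsVariable false

namespace Cfsg.Agent.H806.ImcB

open Cfsg Cfsg.Agent.BabyM.Inst Cfsg.Agent.H995.BSch Cfsg.Agent.H816.IMEig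
  Cfsg.Agent.H816.IMEig.Col Cfsg.Agent.H995.IMB Cfsg.Agent.H806.ImcCol Cfsg.Agent.H625.SylConst
open Cfsg.Agent.H995.BSchVal hiding w0 w1 w2 w3

/-- The colour scheme of the Baby Monster on its transpositions. -/
theorem col : Col M.G (X M) (Fin 5) (cX M) 0 := sch.isCol BabyM.Instance.all BabyM.Instance.tr

theorem card_XX : Nat.card (X M) = 13571955000 := by
  have := card_X BabyM.Instance.all BabyM.Instance.tr
  rw [this]

instance finite_XX : Finite (X M) := Nat.finite_of_card_ne_zero (by rw [card_XX]; norm_num)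

theorem deg_sum0 : ((96255 : ℕ) : ℂ) * ∑ u, ((∑ w, t u w : ℕ) : ℂ) * w0 u ^ 2 = (Nat.card (X M) : ℂ) := by
  rw [card_XX]
  simp only [Fin.sum_univ_five]
  simp [t, w0]
  norm_num

theorem deg_sum1 : ((9458750 : ℕ) : ℂ) * ∑ u, ((∑ w, t u w : ℕ) : ℂ) * w1 u ^ 2 = (Nat.card (X M) : ℂ) := by
  rw [card_XX]
  simp only [Fin.sum_univ_five]
  simp [t, w1]
  norm_num

theorem deg_sum2 : ((4275362520 : ℕ) : ℂ) * ∑ u, ((∑ w, t u w : ℕ) : ℂ) * w2 u ^ 2 = (Nat.card (X M) : ℂ) := by
  rw [card_XX]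
  simp only [Fin.sum_univ_five]
  simp [t, w2]
  norm_num

theorem deg_sum3 : ((9287037474 : ℕ) : ℂ) * ∑ u, ((∑ w, t u w : ℕ) : ℂ) * w3 u ^ 2 = (Nat.card (X M) : ℂ) := by
  rw [card_XX]
  simp only [Fin.sum_univ_five]
  simp [t, w3]
  norm_num

variable {p : ℕ}

/-- If `IMC p` fails, the sums over a `P`-invariant set vanish. -/
theorem vanish {θ : ℂ} {ω : Fin 5 → ℂ} (hE : Eig (1 : Fin 5) 0 t θ ω) {f : ℕ}
    (hf : (f : ℂ) * ∑ u, ((∑ w, t u w : ℕ) : ℂ) * ω u ^ 2 = (Nat.card (X M) : ℂ)) (hpf : p ∣ f)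
    (P : Sylow p M.G) (O : Set (X M)) (hO : ∀ g ∈ (P : Subgroup M.G), ∀ y ∈ O, g • y ∈ O)
    (hI : ¬ IMC p M.G) (x : X M) : ∑ u, (num (cX M) O x u : ℂ) * ω u = 0 := by
  obtain ⟨z₀, h1, h2⟩ := exists_z
  exact sum_eq_zero col (x₀ := QuotientGroup.mk 1) (z₀ := z₀) (t := t) h2 (by rw [h1]; exact hE) hf hpf P O hO hI x

/-- An orbit of a Sylow subgroup and a point outside. -/
theorem exists_orb [hp : Fact p.Prime] (P : Sylow p M.G) : ∃ (O : Set (X M)) (x : X M) (k : ℕ),
    (∀ g ∈ (P : Subgroup M.G), ∀ y ∈ O, g • y ∈ O) ∧ x ∉ O ∧ Nat.card O = p ^ k := by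
  obtain ⟨O, -, h2, k, hk⟩ := exists_orbit P (QuotientGroup.mk 1 : X M)
  have h3 : ∃ x, x ∉ O := by
    by_contra hcon
    push Not at hcon
    have h4 : O = Set.univ := Set.eq_univ_of_forall hcon
    rw [h4, Nat.card_univ, card_XX] at hk
    have h5 : (23 : ℕ) ∣ p ^ k := by rw [← hk]; norm_num
    have h6 : (31 : ℕ) ∣ p ^ k := by rw [← hk]; norm_num
    have h7 := (Nat.prime_dvd_prime_iff_eq (by norm_num) hp.out).1 (Nat.Prime.dvd_of_dvd_pow (by norm_num) h5)
    have h8 := (Nat.prime_dvd_prime_iff_eq (by norm_num) hp.out).1 (Nat.Prime.dvd_of_dvd_pow (by norm_num) h6)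
    omega
  obtain ⟨x, hx⟩ := h3
  exact ⟨O, x, k, h2, hx, hk⟩

theorem imc_three [Fact (Nat.Prime 3)] : IMC 3 M.G := by
  by_contra hI
  obtain ⟨P⟩ : Nonempty (Sylow 3 M.G) := inferInstance
  obtain ⟨O, x, k, hO, hx, hk⟩ := exists_orb P
  have e0 := vanish eig0 deg_sum0 (by norm_num) P O hO hI x
  have e2 := vanish eig2 deg_sum2 (by norm_num) P O hO hI x
  have e3 := vanish eig3 deg_sum3 (by norm_num) P O hO hI x
  have es := sum_num (c := cX M) O x
  rw [hk, Fin.sum_univ_five, num_zero col hx, zero_add] at es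
  simp only [Fin.sum_univ_five] at e0 e2 e3
  rw [num_zero col hx] at e0 e2 e3
  have es' : (num (cX M) O x 1 : ℂ) + num (cX M) O x 2 + num (cX M) O x 3 + num (cX M) O x 4 = (3 : ℂ) ^ k := by
    exact_mod_cast es
  have key : (13571955000 : ℂ) * num (cX M) O x 1 = 3917160 * (3 : ℂ) ^ k := by
    simp [w0] at e0
    simp [w2] at e2
    simp [w3] at e3
    linear_combination 3917160 * es' + 17117989200 * e0 - 209321748979200 * e2 - 481440022652160 * e3
  have key' : 13571955000 * num (cX M) O x 1 = 3917160 * 3 ^ k := by exact_mod_cast key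
  have h23 : 23 ∣ 3917160 * 3 ^ k := by rw [← key']; exact Dvd.dvd.mul_right (by norm_num) _
  rcases (Nat.Prime.dvd_mul (by norm_num)).1 h23 with h | h
  · norm_num at h
  · have h7 := (Nat.prime_dvd_prime_iff_eq (by norm_num) (by norm_num)).1 (Nat.Prime.dvd_of_dvd_pow (by norm_num) h)
    omega

theorem imc_five [Fact (Nat.Prime 5)] : IMC 5 M.G := by
  by_contra hI
  obtain ⟨P⟩ : Nonempty (Sylow 5 M.G) := inferInstance
  obtain ⟨O, x, k, hO, hx, hk⟩ := exists_orb P
  have e0 := vanish eig0 deg_sum0 (by norm_num) P O hO hI x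
  have e1 := vanish eig1 deg_sum1 (by norm_num) P O hO hI x
  have e2 := vanish eig2 deg_sum2 (by norm_num) P O hO hI x
  have es := sum_num (c := cX M) O x
  rw [hk, Fin.sum_univ_five, num_zero col hx, zero_add] at es
  simp only [Fin.sum_univ_five] at e0 e1 e2
  rw [num_zero col hx] at e0 e1 e2
  have es' : (num (cX M) O x 1 : ℂ) + num (cX M) O x 2 + num (cX M) O x 3 + num (cX M) O x 4 = (5 : ℂ) ^ k := by
    exact_mod_cast es
  have key : (13571955000 : ℂ) * num (cX M) O x 1 = 3969000 * (5 : ℂ) ^ k := by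
    simp [w0] at e0
    simp [w1] at e1
    simp [w2] at e2
    linear_combination 3969000 * es' + 22107848400 * e0 + 490341600000 * e1 + 12313044057600 * e2
  have key' : 13571955000 * num (cX M) O x 1 = 3969000 * 5 ^ k := by exact_mod_cast key
  have h23 : 23 ∣ 3969000 * 5 ^ k := by rw [← key']; exact Dvd.dvd.mul_right (by norm_num) _
  rcases (Nat.Prime.dvd_mul (by norm_num)).1 h23 with h | h
  · norm_num at h
  · have h7 := (Nat.prime_dvd_prime_iff_eq (by norm_num) (by norm_num)).1 (Nat.Prime.dvd_of_dvd_pow (by norm_num) h)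
    omega

theorem imc_seven [Fact (Nat.Prime 7)] : IMC 7 M.G := by
  by_contra hI
  obtain ⟨P⟩ : Nonempty (Sylow 7 M.G) := inferInstance
  obtain ⟨x, hx⟩ : (MulAction.fixedPoints (P : Subgroup M.G) (X M)).Nonempty := by
    refine P.isPGroup'.nonempty_fixed_point_of_prime_not_dvd_card (X M) ?_
    rw [card_XX]
    norm_num
  have hO : ∀ g ∈ (P : Subgroup M.G), ∀ y ∈ ({x} : Set (X M)), g • y ∈ ({x} : Set (X M)) := by
    rintro g hg y rfl
    exact hx ⟨g, hg⟩
  have e1 := vanish eig1 deg_sum1 (by norm_num) P {x} hO hI x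
  have h1 : ∀ u, num (cX M) {x} x u = if u = 0 then 1 else 0 := by
    intro u
    unfold num
    split_ifs with hu
    · subst hu
      have : Unique {y : X M // y ∈ ({x} : Set (X M)) ∧ cX M x y = 0} :=
        ⟨⟨⟨x, rfl, col.self x⟩⟩, fun y => Subtype.ext y.2.1⟩
      exact Nat.card_unique
    · have : IsEmpty {y : X M // y ∈ ({x} : Set (X M)) ∧ cX M x y = u} := ⟨fun y => hu (by
        have h2 := y.2.2
        rw [show (y : X M) = x from y.2.1, col.self x] at h2
        exact h2.symm)⟩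
      exact Nat.card_of_isEmpty
  simp only [h1] at e1
  rw [Fin.sum_univ_five] at e1
  simp [w1] at e1

universe u

/-- **The Baby Monster.** -/
theorem imc_b {S : Type u} [Group S] [Finite S] (h : Cfsg.Spor.IsoB S) {p : ℕ} [hp : Fact p.Prime]
    (hd : p ∣ Nat.card S) : IMC p S := by
  have hex : ¬ p ^ 2 ∣ Nat.card S → IMC p S := fun h2 =>
    Cfsg.Agent.H794.Imc.imc_of_exact hd h2 (im_b h hd)
  have hps : p ∈ ps := mem_ps hp.out (by rw [← card_of h]; exact hd)
  obtain ⟨e⟩ : Nonempty (S ≃* M.G) := by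
    obtain ⟨e⟩ := h
    exact ⟨e.trans Cfsg.Agent.BM.KHAll.iso⟩
  unfold ps at hps
  simp only [List.mem_cons, List.not_mem_nil, or_false] at hps
  rcases hps with rfl | rfl | rfl | rfl | rfl | rfl | rfl | rfl | rfl | rfl | rfl
  · exact Cfsg.Agent.H94.IMCLoc.imc_two_of_loc (Cfsg.Agent.H648.Loc.loc_B h)
  · exact IMC.of_equiv e imc_three
  · exact IMC.of_equiv e imc_five
  · exact IMC.of_equiv e imc_seven
  all_goals
    refine hex ?_
    rw [card_of h]
    norm_num

end Cfsg.Agent.H806.ImcB
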