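import Cfsg.Agent.H816.IMEig
import Cfsg.Agent.H625.SylConst

/-!
# `IMC p G` from the orbits of a Sylow `p`-subgroup in a multiplicity free permutation representation (helper806)

`G` acts on `X`, the colours `c` are the orbits on pairs, and `ω` is the spherical function of a constituent
of degree `f`, `p ∣ f` (`H816/IMEig`).

* `imc_of_set` : if a Sylow `p`-subgroup `P` of `G` leaves the set `O ⊆ X` invariant and
  `∑_{y ∈ O} ω (c x y) ≠ 0` for some point `x`, then `IMC p G`: the function `x ↦ ∑_{y ∈ O} ω (c x y)` is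
  a vector of the constituent fixed by `P`.

If `IMC p G` fails, the sums vanish for *all* constituents of degree divisible by `p`, and (if only one or two
constituents remain) the numbers of points of a given colour in an orbit of `P` are rational multiples of the
length of the orbit, which is often not possible.
-/

set_option autoImplicit false
set_option linter.unusedSectionVars false

open Cfsg
open scoped BigOperators

namespace Cfsg.Agent.H806.ImcCol

open Cfsg.Agent.Characters.Core Cfsg.Agent.H625.SylConst Cfsg.Agent.H816.IMEig Module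

universe u v

/-- A nonzero vector fixed by `P`. -/
theorem fix_of_exists {G : Type u} [Group G] (P : Subgroup G) [Finite P] {V : Type v} [AddCommGroup V]
    [Module ℂ V] [FiniteDimensional ℂ V] (ρ : Representation ℂ G V) {v : V} (hv : v ≠ 0)
    (h : ∀ z ∈ P, ρ z v = v) : Fix P ρ.character := by
  classical
  have := Fintype.ofFinite P
  have hinv : Invertible (Fintype.card P : ℂ) := invertibleOfNonzero (by
    rw [← Nat.card_eq_fintype_card]; exact card_ne_zero_complex)
  let σ : Representation ℂ P V := ρ.comp P.subtype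
  have h1 : LinearMap.trace ℂ _ σ.averageMap = (Module.finrank ℂ σ.invariants : ℂ) :=
    LinearMap.IsProj.trace σ.isProj_averageMap
  have h2 : σ.averageMap = ⅟(Fintype.card P : ℂ) • ∑ z : P, ρ (z : G) := by
    unfold Representation.averageMap GroupAlgebra.average
    rw [map_smul, map_sum]
    congr 1
    refine Finset.sum_congr rfl fun z _ => ?_
    rw [Representation.asAlgebraHom_of]
    rfl
  have h3 : ∑ z : P, ρ.character (z : G) = (Fintype.card P : ℂ) * (Module.finrank ℂ σ.invariants : ℂ) := by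
    rw [← h1, h2, map_smul, map_sum, smul_eq_mul, ← mul_assoc, mul_invOf_self, one_mul]
    rfl
  rw [fix_iff, h3]
  have hc : (Fintype.card P : ℂ) ≠ 0 := by
    rw [← Nat.card_eq_fintype_card]; exact card_ne_zero_complex
  rw [mul_ne_zero_iff, and_iff_right hc, Nat.cast_ne_zero, ← Nat.pos_iff_ne_zero, Module.finrank_pos_iff,
    Submodule.nontrivial_iff_ne_bot, Submodule.ne_bot_iff]
  exact ⟨v, fun z => h z z.2, hv⟩

section

variable {G : Type u} [Group G] {X : Type v} [MulAction G X] {ι : Type} [Fintype ι] [DecidableEq ι]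
  {c : X → X → ι} {o : ι}

/-- The number of points of `O` of colour `u` from `x`. -/
noncomputable def num (c : X → X → ι) (O : Set X) (x : X) (u : ι) : ℕ := Nat.card {y : X // y ∈ O ∧ c x y = u}

theorem sum_num [Finite X] (O : Set X) (x : X) : ∑ u, num c O x u = Nat.card O := by
  classical
  have e : O ≃ Σ u : ι, {y : X // y ∈ O ∧ c x y = u} :=
    ⟨fun y => ⟨c x y.1, y.1, y.2, rfl⟩, fun y => ⟨y.2.1, y.2.2.1⟩, fun _ => rfl, fun y => by
      obtain ⟨w, y, hy1, rfl⟩ := y
      rfl⟩
  rw [Nat.card_congr e, Nat.card_sigma]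
  rfl

theorem num_zero (h : Col G X ι c o) {O : Set X} {x : X} (hx : x ∉ O) : num c O x o = 0 := by
  have : IsEmpty {y : X // y ∈ O ∧ c x y = o} := ⟨fun y => hx (by
    rw [(h.diag _ _).1 y.2.2]; exact y.2.1)⟩
  exact Nat.card_of_isEmpty

variable [Fintype X] [DecidableEq X]

theorem prep_EE (h : Col G X ι c o) (ω : ι → ℂ) (g : G) (f : X → ℂ) :
    Col.prep G X g (Col.EE c ω f) = Col.EE c ω (Col.prep G X g f) := by
  rw [Col.EE_apply, Col.EE_apply, map_sum]
  refine Fintype.sum_equiv (MulAction.toPerm g) _ _ fun y => ?_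
  rw [map_smul, h.prep_ee, MulAction.toPerm_apply, Col.prep_apply, inv_smul_smul]

end

/-- **The criterion.** -/
theorem imc_of_set {G : Type u} [Group G] [Finite G] {X : Type v} [Finite X] [MulAction G X] {ι : Type}
    [Fintype ι] [DecidableEq ι] {c : X → X → ι} {o : ι} (h : Col G X ι c o) {x₀ z₀ : X} {t : ι → ι → ℕ}
    {θ : ℂ} {ω : ι → ℂ} (ht : ∀ u w, Nat.card {y // c x₀ y = u ∧ c z₀ y = w} = t u w)
    (hE : Col.Eig (c x₀ z₀) o t θ ω) {f : ℕ}
    (hf : (f : ℂ) * ∑ u, ((∑ w, t u w : ℕ) : ℂ) * ω u ^ 2 = (Nat.card X : ℂ))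
    {p : ℕ} (hpf : p ∣ f) (P : Sylow p G) (O : Set X)
    (hO : ∀ g ∈ (P : Subgroup G), ∀ y ∈ O, g • y ∈ O) (x : X)
    (hne : ∑ u, (num c O x u : ℂ) * ω u ≠ 0) : IMC p G := by
  classical
  have := Fintype.ofFinite X
  have hX : (Nat.card X : ℂ) ≠ 0 := by
    have : Nonempty X := ⟨x₀⟩
    exact_mod_cast (Nat.card_pos (α := X)).ne'
  have hS : Col.SS t ω ≠ 0 := by
    intro h0
    unfold Col.SS at h0
    rw [h0, mul_zero] at hf
    exact hX hf.symm
  refine ⟨⟨_, isIrrCharacter_of_rep _ (h.irr ht hE)⟩, P, ?_, ?_⟩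
  · have h1 := h.finrank_mul ht hE hS
    rw [← Nat.card_eq_fintype_card, ← hf] at h1
    have h2 := mul_right_cancel₀ hS h1
    have h3 : charDegree (h.sub ω).toRepresentation.character = f := by
      apply Cfsg.Agent.Blocks.Basic.charDegree_of_eq
      rw [Representation.char_one]
      exact h2
    rw [h3]
    exact hpf
  · set v : X → ℂ := Col.EE c ω (fun y => if y ∈ O then 1 else 0) with hv
    have hvm : v ∈ Col.WW c ω := Col.EE_mem _
    have hvx : v x = ∑ u, (num c O x u : ℂ) * ω u := by
      rw [hv, Col.EE_apply, Finset.sum_apply]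
      have h1 : ∀ u, (num c O x u : ℂ) * ω u = ∑ y, if y ∈ O ∧ c x y = u then ω u else 0 := by
        intro u
        rw [← Finset.sum_filter, Finset.sum_const, nsmul_eq_mul]
        congr 1
        unfold num
        rw [Nat.card_eq_fintype_card, Fintype.card_subtype]
      simp only [h1]
      rw [Finset.sum_comm]
      refine Finset.sum_congr rfl fun y _ => ?_
      show (if y ∈ O then (1 : ℂ) else 0) • ω (c x y) = _
      by_cases hy : y ∈ O
      · rw [if_pos hy, one_smul, Finset.sum_eq_single (c x y)]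
        · rw [if_pos ⟨hy, rfl⟩]
        · intro w _ hw
          rw [if_neg (fun h => hw h.2.symm)]
        · intro h; exact absurd (Finset.mem_univ _) h
      · rw [if_neg hy, zero_smul]
        symm
        apply Finset.sum_eq_zero
        intro w _
        rw [if_neg (fun h => hy h.1)]
    refine fix_of_exists (P : Subgroup G) _ (v := (⟨v, hvm⟩ : (h.sub ω).toSubmodule)) ?_ ?_
    · intro h0
      apply hne
      rw [← hvx]
      exact congrFun (congrArg Subtype.val h0) x
    · intro z hz
      apply Subtype.ext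
      show Col.prep G X z v = v
      rw [hv, prep_EE h]
      congr 1
      funext y
      rw [Col.prep_apply]
      have h1 : z⁻¹ • y ∈ O ↔ y ∈ O := by
        constructor
        · intro h1
          have := hO z hz _ h1
          rwa [smul_inv_smul] at this
        · exact hO _ (inv_mem hz) y
      simp only [h1]

/-- The contrapositive, for a function with rational values. -/
theorem sum_eq_zero {G : Type u} [Group G] [Finite G] {X : Type v} [Finite X] [MulAction G X] {ι : Type}
    [Fintype ι] [DecidableEq ι] {c : X → X → ι} {o : ι} (h : Col G X ι c o) {x₀ z₀ : X} {t : ι → ι → ℕ}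
    {θ : ℂ} {ω : ι → ℂ} (ht : ∀ u w, Nat.card {y // c x₀ y = u ∧ c z₀ y = w} = t u w)
    (hE : Col.Eig (c x₀ z₀) o t θ ω) {f : ℕ}
    (hf : (f : ℂ) * ∑ u, ((∑ w, t u w : ℕ) : ℂ) * ω u ^ 2 = (Nat.card X : ℂ))
    {p : ℕ} (hpf : p ∣ f) (P : Sylow p G) (O : Set X)
    (hO : ∀ g ∈ (P : Subgroup G), ∀ y ∈ O, g • y ∈ O) (hI : ¬ IMC p G) (x : X) :
    ∑ u, (num c O x u : ℂ) * ω u = 0 := by
  by_contra hne
  exact hI (imc_of_set h ht hE hf hpf P O hO x hne)

/-- A Sylow `p`-subgroup has an orbit whose length is a power of `p`. -/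
theorem exists_orbit {G : Type u} [Group G] [Finite G] {X : Type v} [Finite X] [MulAction G X] {p : ℕ}
    [hp : Fact p.Prime] (P : Sylow p G) (x : X) : ∃ O : Set X, x ∈ O ∧
      (∀ g ∈ (P : Subgroup G), ∀ y ∈ O, g • y ∈ O) ∧ ∃ k : ℕ, Nat.card O = p ^ k := by
  refine ⟨MulAction.orbit P x, MulAction.mem_orbit_self x, ?_, ?_⟩
  · rintro g hg _ ⟨z, rfl⟩
    exact ⟨(⟨g, hg⟩ : (P : Subgroup G)) * z, mul_smul (⟨g, hg⟩ : (P : Subgroup G)) z x⟩
  · obtain ⟨k, hk⟩ := P.isPGroup'.card_orbit x
    exact ⟨k, by rw [← hk]⟩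

end Cfsg.Agent.H806.ImcCol
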