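import Mathlib.Algebra.Group.Subgroup.Map
import Mathlib.GroupTheory.Subgroup.Center
import Mathlib.GroupTheory.Commutator.Basic
import Mathlib.Tactic.Group

/-!
# Central extensions: the action of the quotient and commutators of lifts

`CE π`: `π : P →* T` is surjective with central kernel. `cj h : T →* MulAut P` is the action by conjugation,
`br h a x = x⁻¹ * cj h a x`.
-/

set_option autoImplicit false

universe u v

namespace Cfsg.Agent.H806.Ls

variable {P : Type v} [Group P] {T : Type u} [Group T]

/-- `π` is a central extension. -/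
structure CE (π : P →* T) : Prop where
  surj : Function.Surjective π
  cen : ∀ c, π c = 1 → ∀ g, g * c = c * g

namespace CE

variable {π : P →* T}

theorem conj_eq (h : CE π) {x y : P} (hxy : π x = π y) : MulAut.conj x = MulAut.conj y := by
  have hc : π (y⁻¹ * x) = 1 := by rw [map_mul, map_inv, hxy, inv_mul_cancel]
  ext z
  rw [MulAut.conj_apply, MulAut.conj_apply]
  have := h.cen _ hc z
  calc x * z * x⁻¹ = y * ((y⁻¹ * x) * z) * x⁻¹ := by group
    _ = y * (z * (y⁻¹ * x)) * x⁻¹ := by rw [this]
    _ = y * z * y⁻¹ := by group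

/-- the action of the quotient -/
noncomputable def cj (h : CE π) : T →* MulAut P where
  toFun t := MulAut.conj (Function.surjInv h.surj t)
  map_one' := by
    rw [h.conj_eq (y := 1) (by rw [Function.surjInv_eq h.surj, map_one]), map_one]
  map_mul' a b := by
    rw [← map_mul]
    apply h.conj_eq
    rw [map_mul, Function.surjInv_eq h.surj, Function.surjInv_eq h.surj, Function.surjInv_eq h.surj]

theorem cj_eq (h : CE π) (p x : P) : h.cj (π p) x = p * x * p⁻¹ := by
  change MulAut.conj _ x = _
  rw [h.conj_eq (y := p) (Function.surjInv_eq _ _), MulAut.conj_apply]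

theorem map_cj (h : CE π) (a : T) (x : P) : π (h.cj a x) = a * π x * a⁻¹ := by
  obtain ⟨p, rfl⟩ := h.surj a
  rw [h.cj_eq, map_mul, map_mul, map_inv]

theorem cj_ker (h : CE π) (a : T) {c : P} (hc : π c = 1) : h.cj a c = c := by
  obtain ⟨p, rfl⟩ := h.surj a
  rw [h.cj_eq, h.cen c hc, mul_assoc, mul_inv_cancel, mul_one]

/-- the commutator -/
noncomputable def br (h : CE π) (a : T) (x : P) : P := x⁻¹ * h.cj a x

variable (h : CE π)

theorem cj_br (a : T) (x : P) : h.cj a x = x * h.br a x := by
  unfold br; rw [mul_inv_cancel_left]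

theorem br_ker {a : T} {x : P} (hax : a * π x = π x * a) : π (h.br a x) = 1 := by
  unfold br
  rw [map_mul, map_inv, h.map_cj, hax]
  group

/-- Multiplying by a central element. -/
theorem cj_mul_ker (a : T) (x : P) {c : P} (hc : π c = 1) : h.cj a (x * c) = h.cj a x * c := by
  rw [map_mul, h.cj_ker a hc]

theorem br_mul_ker (a : T) (x : P) {c : P} (hc : π c = 1) : h.br a (x * c) = h.br a x := by
  unfold br
  rw [h.cj_mul_ker a x hc, mul_inv_rev, mul_assoc, ← mul_assoc x⁻¹, h.cen c hc, inv_mul_cancel_left]

/-- The commutator depends only on the images. -/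
theorem br_congr (a : T) {x y : P} (hxy : π x = π y) : h.br a x = h.br a y := by
  have hc : π (y⁻¹ * x) = 1 := by rw [map_mul, map_inv, hxy, inv_mul_cancel]
  have := h.br_mul_ker a y hc
  rwa [mul_inv_cancel_left] at this

/-- Conjugation of commutators of commuting elements. -/
theorem br_conj {a a' u : T} {x x' : P} (hax : a * π x = π x * a) (ha' : a' = u * a * u⁻¹)
    (hx' : π x' = u * π x * u⁻¹) : h.br a' x' = h.br a x := by
  have h1 : h.br a' x' = h.br a' (h.cj u x) := h.br_congr a' (by rw [hx', h.map_cj])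
  have h2 : h.br a' (h.cj u x) = h.cj u (h.br a x) := by
    unfold br
    rw [map_mul, map_inv, ha', ← MulAut.mul_apply, ← MulAut.mul_apply, ← map_mul, ← map_mul]
    congr 3
    group
  rw [h1, h2, h.cj_ker u (h.br_ker hax)]

theorem br_mul_right {a : T} {x y : P} (hax : a * π x = π x * a) : h.br a (x * y) = h.br a x * h.br a y := by
  have h1 := h.cen _ (h.br_ker hax)
  unfold br at *
  rw [map_mul, mul_inv_rev]
  calc y⁻¹ * x⁻¹ * (h.cj a x * h.cj a y) = (y⁻¹ * (x⁻¹ * h.cj a x)) * h.cj a y := by group
    _ = ((x⁻¹ * h.cj a x) * y⁻¹) * h.cj a y := by rw [h1]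
    _ = _ := by group

theorem br_mul_left {a b : T} {x : P} (hbx : b * π x = π x * b) :
    h.br (a * b) x = h.br a x * h.br b x := by
  have h1 : h.cj (a * b) x = h.cj a x * h.br b x := by
    rw [map_mul, MulAut.mul_apply, h.cj_br b x, h.cj_mul_ker _ _ (h.br_ker hbx)]
  unfold br at h1 ⊢
  rw [h1]
  group

theorem br_one_left (x : P) : h.br 1 x = 1 := by
  unfold br; rw [map_one, MulAut.one_apply, inv_mul_cancel]

/-- `br a x` has square `1` if `a` is an involution. -/
theorem br_sq {a : T} {x : P} (hax : a * π x = π x * a) (ha : a * a = 1) : h.br a x * h.br a x = 1 := by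
  rw [← h.br_mul_left hax, ha, h.br_one_left]

/-- The action on words. -/
theorem cj_fix_mul {a b : T} {x : P} (ha : h.cj a x = x) (hb : h.cj b x = x) : h.cj (a * b) x = x := by
  rw [map_mul, MulAut.mul_apply, hb, ha]

theorem cj_fix_iff {a : T} {x : P} : h.cj a x = x ↔ h.br a x = 1 := by
  unfold br
  rw [inv_mul_eq_one, eq_comm]

end CE

end Cfsg.Agent.H806.Ls
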