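import Cfsg.Agent.H806.LsThree
import Cfsg.Agent.H806.LsFiTwo

/-!
# `LS 3 16` for `Fi₂₂`, `Fi₂₃`, `B`, `M` (helper806)
-/

set_option autoImplicit false

universe u v w

namespace Cfsg.Agent.H806.Ls

open Cfsg Cfsg.Spor Cfsg.Agent.H921.Spor Cfsg.Agent.H921.Spor.Cox Cfsg.Agent.H921.Spor.Fi
open Cfsg.Agent.ChevalleyStructure.WeylData Cfsg.Agent.H920 Cfsg.Agent.H203.LS
open Cfsg.Agent.H920.FiTwo (gn_sq gn_comm gn_braid comm_ev)

section Twist

variable {G : Type u} [Group G] {t : ℕ → G} {g z : G}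

theorem three_twist (hc : Three.Ctx t g) (hz : z * z = 1) (hzt : ∀ a, a < 6 → z * t a = t a * z)
    (hzg : z * g = g * z) :
    Three.Ctx (fun a => t a * z) (g * z) ∧ Three.T (fun a => t a * z) (g * z) = Three.T t g := by
  have e0 : ∀ a, a < 6 → ∀ x, t a * z * (x * z) = t a * (z * x * z) := fun a _ x => by group
  have hzz : ∀ x, z * x = x * z → z * x * z = x := fun x hx => by rw [hx, mul_assoc, hz, mul_one]
  have es : ev (fun a => t a * z) Three.th6 = ev t Three.th6 * z := by
    rw [ev_twist _ fun a ha => hzt a ((by decide : ∀ a ∈ Three.th6, a < 6) a ha)]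
    have h1 : Three.th6.length = 2 * 10 + 1 := by decide
    rw [h1, pow_succ, pow_mul, pow_two, hz, one_pow, one_mul]
  have ew : ev (fun a => t a * z) Three.ws = ev t Three.ws := by
    rw [ev_twist _ fun a ha => hzt a ((by decide : ∀ a ∈ Three.ws, a < 6) a ha)]
    have h1 : Three.ws.length = 2 * 4 := by decide
    rw [h1, pow_mul, pow_two, hz, one_pow, mul_one]
  have hzs : z * ev t Three.th6 = ev t Three.th6 * z :=
    comm_ev fun a ha => hzt a ((by decide : ∀ a ∈ Three.th6, a < 6) a ha)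
  have hzw : z * ev t Three.ws = ev t Three.ws * z :=
    comm_ev fun a ha => hzt a ((by decide : ∀ a ∈ Three.ws, a < 6) a ha)
  refine ⟨⟨?_, ?_, ?_, ?_, ?_⟩, ?_⟩
  · intro a ha b hb
    rw [e0 a ha, hzz _ (hzt b hb)]
    exact hc.pre a ha b hb
  · calc g * z * (g * z) = g * (z * g * z) := by group
      _ = 1 := by rw [hzz _ hzg, hc.gg]
  · intro a h1 h2
    calc g * z * (t a * z) = g * (z * t a * z) := by group
      _ = t a * (z * g * z) := by rw [hzz _ (hzt a h1), hzz _ hzg, hc.gt a h1 h2]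
      _ = _ := by group
  · calc g * z * (t 1 * z) * (g * z) = g * (z * t 1 * z) * g * z := by group
      _ = t 1 * g * t 1 * z := by rw [hzz _ (hzt 1 (by norm_num)), hc.g1]
      _ = t 1 * (z * g * z) * t 1 * z := by rw [hzz _ hzg]
      _ = _ := by group
  · rw [ew, ← mul_assoc]
    have h1 : Commute (ev t Three.ws * g) z := by
      have h2 : Commute z (ev t Three.ws) := hzw
      have h3 : Commute z g := hzg
      exact (h2.mul_right h3).symm
    rw [h1.mul_pow, hc.sp, one_mul]
    have h2 : z ^ 10 = (z * z) ^ 5 := by rw [← pow_two, ← pow_mul]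
    rw [h2, hz, one_pow]
  · unfold Three.T
    rw [es]
    calc g * z * (ev t Three.th6 * z) = g * (z * ev t Three.th6 * z) := by group
      _ = _ := by rw [hzz _ hzs]

/-- The twisted elements in a subgroup. -/
theorem three_sub {K : Subgroup G} (hc : Three.Ctx t g) (hz : z * z = 1) (hzt : ∀ a, a < 6 → z * t a = t a * z)
    (hzg : z * g = g * z) (hK : ∀ a, a < 6 → t a * z ∈ K) (hgK : g * z ∈ K) :
    ∃ (t' : ℕ → K) (g' : K), Three.Ctx t' g' ∧ ((Three.T t' g' : K) : G) = Three.T t g := by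
  classical
  obtain ⟨h1, h2⟩ := three_twist hc hz hzt hzg
  let t' : ℕ → K := fun a => if ha : t a * z ∈ K then ⟨_, ha⟩ else 1
  have ht : ∀ a, a < 6 → (t' a : G) = t a * z := by
    intro a ha
    have : t' a = ⟨_, hK a ha⟩ := dif_pos (hK a ha)
    rw [this]
  have hs : ((ev t' Three.th6 : K) : G) = ev (fun a => t a * z) Three.th6 := by
    rw [coe_ev]; exact ev_congr fun a ha => ht a ((by decide : ∀ a ∈ Three.th6, a < 6) a ha)
  have hw : ((ev t' Three.ws : K) : G) = ev (fun a => t a * z) Three.ws := by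
    rw [coe_ev]; exact ev_congr fun a ha => ht a ((by decide : ∀ a ∈ Three.ws, a < 6) a ha)
  refine ⟨t', ⟨_, hgK⟩, ⟨?_, ?_, ?_, ?_, ?_⟩, ?_⟩
  · intro a ha b hb
    apply Subtype.ext
    rw [Subgroup.coe_pow, Subgroup.coe_mul, ht a ha, ht b hb]
    exact h1.pre a ha b hb
  · exact Subtype.ext h1.gg
  · intro a ha hb
    apply Subtype.ext
    rw [Subgroup.coe_mul, Subgroup.coe_mul, ht a ha]
    exact h1.gt a ha hb
  · apply Subtype.ext
    rw [Subgroup.coe_mul, Subgroup.coe_mul, Subgroup.coe_mul, Subgroup.coe_mul, ht 1 (by norm_num)]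
    exact h1.g1
  · apply Subtype.ext
    rw [Subgroup.coe_pow, Subgroup.coe_mul, hw]
    exact h1.sp
  · rw [← h2]
    unfold Three.T
    rw [Subgroup.coe_mul, hs]

/-- the word carrying the simple root `5` to the highest root -/
def vw : List ℕ := [1, 3, 4, 2, 3, 0, 2, 1, 3, 4]

/-- Criterion for `T ≠ 1`: a node attached to `t 5` only. -/
theorem three_ne_one (hc : Three.Ctx t g) {j : G} (hj : ∀ a, a < 5 → j * t a = t a * j) (hjg : j * g = g * j)
    (hb : j * t 5 * j = t 5 * j * t 5) (hjj : j * j = 1) (hne : g * t 1 ≠ 1) : Three.T t g ≠ 1 := by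
  intro hT
  have h1 : g = ev t Three.th6 := by
    unfold Three.T at hT
    rw [← inv_eq_of_mul_eq_one_left hc.ss]
    exact eq_inv_of_mul_eq_one_left hT
  have hv : ev t Three.th6 = ev t vw * t 5 * (ev t vw)⁻¹ := by
    have h2 : eqW certE6 Three.th6 (vw ++ ([5] ++ vw.reverse)) = true := by decide +kernel
    rw [hc.pre.eq h2, ev_append, ev_append, Three.ev_one, hc.pre.ev_reverse (w := vw) (by decide), mul_assoc]
  have hjv : j * ev t vw = ev t vw * j := comm_ev fun a ha => hj a ((by decide : ∀ a ∈ vw, a < 5) a ha)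
  have hbr : j * g * j = g * j * g := by
    rw [h1, hv]
    generalize ev t vw = v at hjv
    have h3 : v⁻¹ * j = j * v⁻¹ := by rw [inv_mul_eq_iff_eq_mul, ← mul_assoc, ← hjv]; group
    calc j * (v * t 5 * v⁻¹) * j = (j * v) * t 5 * (v⁻¹ * j) := by group
      _ = v * (j * t 5 * j) * v⁻¹ := by rw [hjv, h3]; group
      _ = v * t 5 * j * t 5 * v⁻¹ := by rw [hb]; group
      _ = v * t 5 * (v⁻¹ * (v * j)) * t 5 * v⁻¹ := by group
      _ = v * t 5 * (v⁻¹ * (j * v)) * t 5 * v⁻¹ := by rw [hjv]
      _ = _ := by group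
  have hgj : g = j := by
    have e1 : j * g * j = g := by rw [hjg, mul_assoc, hjj, mul_one]
    have e2 : g * j * g = j := by rw [← hjg, mul_assoc, hc.gg, mul_one]
    rw [← e1, hbr, e2]
  -- now `g` commutes with `t 1`
  have h2 := hj 1 (by norm_num)
  rw [← hgj] at h2
  have h3 := hc.g1
  have h4 : t 1 * t 1 = 1 := hc.pre.sq (by norm_num)
  rw [h2, mul_assoc, hc.gg, mul_one] at h3
  -- `t 1 = g`
  apply hne
  have h5 : t 1 * g * t 1 = g := by rw [← h2, mul_assoc, h4, mul_one]
  have h6 : t 1 = g := by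
    have h7 : t 1 = t 1 * g * t 1 := by rw [← h2] at h3 ⊢; exact h3
    rw [h7, h5]
  rw [h6, hc.gg]

end Twist

section General

variable {α : Type} [DecidableEq α] {edges : List (α × ℕ × α)} {extra : List (FreeGroup α)}

/-- The context from a diagram. -/
theorem three_of {f : ℕ → α} {y : α} (hn : ∀ x : α, x ∈ coxNodes edges) (hs : Fi.sub certE6 edges f = true)
    (hy : ∀ a < 6, a ≠ 1 → coxLabel edges y (f a) = 2) (hy1 : coxLabel edges y (f 1) = 3)
    (hsp : (ev (fun a => gn edges extra (f a)) Three.ws * gn edges extra y) ^ 10 = 1) :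
    Three.Ctx (fun a => gn edges extra (f a)) (gn edges extra y) where
  pre := Fi.pre certE6 f hs
  gg := gn_sq (hn _)
  gt := fun a h1 h2 => gn_comm (hn _) (hn _) (hy a h1 h2)
  g1 := gn_braid (hn _) (hn _) hy1
  sp := hsp

end General

/-! ### `Fi₂₂` -/

/-- the nodes of the diagram of type `E₆` -/
def e22 (a : ℕ) : Fi22.Gen := [Fi22.Gen.b, .h, .c, .d, .e, .f].getD a .b

theorem three22 : Three.Ctx (fun a => g22 (e22 a)) (g22 .i) :=
  three_of nodes22 (by decide +kernel) (by decide) (by decide) (by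
    have h2 : ev (fun a => g22 (e22 a)) Three.ws * g22 .i =
        g22 .d * g22 .c * g22 .b * g22 .d * g22 .e * g22 .f * g22 .d * g22 .h * g22 .i := by
      unfold Three.ws
      simp only [ev_cons, ev_nil, mul_one, mul_assoc]
      rfl
    change (ev (fun a => g22 (e22 a)) Three.ws * g22 .i) ^ 10 = 1
    rw [h2]
    exact PresentedGroup.one_of_mem (rels := coxRelators Fi22.edges ∪ {r | r ∈ Fi22.extra})
      (x := (Fi22.d * Fi22.c * Fi22.b * Fi22.d * Fi22.e * Fi22.f * Fi22.d * Fi22.h * Fi22.i) ^ 10) (Or.inr (by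
        change _ ∈ Fi22.extra
        unfold Fi22.extra
        simp)))

theorem fi22_ls_three [IsSimpleGroup Fi22] (hnc : ∃ g h : Fi22, g * h ≠ h * g) : LS.{0, v, w} 3 16 Fi22 := by
  refine ls_three three22 (three_ne_one three22 (j := g22 .g) ?_ (gn_comm (nodes22 _) (nodes22 _) (by decide))
    (gn_braid (nodes22 _) (nodes22 _) (by decide)) (gn_sq (nodes22 _))
    (ne_of_nc hnc .i .h 8 (by decide) (by decide) (by intro x; cases x <;> decide)))
  intro a ha
  have : ∀ a < 5, coxLabel Fi22.edges .g (e22 a) = 2 := by decide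
  exact gn_comm (nodes22 _) (nodes22 _) (this a ha)

/-! ### `Fi₂₃` -/

abbrev g23 (x : Fi23.Gen) : Fi23 := gn Fi23.edges Fi23.extra x

/-- the nodes of the diagram of type `E₆` -/
def e23 (a : ℕ) : Fi23.Gen := [Fi23.Gen.b, .h, .c, .d, .e, .f].getD a .b

theorem three23 : Three.Ctx (fun a => g23 (e23 a)) (g23 .i) :=
  three_of nodes23 (by decide +kernel) (by decide) (by decide) (by
    have h2 : ev (fun a => g23 (e23 a)) Three.ws * g23 .i =
        g23 .d * g23 .c * g23 .b * g23 .d * g23 .e * g23 .f * g23 .d * g23 .h * g23 .i := by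
      unfold Three.ws
      simp only [ev_cons, ev_nil, mul_one, mul_assoc]
      rfl
    change (ev (fun a => g23 (e23 a)) Three.ws * g23 .i) ^ 10 = 1
    rw [h2]
    exact PresentedGroup.one_of_mem (rels := coxRelators Fi23.edges ∪ {r | r ∈ Fi23.extra})
      (x := (Fi23.d * Fi23.c * Fi23.b * Fi23.d * Fi23.e * Fi23.f * Fi23.d * Fi23.h * Fi23.i) ^ 10) (Or.inr (by
        change _ ∈ Fi23.extra
        unfold Fi23.extra
        simp)))

theorem fi23_ls_three [IsSimpleGroup Fi23] (hnc : ∃ g h : Fi23, g * h ≠ h * g) : LS.{0, v, w} 3 16 Fi23 := by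
  refine ls_three three23 (three_ne_one three23 (j := g23 .g) ?_ (gn_comm (nodes23 _) (nodes23 _) (by decide))
    (gn_braid (nodes23 _) (nodes23 _) (by decide)) (gn_sq (nodes23 _))
    (ne_of_nc hnc .i .h 11 (by decide) (by decide) (by intro x; cases x <;> decide)))
  intro a ha
  have : ∀ a < 5, coxLabel Fi23.edges .g (e23 a) = 2 := by decide
  exact gn_comm (nodes23 _) (nodes23 _) (this a ha)

/-! ### `B` -/

/-- the nodes of the diagram of type `E₆` -/
def eB (a : ℕ) : BabyMonster.Gen := [BabyMonster.Gen.t3, .t9, .t4, .t5, .t6, .t7].getD a .t3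

theorem threeB : Three.Ctx (fun a => gB (eB a)) (gB .t10) :=
  three_of nodesB (by decide +kernel) (by decide) (by decide) (by
    have h2 : ev (fun a => gB (eB a)) Three.ws * gB .t10 =
        gB .t5 * gB .t4 * gB .t3 * gB .t5 * gB .t6 * gB .t7 * gB .t5 * gB .t9 * gB .t10 := by
      unfold Three.ws
      simp only [ev_cons, ev_nil, mul_one, mul_assoc]
      rfl
    change (ev (fun a => gB (eB a)) Three.ws * gB .t10) ^ 10 = 1
    rw [h2]
    exact PresentedGroup.one_of_mem (rels := coxRelators BabyMonster.edges ∪ {r | r ∈ BabyMonster.extra})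
      (x := (BabyMonster.t5 * BabyMonster.t4 * BabyMonster.t3 * BabyMonster.t5 * BabyMonster.t6 * BabyMonster.t7 *
        BabyMonster.t5 * BabyMonster.t9 * BabyMonster.t10) ^ 10) (Or.inr (by
        change _ ∈ BabyMonster.extra
        unfold BabyMonster.extra
        simp)))

theorem b_ls_three [IsSimpleGroup BabyMonster] (hnc : ∃ g h : BabyMonster, g * h ≠ h * g) :
    LS.{0, v, w} 3 16 BabyMonster := by
  refine ls_three threeB (three_ne_one threeB (j := gB .t8) ?_ (gn_comm (nodesB _) (nodesB _) (by decide))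
    (gn_braid (nodesB _) (nodesB _) (by decide)) (gn_sq (nodesB _))
    (ne_of_nc hnc .t10 .t9 11 (by decide) (by decide) (by intro x; cases x <;> decide)))
  intro a ha
  have : ∀ a < 5, coxLabel BabyMonster.edges .t8 (eB a) = 2 := by decide
  exact gn_comm (nodesB _) (nodesB _) (this a ha)

/-! ### `M` -/

/-- the nodes of the diagram of type `E₆` -/
def eM (a : ℕ) : Bimonster.Gen := [Bimonster.Gen.c1, .b3, .b1, .a, .b2, .c2].getD a .a

theorem threeM : Three.Ctx (fun a => gM (eM a)) (gM .c3) :=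
  three_of nodesM (by decide +kernel) (by decide) (by decide) (by
    have h2 : ev (fun a => gM (eM a)) Three.ws * gM .c3 =
        gM .a * gM .b1 * gM .c1 * gM .a * gM .b2 * gM .c2 * gM .a * gM .b3 * gM .c3 := by
      unfold Three.ws
      simp only [ev_cons, ev_nil, mul_one, mul_assoc]
      rfl
    change (ev (fun a => gM (eM a)) Three.ws * gM .c3) ^ 10 = 1
    rw [h2]
    exact PresentedGroup.one_of_mem (rels := coxRelators Bimonster.edges ∪ {r | r ∈ Bimonster.extra})
      (x := (Bimonster.a * Bimonster.b1 * Bimonster.c1 * Bimonster.a * Bimonster.b2 * Bimonster.c2 *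
        Bimonster.a * Bimonster.b3 * Bimonster.c3) ^ 10) (Or.inr (by
        change _ ∈ Bimonster.extra
        unfold Bimonster.extra
        simp)))

theorem m_ls_three [IsSimpleGroup Monster] (hnc : ∃ g h : Monster, g * h ≠ h * g) : LS.{0, v, w} 3 16 Monster := by
  obtain ⟨e⟩ := exists_equiv
  have := simple_of_equiv e
  refine LS.congr e.symm ?_
  obtain ⟨t', g', h1, h2⟩ := three_sub (K := Subgroup.centralizer {gM .f3} ⊓ commutator Bimonster) (z := gM .f3)
    threeM (gn_sq (nodesM _)) (by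
      intro a ha
      have : ∀ a < 6, coxLabel Bimonster.edges .f3 (eM a) = 2 := by decide
      exact gn_comm (nodesM _) (nodesM _) (this a ha))
    (gn_comm (nodesM _) (nodesM _) (by decide)) (fun a ha => m_mem_centr (by
      have : ∀ a < 6, coxLabel Bimonster.edges .f3 (eM a) = 2 := by decide
      exact this a ha)) (m_mem_centr (by decide))
  refine ls_three h1 ?_
  intro h3
  rw [h3] at h2
  refine three_ne_one threeM (j := gM .d2) ?_ (gn_comm (nodesM _) (nodesM _) (by decide))
    (gn_braid (nodesM _) (nodesM _) (by decide)) (gn_sq (nodesM _))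
    (ne_of_nc (M_nc hnc) .c3 .b3 16 (by decide) (by decide) (by intro x; cases x <;> decide)) h2.symm
  intro a ha
  have : ∀ a < 5, coxLabel Bimonster.edges .d2 (eM a) = 2 := by decide
  exact gn_comm (nodesM _) (nodesM _) (this a ha)

end Cfsg.Agent.H806.Ls
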