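import Cfsg.Agent.H806.LsThreeT
import Mathlib.RingTheory.RootsOfUnity.AlgebraicallyClosed

/-!
# The bound `LS 3 16 T` from the affine Weyl group of type `E₆` with the spider relation (helper806)
-/

set_option autoImplicit false
set_option linter.unusedSectionVars false

universe u v w

namespace Cfsg.Agent.H806.Ls.Three

open Cfsg.Agent.H921.Spor Cfsg.Agent.H921.Spor.Cox Cfsg.Agent.ChevalleyStructure.WeylData

section Lift

variable {P : Type v} [Group P] {G : Type u} [Group G] {π : P →* G} (h : CE π) {t : ℕ → G} {g : G} (hc : Ctx t g)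

theorem eq_one_of {G : Type*} [Group G] {z : G} (h2 : z * z = 1) (h3 : z ^ 3 = 1) : z = 1 := by
  rw [pow_succ, pow_two, h2, one_mul] at h3; exact h3

include h in
theorem mul_cube {x z : P} (hz : π z = 1) : (x * z) ^ 3 = x ^ 3 * z ^ 3 := by
  have : Commute x z := h.cen z hz x
  exact this.mul_pow 3

theorem br_one {a : G} {x : P} (hax : a * π x = π x * a) (ha : a * a = 1) (hx : π x ^ 3 = 1) : h.cj a x = x := by
  rw [h.cj_fix_iff]
  have h2 := h.br_sq hax ha
  refine eq_one_of h2 ?_
  have h4 : h.cj a (x ^ 3) = x ^ 3 := h.cj_ker a (by rw [map_pow, hx])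
  rw [map_pow, h.cj_br a x, mul_cube h (h.br_ker hax)] at h4
  exact mul_eq_left.1 h4

include hc

theorem tt {a : ℕ} (ha : a < 6) : t a * t a = 1 := hc.pre.sq ha

theorem cj_cj {a : ℕ} (ha : a < 6) (x : P) : h.cj (t a) (h.cj (t a) x) = x := by
  rw [← MulAut.mul_apply, ← map_mul, tt hc ha, map_one, MulAut.one_apply]

theorem exists_lift {i : ℕ} (hi : i < 6) : ∃ y : P, π y = X t g i ∧ y ^ 3 = 1 ∧ h.cj (t i) y = y⁻¹ := by
  obtain ⟨x, hx⟩ := h.surj (X t g i)
  obtain ⟨y', hy'⟩ : ∃ y', y' = h.cj (t i) x * x⁻¹ := ⟨_, rfl⟩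
  have hX := hc.X_cube i
  have e1 : h.cj (t i) y' = y'⁻¹ := by
    rw [hy', map_mul, cj_cj h hc hi, map_inv]; group
  have e2 : π y' = X t g i := by
    rw [hy', map_mul, map_inv, h.map_cj, hx, hc.X_conj hi hi, if_pos rfl]
    have h1 : X t g i * (X t g i * X t g i) = 1 := by rw [← hX, pow_succ, pow_two]; group
    rw [← mul_inv_rev, inv_eq_iff_mul_eq_one, mul_assoc, h1]
  have e3 : π (y' ^ 3) = 1 := by rw [map_pow, e2, hX]
  have e4 : y' ^ 3 * y' ^ 3 = 1 := by
    have h1 := h.cj_ker (t i) e3
    rw [map_pow, e1, inv_pow] at h1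
    exact inv_eq_iff_mul_eq_one.1 h1
  refine ⟨y' ^ 4, ?_, ?_, ?_⟩
  · rw [map_pow, e2]
    calc X t g i ^ 4 = X t g i ^ 3 * X t g i := by rw [pow_succ]
      _ = _ := by rw [hX, one_mul]
  · calc (y' ^ 4) ^ 3 = (y' ^ 3 * y' ^ 3) * (y' ^ 3 * y' ^ 3) := by group
      _ = 1 := by rw [e4, one_mul]
  · rw [map_pow, e1, inv_pow]

/-- The system of lifts. -/
structure Sys (h : CE π) (t : ℕ → G) (g : G) (y : ℕ → P) : Prop where
  map : ∀ i < 6, π (y i) = X t g i
  cube : ∀ i < 6, y i ^ 3 = 1
  neg : ∀ i < 6, h.cj (t i) (y i) = (y i)⁻¹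

theorem exists_sys : ∃ y : ℕ → P, Sys h t g y := by
  have h1 : ∀ i, ∃ y : P, i < 6 → π y = X t g i ∧ y ^ 3 = 1 ∧ h.cj (t i) y = y⁻¹ := by
    intro i
    by_cases hi : i < 6
    · obtain ⟨y, hy⟩ := exists_lift h hc hi
      exact ⟨y, fun _ => hy⟩
    · exact ⟨1, fun h => absurd h hi⟩
  choose y hy using h1
  exact ⟨y, fun i hi => (hy i hi).1, fun i hi => (hy i hi).2.1, fun i hi => (hy i hi).2.2⟩

variable {y : ℕ → P} (hy : Sys h t g y)

include hy

/-- up to a central factor -/
theorem cj_y {i a : ℕ} (hi : i < 6) (ha : a < 6) (hia : i ≠ a) : ∃ z : P, π z = 1 ∧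
    h.cj (t a) (y i) = (if adj a i then y i * y a else y i) * z := by
  refine ⟨(if adj a i then y i * y a else y i)⁻¹ * h.cj (t a) (y i), ?_, by group⟩
  rw [map_mul, map_inv, h.map_cj, hy.map i hi, hc.X_conj hi ha, if_neg hia]
  split_ifs with h1
  · rw [map_mul, hy.map i hi, hy.map a ha]; group
  · rw [hy.map i hi]; group

theorem y_comm {i j : ℕ} (hi : i < 6) (hj : j < 6) : y i * y j = y j * y i := by
  by_cases hij : i = j
  · rw [hij]
  obtain ⟨z, hz⟩ : ∃ z, z = y i * y j * (y i)⁻¹ * (y j)⁻¹ := ⟨_, rfl⟩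
  have hzk : π z = 1 := by
    rw [hz, map_mul, map_mul, map_mul, map_inv, map_inv, hy.map i hi, hy.map j hj, hc.X_comm hi hj]; group
  have hzc := h.cen z hzk
  have e0 : y i * y j = z * (y j * y i) := by rw [hz]; group
  -- the action of `t i`
  have e1 : z * z = 1 := by
    have h1 := h.cj_ker (t i) hzk
    have h2 : h.cj (t i) z = (y i)⁻¹ * (y j * y i) * (y j)⁻¹ := by
      obtain ⟨c, hck, hcj⟩ := cj_y h hc hy hj hi (Ne.symm hij)
      have hcc := h.cen c hck
      rw [hz, map_mul, map_mul, map_mul, map_inv, map_inv, hy.neg i hi, hcj]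
      split_ifs
      · have e3 : y j * y i * c * (y i)⁻¹⁻¹ = y j * y i * y i * c := by
          rw [inv_inv, mul_assoc, ← hcc, ← mul_assoc]
        calc (y i)⁻¹ * (y j * y i * c) * (y i)⁻¹⁻¹ * (y j * y i * c)⁻¹
            = (y i)⁻¹ * (y j * y i * c * (y i)⁻¹⁻¹) * (y j * y i * c)⁻¹ := by group
          _ = _ := by rw [e3]; group
      · have e3 : y j * c * (y i)⁻¹⁻¹ = y j * y i * c := by
          rw [inv_inv, mul_assoc, ← hcc, ← mul_assoc]
        calc (y i)⁻¹ * (y j * c) * (y i)⁻¹⁻¹ * (y j * c)⁻¹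
            = (y i)⁻¹ * (y j * c * (y i)⁻¹⁻¹) * (y j * c)⁻¹ := by group
          _ = _ := by rw [e3]; group
    rw [h2] at h1
    have e3 : y j * y i = z⁻¹ * (y i * y j) := by rw [e0]; group
    rw [e3] at h1
    have e4 : z⁻¹ = z := by
      have h5 : (y i)⁻¹ * z⁻¹ = z⁻¹ * (y i)⁻¹ := h.cen z⁻¹ (by rw [map_inv, hzk, inv_one]) _
      calc z⁻¹ = z⁻¹ * (y i)⁻¹ * (y i * y j) * (y j)⁻¹ := by group
        _ = (y i)⁻¹ * z⁻¹ * (y i * y j) * (y j)⁻¹ := by rw [h5]
        _ = (y i)⁻¹ * (z⁻¹ * (y i * y j)) * (y j)⁻¹ := by group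
        _ = z := h1
    exact inv_eq_iff_mul_eq_one.1 e4
  have e2 : z ^ 3 = 1 := by
    have h3 : ∀ n : ℕ, y i ^ n * y j = z ^ n * (y j * y i ^ n) := by
      intro n
      induction n with
      | zero => simp
      | succ n ih =>
        have h4 : y i ^ n * z = z * y i ^ n := hzc _
        calc y i ^ (n + 1) * y j = y i ^ n * (y i * y j) := by rw [pow_succ]; group
          _ = (y i ^ n * z) * y j * y i := by rw [e0]; group
          _ = z * (y i ^ n * y j) * y i := by rw [h4]; group
          _ = _ := by rw [ih, pow_succ, pow_succ]; group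
    have h4 := h3 3
    rw [hy.cube i hi, one_mul, mul_one] at h4
    exact mul_eq_right.1 h4.symm
  have e3 := eq_one_of e1 e2
  rw [e0, e3, one_mul]

theorem y_conj {i a : ℕ} (hi : i < 6) (ha : a < 6) : h.cj (t a) (y i) =
    if i = a then (y i)⁻¹ else if adj a i then y i * y a else y i := by
  by_cases hia : i = a
  · subst hia
    rw [if_pos rfl]; exact hy.neg i hi
  rw [if_neg hia]
  by_cases hadj : adj a i = true
  · rw [if_pos hadj]
    obtain ⟨z, hz, h1⟩ := cj_y h hc hy hi ha hia
    rw [if_pos hadj] at h1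
    have e1 : z ^ 3 = 1 := by
      have h2 : h.cj (t a) (y i) ^ 3 = 1 := by rw [← map_pow, hy.cube i hi, map_one]
      rw [h1, mul_cube h hz] at h2
      have h3 : Commute (y i) (y a) := y_comm h hc hy hi ha
      rwa [h3.mul_pow, hy.cube i hi, hy.cube a ha, one_mul, one_mul] at h2
    have e2 : z * z = 1 := by
      have h2 := congrArg (h.cj (t a)) h1
      rw [cj_cj h hc ha, map_mul, map_mul, h1, hy.neg a ha, h.cj_ker _ hz] at h2
      have h3 : y i * y a * z * (y a)⁻¹ * z = y i * (z * z) := by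
        have h4 := h.cen z hz (y a)
        calc y i * y a * z * (y a)⁻¹ * z = y i * (y a * z) * (y a)⁻¹ * z := by group
          _ = _ := by rw [h4]; group
      rw [h3] at h2
      exact mul_eq_left.1 h2.symm
    rw [h1, eq_one_of e2 e1, mul_one]
  · rw [if_neg hadj]
    refine br_one h ?_ (tt hc ha) (by rw [hy.map i hi, hc.X_cube])
    rw [hy.map i hi]
    have h1 := hc.X_conj hi ha
    rw [if_neg hia, if_neg hadj, mul_inv_eq_iff_eq_mul] at h1
    exact h1

end Lift

/-! ### Labels -/

theorem step_spec {m a : ℕ} (hm : m < 4096) (hv : valid m = true) (ha : a < 6) :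
    step m a < 4096 ∧ valid (step m a) = true ∧ ∀ i < 6, dg (step m a) i =
      if i = a then (dg m a + dg m a) % 3 else if adj i a then (dg m i + dg m a) % 3 else dg m i := by
  have h1 := List.all_eq_true.1 check_step m (List.mem_range.2 hm)
  rw [hv, Bool.not_true, Bool.false_or] at h1
  have h2 := List.all_eq_true.1 h1 a (List.mem_range.2 ha)
  rw [Bool.and_eq_true] at h2
  have h3 : ∀ i < 6, dg (step m a) i =
      if i = a then (dg m a + dg m a) % 3 else if adj i a then (dg m i + dg m a) % 3 else dg m i := fun i hi =>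
    Nat.eq_of_beq_eq_true (List.all_eq_true.1 h2.2 i (List.mem_range.2 hi))
  have hd : ∀ i < 6, dg m i < 3 := by
    intro i hi
    have := List.all_eq_true.1 hv i (List.mem_range.2 hi)
    simpa using this
  refine ⟨by simpa using h2.1, ?_, h3⟩
  rw [valid, List.all_eq_true]
  intro i hi
  have hi' := List.mem_range.1 hi
  rw [h3 i hi']
  have : (if i = a then (dg m a + dg m a) % 3 else if adj i a then (dg m i + dg m a) % 3 else dg m i) < 3 := by
    split_ifs
    · exact Nat.mod_lt _ (by norm_num)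
    · exact Nat.mod_lt _ (by norm_num)
    · exact hd i hi'
  simpa using this

theorem dg_ext {m m' : ℕ} (hm : m < 4096) (hm' : m' < 4096) (h : ∀ i < 6, dg m i = dg m' i) : m = m' := by
  have h0 := h 0 (by norm_num)
  have h1 := h 1 (by norm_num)
  have h2 := h 2 (by norm_num)
  have h3 := h 3 (by norm_num)
  have h4 := h 4 (by norm_num)
  have h5 := h 5 (by norm_num)
  unfold dg at h0 h1 h2 h3 h4 h5
  norm_num at h0 h1 h2 h3 h4 h5
  omega

theorem exists_label (c : ℕ → ℕ) (hc : ∀ i < 6, c i < 3) : ∃ m < 4096, valid m = true ∧ ∀ i < 6, dg m i = c i := by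
  have c0 := hc 0 (by norm_num)
  have c1 := hc 1 (by norm_num)
  have c2 := hc 2 (by norm_num)
  have c3 := hc 3 (by norm_num)
  have c4 := hc 4 (by norm_num)
  have c5 := hc 5 (by norm_num)
  have key : ∀ i < 6, dg (c 0 + 4 * c 1 + 16 * c 2 + 64 * c 3 + 256 * c 4 + 1024 * c 5) i = c i := by
    intro i hi
    unfold dg
    interval_cases i <;> norm_num <;> omega
  refine ⟨_, by omega, ?_, key⟩
  rw [valid, List.all_eq_true]
  intro i hi
  rw [key i (List.mem_range.1 hi)]
  have := hc i (List.mem_range.1 hi)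
  simpa using this

/-- reachable labels -/
def Reach (m y : ℕ) : Prop := ∃ w : List ℕ, (∀ a ∈ w, a < 6) ∧ w.foldl step m = y

theorem reach_bfs (m : ℕ) (k : ℕ) (p : List ℕ × List ℕ) (h1 : ∀ y ∈ p.1, Reach m y) (h2 : ∀ y ∈ p.2, Reach m y) :
    ∀ y ∈ bfs k p, Reach m y := by
  induction k generalizing p with
  | zero => exact h1
  | succ k ih =>
    unfold bfs
    split_ifs with h3
    · exact h1
    · obtain ⟨s, q⟩ := p
      cases q with
      | nil => exact h1
      | cons x q =>
        simp only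
        have key : ∀ (L : List ℕ), (∀ a ∈ L, a < 6) → ∀ p : List ℕ × List ℕ, (∀ y ∈ p.1, Reach m y) →
            (∀ y ∈ p.2, Reach m y) → (∀ y ∈ (L.foldl (ins x) p).1, Reach m y) ∧
              ∀ y ∈ (L.foldl (ins x) p).2, Reach m y := by
          intro L
          induction L with
          | nil => intro _ p h3 h4; exact ⟨h3, h4⟩
          | cons a L ih2 =>
            intro hL p h3 h4
            rw [List.foldl_cons]
            apply ih2 fun b hb => hL b (List.mem_cons_of_mem _ hb)
            · unfold ins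
              simp only
              split_ifs
              · exact h3
              · intro y hy
                rcases List.mem_cons.1 hy with rfl | hy
                · obtain ⟨w, hw1, hw2⟩ := h2 x List.mem_cons_self
                  refine ⟨w ++ [a], ?_, by rw [List.foldl_append, hw2]; rfl⟩
                  intro b hb
                  rcases List.mem_append.1 hb with hb | hb
                  · exact hw1 b hb
                  · rw [List.mem_singleton.1 hb]; exact hL a List.mem_cons_self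
                · exact h3 y hy
            · unfold ins
              simp only
              split_ifs
              · exact h4
              · intro y hy
                rcases List.mem_append.1 hy with hy | hy
                · exact h4 y hy
                · rw [List.mem_singleton.1 hy]
                  obtain ⟨w, hw1, hw2⟩ := h2 x List.mem_cons_self
                  refine ⟨w ++ [a], ?_, by rw [List.foldl_append, hw2]; rfl⟩
                  intro b hb
                  rcases List.mem_append.1 hb with hb | hb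
                  · exact hw1 b hb
                  · rw [List.mem_singleton.1 hb]; exact hL a List.mem_cons_self
        obtain ⟨k1, k2⟩ := key (List.range 6) (fun a ha => List.mem_range.1 ha) (s, q) h1
          (fun y hy => h2 y (List.mem_cons_of_mem _ hy))
        exact ih _ k1 k2

end Cfsg.Agent.H806.Ls.Three

namespace Cfsg.Agent.H806.Ls

open Three Cfsg.Agent.H203.LS Cfsg.Agent.H921.Spor Cfsg.Agent.H921.Spor.Cox

/-- **The bound.** -/
theorem ls_three {T : Type u} [Group T] [IsSimpleGroup T] {t : ℕ → T} {g : T} (hc : Three.Ctx t g)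
    (hT : Three.T t g ≠ 1) : LS.{u, v, w} 3 16 T := by
  apply LS.of_core
  intro P _ π k _ _ V _ _ _ ρ hcore
  classical
  have h : CE π := ⟨hcore.surj, fun c hc g => hcore.comm_ker hc g⟩
  obtain ⟨y, hy⟩ := exists_sys h hc
  have hcomm : ∀ i j : Fin 6, ρ (y i) * ρ (y j) = ρ (y j) * ρ (y i) := by
    intro i j
    rw [← map_mul, y_comm h hc hy i.2 j.2, map_mul]
  have hXne : π (y 3) ≠ 1 := by
    rw [hy.map 3 (by norm_num)]
    unfold X Three.u
    intro h1
    apply hT
    have h2 := mul_inv_eq_one.1 h1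
    exact mul_eq_left.1 h2
  have hne : ρ (y ((3 : Fin 6) : ℕ)) ≠ 1 := by
    intro h1
    refine hcore.not_scalar hXne (s := 1) ?_
    intro v
    have h2 : ρ (y 3) = 1 := h1
    rw [h2, one_smul]; rfl
  obtain ⟨v, χ, hv, hχ, hχ3⟩ := exists_weight (fun j : Fin 6 => ρ (y j)) hcomm (j0 := 3) (N := 3)
    hcore.rk (by rw [← map_pow]; exact (congrArg ρ (hy.cube 3 (by norm_num))).trans (map_one ρ)) hne
  have : NeZero ((3 : ℕ) : k) := ⟨hcore.rk⟩
  obtain ⟨ζ, hζ⟩ := HasEnoughRootsOfUnity.exists_primitiveRoot k 3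
  have hζ3 : ζ ^ 3 = 1 := hζ.pow_eq_one
  have hcube : ∀ j, χ j ^ 3 = 1 := by
    intro j
    have h0 : ρ (y j) v = χ j • v := hχ j
    have h1 : ρ (y j ^ 3) v = (χ j ^ 3) • v := by
      rw [pow_succ, pow_two, map_mul, map_mul, Module.End.mul_apply, Module.End.mul_apply, h0, map_smul, map_smul, h0,
        map_smul, h0, smul_smul, smul_smul]
      congr 1; ring
    rw [hy.cube j j.2, map_one, Module.End.one_apply] at h1
    have h2 : (χ j ^ 3 - 1) • v = 0 := by rw [sub_smul, one_smul, ← h1, sub_self]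
    exact sub_eq_zero.1 ((smul_eq_zero.1 h2).resolve_right hv)
  have hc1 : ∀ j : Fin 6, ∃ n < 3, ζ ^ n = χ j := fun j => hζ.eq_pow_of_pow_eq_one (hcube j)
  choose cc hcc3 hcc using hc1
  obtain ⟨m, hm, hmv, hmd⟩ := exists_label (fun i => if hi : i < 6 then cc ⟨i, hi⟩ else 0) (by
    intro i hi
    rw [dif_pos hi]; exact hcc3 _)
  have hmd' : ∀ i (hi : i < 6), dg m i = cc ⟨i, hi⟩ := fun i hi => by rw [hmd i hi, dif_pos hi]
  have hcv : ∀ i < 6, ρ (y i) v = ζ ^ dg m i • v := by
    intro i hi
    rw [hmd' i hi, hcc]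
    exact hχ ⟨i, hi⟩
  have hmod : ∀ n : ℕ, ζ ^ (n % 3) = ζ ^ n := by
    intro n
    conv_rhs => rw [← Nat.mod_add_div n 3, pow_add, pow_mul, hζ3, one_pow, mul_one]
  -- the conjugates
  have hfun : ∀ w : List ℕ, (∀ a ∈ w, a < 6) → ∀ (p : T) (m : ℕ), m < 4096 → valid m = true →
      (∀ i < 6, ρ (h.cj p (y i)) v = ζ ^ dg m i • v) → w.foldl step m < 4096 ∧ valid (w.foldl step m) = true ∧
      ∀ i < 6, ρ (h.cj (p * ev t w) (y i)) v = ζ ^ dg (w.foldl step m) i • v := by
    intro w
    induction w with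
    | nil =>
      intro _ p m hm hv hc
      refine ⟨hm, hv, fun i hi => ?_⟩
      rw [ev_nil, mul_one]
      exact hc i hi
    | cons a w ih =>
      intro hw p m hm hv' hc'
      have ha := hw a List.mem_cons_self
      obtain ⟨s1, s2, s3⟩ := step_spec hm hv' ha
      have h1 := ih (fun b hb => hw b (List.mem_cons_of_mem _ hb)) (p * t a) (step m a) s1 s2 (by
          intro i hi
          rw [map_mul, MulAut.mul_apply, y_conj h hc hy hi ha, s3 i hi]
          by_cases hia : i = a
          · subst hia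
            rw [if_pos rfl, if_pos rfl, map_inv, hmod]
            have h2 := hc' i hi
            -- the inverse
            have h3 : ρ (h.cj p (y i))⁻¹ (ρ (h.cj p (y i)) v) = v := by
              rw [← Module.End.mul_apply, ← map_mul, inv_mul_cancel, map_one, Module.End.one_apply]
            rw [h2, map_smul] at h3
            have h4 : ζ ^ (dg m i + dg m i) * ζ ^ dg m i = 1 := by
              rw [← pow_add]
              have : dg m i + dg m i + dg m i = 3 * dg m i := by ring
              rw [this, pow_mul, hζ3, one_pow]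
            calc ρ (h.cj p (y i))⁻¹ v = (ζ ^ (dg m i + dg m i) * ζ ^ dg m i) • ρ (h.cj p (y i))⁻¹ v := by
                  rw [h4, one_smul]
              _ = ζ ^ (dg m i + dg m i) • (ζ ^ dg m i • ρ (h.cj p (y i))⁻¹ v) := by rw [smul_smul]
              _ = _ := by rw [h3]
          · rw [if_neg hia, if_neg hia]
            have hsym : adj a i = adj i a := by
              have : ∀ a < 6, ∀ i < 6, adj a i = adj i a := by decide
              exact this a ha i hi
            rw [hsym]
            by_cases hadj : adj i a = true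
            · rw [if_pos hadj, if_pos hadj, map_mul, map_mul, Module.End.mul_apply, hc' a ha, map_smul, hc' i hi,
                smul_smul, hmod, pow_add, mul_comm]
            · rw [if_neg hadj, if_neg hadj]
              exact hc' i hi)
      obtain ⟨h2, h3, h4⟩ := h1
      rw [List.foldl_cons]
      refine ⟨h2, h3, fun i hi => ?_⟩
      have := h4 i hi
      rwa [mul_assoc, ← ev_cons] at this
  have hm0 : m ≠ 0 := by
    rintro rfl
    apply hχ3
    have h1 := hmd' 3 (by norm_num)
    have h2 : dg 0 3 = 0 := by decide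
    rw [h2] at h1
    have h3 := hcc 3
    have h4 : cc 3 = 0 := h1.symm
    rw [h4, pow_zero] at h3
    exact h3.symm
  have hcnt : Nat.ble 16 (cnt (bfs 40 ([m], [m]))) = true := by
    have h1 := List.all_eq_true.1 check_orb m (List.mem_range.2 hm)
    rw [hmv, Bool.not_true, Bool.false_or, Bool.or_eq_true] at h1
    rcases h1 with h1 | h1
    · exact absurd (Nat.eq_of_beq_eq_true h1) hm0
    · exact h1
  have h3 : 16 ≤ (bfs 40 ([m], [m])).toFinset.card := le_trans (Nat.le_of_ble_eq_true hcnt) (cnt_le _)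
  obtain ⟨I, hI1, hI2⟩ := Finset.exists_subset_card_eq h3
  have h4 : ∀ y ∈ I, Reach m y := by
    intro y hy
    refine reach_bfs m 40 ([m], [m]) ?_ ?_ y (List.mem_toFinset.1 (hI1 hy))
    · intro y hy
      rw [List.mem_singleton.1 hy]
      exact ⟨[], by simp, rfl⟩
    · intro y hy
      rw [List.mem_singleton.1 hy]
      exact ⟨[], by simp, rfl⟩
  choose! τ hτ1 hτ2 using h4
  have hw1 : ∀ z ∈ I, z < 4096 ∧ ∀ i < 6, ρ (h.cj (ev t (τ z)) (y i)) v = ζ ^ dg z i • v := by
    intro z hz
    have h5 := hfun (τ z) (hτ1 z hz) 1 m hm hmv (by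
      intro i hi
      rw [map_one, MulAut.one_apply]
      exact hcv i hi)
    rw [hτ2 z hz, one_mul] at h5
    exact ⟨h5.1, h5.2.2⟩
  have hdig : ∀ z ∈ I, ∀ i < 6, dg z i < 3 := by
    intro z hz i hi
    have h5 := hfun (τ z) (hτ1 z hz) 1 m hm hmv (by
      intro i hi
      rw [map_one, MulAut.one_apply]
      exact hcv i hi)
    rw [hτ2 z hz] at h5
    have := List.all_eq_true.1 h5.2.1 i (List.mem_range.2 hi)
    simpa using this
  -- the weight vectors
  choose σ hσ using h.surj
  have hfin := card_le_of_weights (k := k) (V := V) (ι := I) (J := Fin 6) (fun j => ρ (y j))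
    (fun z => ρ (σ (ev t (τ z)))⁻¹ v) (fun z j => ζ ^ dg z j) (fun z => hcore.ne_zero _ hv) (by
      intro z j
      have h5 := (hw1 z z.2).2 j j.2
      have h6 : h.cj (ev t (τ z)) (y j) = σ (ev t (τ z)) * y j * (σ (ev t (τ z)))⁻¹ := by
        rw [← h.cj_eq, hσ]
      rw [h6] at h5
      rw [← Module.End.mul_apply, ← map_mul]
      have h7 : y j * (σ (ev t (τ z)))⁻¹ =
          (σ (ev t (τ z)))⁻¹ * (σ (ev t (τ z)) * y j * (σ (ev t (τ z)))⁻¹) := by group
      rw [h7, map_mul, Module.End.mul_apply, h5, map_smul]) (by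
      intro z z' hzz
      apply Subtype.ext
      refine dg_ext (hw1 z z.2).1 (hw1 z' z'.2).1 ?_
      intro i hi
      exact hζ.pow_inj (hdig z z.2 i hi) (hdig z' z'.2 i hi) (congrFun hzz ⟨i, hi⟩))
  have h8 : Nat.card I = 16 := by rw [Nat.card_eq_fintype_card, Fintype.card_coe, hI2]
  rw [h8] at hfin
  exact hfin

end Cfsg.Agent.H806.Ls
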