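import Cfsg.Agent.H806.LsCent
import Cfsg.Agent.H920.FiTwo
import Cfsg.Agent.H203.LSDef

/-!
# The bound `LS 3 16 T` from the affine Weyl group of type `E₆` with the spider relation: certificates (helper806)
-/

set_option autoImplicit false
set_option maxRecDepth 100000

namespace Cfsg.Agent.H806.Ls.Three

open Cfsg.Agent.H921.Spor.Cox Cfsg.Agent.ChevalleyStructure.WeylData

/-- the reflection in the highest root -/
def th6 : List ℕ := [1, 3, 4, 2, 3, 0, 2, 1, 3, 4, 5, 4, 3, 2, 1, 3, 4, 0, 2, 3, 1]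

/-- `bw` is the reflection in the difference of the highest root and the simple root `1` -/
def wb : List ℕ := [3, 4, 5, 2, 3, 4, 0, 2, 3]

def bw : List ℕ := wb ++ ([1] ++ wb.reverse)

/-- the words carrying the highest root to the simple roots -/
def W : List (List ℕ) := [[2, 3, 4, 5, 1, 3, 4, 2, 3, 1], [3, 4, 5, 2, 3, 4, 0, 2, 3, 1], [3, 4, 5, 1, 3, 4, 0, 2, 3, 1], [4, 5, 2, 1, 3, 4, 0, 2, 3, 1], [5, 3, 2, 1, 3, 4, 0, 2, 3, 1], [4, 3, 2, 1, 3, 4, 0, 2, 3, 1]]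

/-- `w' = w * l` with `l` in the stabiliser of the highest root -/
def same (w w' l : List ℕ) : Bool :=
  (l.all fun a => Nat.blt a 6 && !Nat.beq a 1) && eqW certE6 w' (w ++ l)

/-- adjacent pairs -/
def DA : List (ℕ × ℕ × List ℕ × List ℕ × List ℕ × List ℕ) := [(0, 2, [3, 4, 5, 1, 3, 4, 2, 3, 0, 2, 1, 3], [3, 2, 0], [3, 2, 0], [3, 2, 0]), (1, 3, [4, 5, 2, 3, 0, 2, 1, 3, 4, 3, 2, 1, 3], [3, 4, 2, 3], [3, 4, 2, 3], [3, 4, 2, 3]), (2, 0, [3, 2, 1, 3, 4, 5, 3, 2, 1, 3, 4, 3, 2, 1, 3], [3, 4, 5, 2, 3, 4], [3, 4, 5, 2, 3, 4], [3, 4, 5, 2, 3, 4]), (2, 3, [4, 5, 0, 2, 1, 3, 4, 2, 3, 0, 2, 1, 3], [3, 4, 2, 0], [3, 4, 2, 0], [3, 4, 2, 0]), (3, 1, [2, 3, 4, 5, 0, 2, 3, 4, 2, 3, 0, 2, 1, 3], [3, 4, 5, 2, 0], [3, 4, 5, 2, 0], [3, 4, 5, 2, 0]), (3, 2, [1, 3, 4, 5, 3, 0, 2, 1, 3, 4, 3, 2, 1, 3], [3, 4, 5, 2, 3], [3, 4, 5, 2, 3], [3, 4, 5, 2, 3]), (3, 4, [5, 2, 3,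 0, 2, 1, 3, 4, 2, 3, 0, 2, 1, 3], [3, 4, 2, 3, 0], [3, 4, 2, 3, 0], [3, 4, 2, 3, 0]), (4, 3, [2, 1, 3, 4, 5, 0, 2, 3, 4, 3, 2, 1, 3], [3, 4, 5, 2], [3, 4, 5, 2], [3, 4, 5, 2]), (4, 5, [3, 4, 2, 3, 0, 2, 1, 3, 4, 2, 3, 0, 2, 1, 3], [3, 4, 2, 3, 0, 2], [3, 4, 2, 3, 0, 2], [3, 4, 2, 3, 0, 2]), (5, 4, [3, 2, 1, 3, 4, 5, 0, 2, 3, 4, 1, 3], [3, 4, 5], [3, 4, 5], [3, 4, 5])]

/-- orthogonal pairs -/
def DO : List (ℕ × ℕ × List ℕ × List ℕ × List ℕ) := [(0, 1, [3, 2, 1, 3, 4, 5, 3, 2, 1, 3, 4, 3, 2, 1, 3, 0, 2, 1], [2, 3, 4, 5, 0, 2, 3, 4], [5, 0, 2, 3]), (0, 3, [2, 3, 4, 5, 3, 2, 1, 3, 4, 3, 2, 1, 3, 0, 2, 1], [2, 3, 4, 0, 2, 3], [5, 0, 2, 3]), (0, 4, [2, 3, 4, 5, 1, 3, 4, 3, 2, 1, 3, 0, 2, 1], [2, 3, 0, 2], [5, 0, 2, 3]), (0, 5, [2, 3, 4, 5, 1, 3, 4, 2, 3, 0, 2, 1], [2, 0], [5, 0, 2, 3]), (1, 2, [0, 2, 3, 4, 5, 2, 3, 0, 2, 1, 3, 4, 3, 2, 1, 3, 0, 2], [2, 3,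 4, 5, 0, 2, 3, 4], [0, 2, 3, 4]), (1, 4, [3, 4, 5, 2, 3, 4, 0, 2, 3, 1], [], [5, 4, 3, 2]), (1, 5, [3, 4, 5, 2, 3, 4, 0, 2, 3, 0, 2, 1], [2, 0], [5, 4, 3, 2]), (2, 4, [3, 4, 5, 1, 3, 4, 3, 0, 2, 1, 3, 0, 2, 1], [2, 3, 0, 2], [5, 4, 0, 2]), (2, 5, [3, 4, 5, 1, 3, 4, 0, 2, 3, 0, 2, 1], [2, 0], [5, 4, 0, 2]), (3, 5, [4, 5, 2, 1, 3, 4, 0, 2, 3, 0, 2, 1], [2, 0], [5, 4, 3, 0])]

/-- `s_a` fixes the `i`-th simple root -/
def DC : List (ℕ × ℕ × List ℕ) := [(1, 0, [5]), (3, 0, [4]), (4, 0, [3]), (5, 0, [2]), (0, 1, [4]), (2, 1, [5]), (4, 1, [0]), (5, 1, [2]), (1, 2, [5]), (4, 2, [3]), (5, 2, [2]), (0, 3, [4]), (5, 3, [2]), (0, 4, [4]), (1, 4, [0]), (2, 4, [3]), (0, 5, [4]), (1, 5, [0]), (2, 5, [3]), (3, 5, [2])]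

theorem checkDA : (DA.all fun e => same (e.2.2.1 ++ bw) (W.getD e.1 []) e.2.2.2.1 &&
    (same (e.2.2.1 ++ [1]) (W.getD e.2.1 []) e.2.2.2.2.1 && same e.2.2.1 (e.2.1 :: W.getD e.1 []) e.2.2.2.2.2)) = true := by
  decide +kernel

theorem checkDO : (DO.all fun e => same e.2.2.1 (W.getD e.1 []) e.2.2.2.1 &&
    same (e.2.2.1 ++ W.getD 0 []) (W.getD e.2.1 []) e.2.2.2.2) = true := by decide +kernel

theorem checkDC : (DC.all fun e => same (W.getD e.2.1 []) (e.1 :: W.getD e.2.1 []) e.2.2) = true := by decide +kernel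

theorem checkDD : ((List.range 6).all fun a => eqW certE6 (a :: W.getD a []) (W.getD a [] ++ th6)) = true := by
  decide +kernel

/-- the words for the orthogonal pair -/
def wp : List ℕ := [2, 1, 3, 4, 5, 2, 1, 3, 4, 2, 3, 0, 2, 1, 3]
def v1 : List ℕ := [4, 5, 3, 4, 2, 3]
def v2 : List ℕ := [2, 1, 3, 4, 5, 2, 1, 3, 4, 0, 2, 3]

theorem check0 : same wp (W.getD 0 []) [3, 4, 5, 2, 0] = true := by decide +kernel
theorem check1 : same v1 [] [3, 4, 5, 2, 3, 4] = true := by decide +kernel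
theorem check2 : same (v1 ++ [1]) (wp ++ bw) [0, 2, 3] = true := by decide +kernel
theorem check3 : same (v2 ++ bw) [] [3, 4, 5, 2, 3, 4, 0] = true := by decide +kernel
theorem check4 : same (v2 ++ [1]) (wp ++ [1]) [0, 2, 3] = true := by decide +kernel

theorem check_ss : eqW certE6 (th6 ++ th6) [] = true := by decide +kernel
theorem check_st : ([0, 2, 3, 4, 5].all fun a => eqW certE6 (a :: th6) (th6 ++ [a])) = true := by decide +kernel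
theorem check_aba : eqW certE6 th6 ([1] ++ (bw ++ [1])) = true := by decide +kernel
theorem check_bab : eqW certE6 th6 (bw ++ ([1] ++ bw)) = true := by decide +kernel

/-- the finite part of the spider word -/
def ws : List ℕ := [3, 2, 0, 3, 4, 5, 3, 1]

/-- the linear part of the spider -/
def xs : List ℕ := ws ++ th6

theorem check_xs : eqW certE6 (rp xs 10) [] = true := by decide +kernel

/-- `s_3 u s_3⁻¹ = u X_3 ^ e` for the factors of the tenth power of the spider -/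
def SP : List (ℤ × List ℕ × List ℕ × List ℕ × List ℕ) := [(1, [4, 5, 2, 1, 3, 4, 0, 2, 1, 3], [2, 3, 4, 5, 2, 3, 4], [3], [2, 3, 4, 5, 2, 3, 4]), (0, [], [0, 2, 3, 4, 3, 2, 0], [], []), (0, [], [2], [], []), (0, [], [4, 5, 4], [], []), (1, [0, 2, 1, 3, 4, 5, 3, 0, 2, 1, 3, 4, 3, 0, 2, 1, 3, 1], [2, 3, 4, 5, 2, 3, 2], [3, 4, 5, 2, 3, 4, 0], [2, 3, 4, 5, 2, 3, 2]), (0, [], [3, 4, 3], [], []), (1, [0, 2, 1, 3, 4, 5, 3, 0, 2, 1, 3, 4, 3, 2, 1, 3, 1], [0, 2, 3, 4, 5, 2, 3, 4, 0, 2], [3, 4, 5, 2, 3, 4], [0, 2, 3, 4, 5, 2, 3, 4, 0, 2]), (-1, [2, 1, 3, 4, 5, 3, 0, 2, 1, 3, 4, 3, 0, 2, 1, 3, 1], [3, 4, 5, 3, 4, 0], [3, 4, 5, 2, 3, 0], [3, 4, 5, 3, 4, 0]), (1, [4, 5, 2, 3, 0, 2, 1, 3, 4, 3, 2, 1, 3], [4, 5, 2, 3, 0, 2], [3, 4, 2, 3], [4, 5, 2, 3, 0, 2]), (0, [], [3], [], [])]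

def chkSP (k : ℕ) (e : ℤ × List ℕ × List ℕ × List ℕ × List ℕ) : Bool :=
  if e.1 = 0 then same (rp xs k ++ ws) (3 :: (rp xs k ++ ws)) e.2.2.1 else
  if e.1 = 1 then same (e.2.1 ++ bw) (rp xs k ++ ws) e.2.2.1 && (same (e.2.1 ++ [1]) (W.getD 3 []) e.2.2.2.1 &&
    same e.2.1 (3 :: (rp xs k ++ ws)) e.2.2.2.2) else
  e.1 == -1 && (same (e.2.1 ++ bw) (3 :: (rp xs k ++ ws)) e.2.2.1 && (same (e.2.1 ++ [1]) (W.getD 3 []) e.2.2.2.1 &&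
    same e.2.1 (rp xs k ++ ws) e.2.2.2.2))

theorem checkSP : ((List.range 10).all fun k => chkSP k (SP.getD k (0, [], [], [], []))) = true := by decide +kernel

theorem sumSP : ((List.range 10).map fun k => (SP.getD k (0, [], [], [], [])).1).sum = 3 := by decide

/-! ### Labels: six digits in base 4 -/

/-- digit -/
def dg (m i : ℕ) : ℕ := (m / 4 ^ i) % 4

/-- adjacency -/
def adj (i j : ℕ) : Bool := [[2], [3], [0, 3], [1, 2, 4], [3, 5], [4]].getD i [] |>.contains j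

/-- add `x` modulo 3 to the digit `j` -/
def ad (x m j : ℕ) : ℕ := m - dg m j * 4 ^ j + ((dg m j + x) % 3) * 4 ^ j

/-- the action on labels -/
def step (m a : ℕ) : ℕ :=
  let x := dg m a
  ([[2], [3], [0, 3], [1, 2, 4], [3, 5], [4]].getD a []).foldl (ad x) (ad x m a)

/-- valid labels -/
def valid (m : ℕ) : Bool := (List.range 6).all fun i => Nat.blt (dg m i) 3

theorem check_step : ((List.range 4096).all fun m => !valid m || (List.range 6).all fun a =>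
    Nat.blt (step m a) 4096 && (List.range 6).all fun i => Nat.beq (dg (step m a) i)
      (if i = a then (dg m a + dg m a) % 3 else if adj i a then (dg m i + dg m a) % 3 else dg m i)) = true := by
  decide +kernel

/-- insertion of a new label -/
def ins (x : ℕ) (p : List ℕ × List ℕ) (a : ℕ) : List ℕ × List ℕ :=
  let y := step x a
  if p.1.any fun z => Nat.beq z y then p else (y :: p.1, p.2 ++ [y])

/-- breadth first search -/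
def bfs : ℕ → List ℕ × List ℕ → List ℕ
  | 0, p => p.1
  | k + 1, p => if Nat.ble 16 p.1.length then p.1 else
    match p.2 with
    | [] => p.1
    | x :: q => bfs k ((List.range 6).foldl (ins x) (p.1, q))

theorem check_orb : ((List.range 4096).all fun m => !valid m || Nat.beq m 0 ||
    Nat.ble 16 (Cfsg.Agent.H921.Spor.cnt (bfs 40 ([m], [m])))) = true := by decide +kernel

end Cfsg.Agent.H806.Ls.Three
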