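import Cfsg.Agent.H806.LsThreeData

/-!
# The affine Weyl group of type `E₆` with the spider relation (helper806)

`Ctx t g`: `t 0, …, t 5` a quotient of the Weyl group of type `E₆`, `g` the affine node, the tenth power of the spider is
`1`. The translations `X t g i` commute, have order dividing 3, and the Weyl group acts as on the root lattice.
-/

set_option autoImplicit false
set_option linter.unusedSectionVars false

universe u v w

namespace Cfsg.Agent.H806.Ls.Three

open Cfsg.Agent.H921.Spor.Cox Cfsg.Agent.ChevalleyStructure.WeylData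

variable {G : Type u} [Group G]

/-- The situation. -/
structure Ctx (t : ℕ → G) (g : G) : Prop where
  pre : Pre certE6 t
  gg : g * g = 1
  gt : ∀ a, a < 6 → a ≠ 1 → g * t a = t a * g
  g1 : g * t 1 * g = t 1 * g * t 1
  sp : (ev t ws * g) ^ 10 = 1

/-- the translation by the highest root -/
def T (t : ℕ → G) (g : G) : G := g * ev t th6

/-- the conjugates of `T` -/
def u (t : ℕ → G) (g : G) (w : List ℕ) : G := ev t w * T t g * (ev t w)⁻¹

/-- the translations by the simple roots -/
def X (t : ℕ → G) (g : G) (i : ℕ) : G := u t g (W.getD i [])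

variable {t : ℕ → G} {g : G}

theorem ev_one (t : ℕ → G) (a : ℕ) : ev t [a] = t a := by rw [ev_cons, ev_nil, mul_one]

theorem u_append (w w' : List ℕ) : u t g (w ++ w') = ev t w * u t g w' * (ev t w)⁻¹ := by
  unfold u
  rw [ev_append, mul_inv_rev]
  group

theorem u_nil : u t g [] = T t g := by
  unfold u
  rw [ev_nil, one_mul, inv_one, mul_one]

theorem u_cons (a : ℕ) (w : List ℕ) : u t g (a :: w) = t a * u t g w * (t a)⁻¹ := by
  have := u_append (t := t) (g := g) [a] w
  rwa [ev_one] at this

namespace Ctx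

variable (h : Ctx t g)

include h

theorem ss : ev t th6 * ev t th6 = 1 := by
  have := h.pre.eq check_ss
  rwa [ev_append, ev_nil] at this

theorem s_comm {a : ℕ} (h1 : a < 6) (h2 : a ≠ 1) : t a * ev t th6 = ev t th6 * t a := by
  have h3 := List.all_eq_true.1 check_st a (by
    have : ∀ a < 6, a ≠ 1 → a ∈ [0, 2, 3, 4, 5] := by decide
    exact this a h1 h2)
  have h4 := h.pre.eq h3
  rwa [ev_cons, ev_append, ev_one] at h4

theorem T_comm {a : ℕ} (h1 : a < 6) (h2 : a ≠ 1) : t a * T t g = T t g * t a := by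
  unfold T
  rw [← mul_assoc, ← h.gt a h1 h2, mul_assoc, mul_assoc, h.s_comm h1 h2]

theorem T_comm_word {l : List ℕ} (hl : ∀ a ∈ l, a < 6 ∧ a ≠ 1) : ev t l * T t g = T t g * ev t l := by
  induction l with
  | nil => simp
  | cons a l ih =>
    obtain ⟨h1, h2⟩ := hl a List.mem_cons_self
    rw [ev_cons, mul_assoc, ih fun b hb => hl b (List.mem_cons_of_mem _ hb), ← mul_assoc, h.T_comm h1 h2, mul_assoc]

theorem g_comm_word {l : List ℕ} (hl : ∀ a ∈ l, a < 6 ∧ a ≠ 1) : g * ev t l = ev t l * g := by
  induction l with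
  | nil => simp
  | cons a l ih =>
    obtain ⟨h1, h2⟩ := hl a List.mem_cons_self
    rw [ev_cons, ← mul_assoc, h.gt a h1 h2, mul_assoc, ih fun b hb => hl b (List.mem_cons_of_mem _ hb), mul_assoc]

theorem u_same {w w' l : List ℕ} (hs : same w w' l = true) : u t g w' = u t g w := by
  unfold same at hs
  rw [Bool.and_eq_true, List.all_eq_true] at hs
  have h1 : ∀ a ∈ l, a < 6 ∧ a ≠ 1 := by
    intro a ha
    have := hs.1 a ha
    rw [Bool.and_eq_true] at this
    refine ⟨by simpa using this.1, ?_⟩
    intro h0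
    rw [h0] at this
    exact absurd this.2 (by decide)
  have h2 := h.T_comm_word h1
  unfold u
  rw [h.pre.eq hs.2, ev_append, mul_inv_rev]
  calc ev t w * ev t l * T t g * ((ev t l)⁻¹ * (ev t w)⁻¹)
      = ev t w * (ev t l * T t g) * (ev t l)⁻¹ * (ev t w)⁻¹ := by group
    _ = ev t w * T t g * (ev t w)⁻¹ := by rw [h2]; group

theorem u_neg (w : List ℕ) : u t g (w ++ th6) = (u t g w)⁻¹ := by
  have h1 : ev t th6 * T t g * (ev t th6)⁻¹ = (T t g)⁻¹ := by
    unfold T
    rw [inv_eq_of_mul_eq_one_left h.ss, mul_inv_rev, inv_eq_of_mul_eq_one_left h.ss, inv_eq_of_mul_eq_one_left h.gg]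
    calc ev t th6 * (g * ev t th6) * ev t th6 = ev t th6 * g * (ev t th6 * ev t th6) := by group
      _ = _ := by rw [h.ss, mul_one]
  rw [u_append]
  unfold u
  rw [h1]
  group

theorem aa : t 1 * t 1 = 1 := h.pre.sq (by norm_num)

theorem bb : ev t bw * ev t bw = 1 := by
  have h1 : eqW certE6 (bw ++ bw) [] = true := by decide +kernel
  have := h.pre.eq h1
  rwa [ev_append, ev_nil] at this

theorem gbg : g * ev t bw * g = ev t bw * g * ev t bw := by
  have h1 := h.g_comm_word (l := wb) (by decide)
  have h2 : ev t bw = ev t wb * t 1 * (ev t wb)⁻¹ := by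
    unfold bw
    rw [ev_append, ev_append, ev_one, h.pre.ev_reverse (w := wb) (by decide), mul_assoc]
  rw [h2]
  generalize ev t wb = v at h1
  have h3 : v⁻¹ * g = g * v⁻¹ := by rw [inv_mul_eq_iff_eq_mul, ← mul_assoc, ← h1]; group
  calc g * (v * t 1 * v⁻¹) * g = (g * v) * t 1 * (v⁻¹ * g) := by group
    _ = v * (g * t 1 * g) * v⁻¹ := by rw [h1, h3]; group
    _ = v * t 1 * g * t 1 * v⁻¹ := by rw [h.g1]; group
    _ = v * t 1 * (v⁻¹ * (v * g)) * t 1 * v⁻¹ := by group
    _ = v * t 1 * (v⁻¹ * (g * v)) * t 1 * v⁻¹ := by rw [h1]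
    _ = _ := by group

theorem u_one : u t g [1] = t 1 * T t g * t 1 := by
  have h1 : (t 1)⁻¹ = t 1 := inv_eq_of_mul_eq_one_left h.aa
  unfold u
  rw [ev_one, h1]

theorem u_bw : u t g bw = ev t bw * T t g * ev t bw := by
  have h1 : (ev t bw)⁻¹ = ev t bw := inv_eq_of_mul_eq_one_left h.bb
  unfold u
  rw [h1]

theorem s_aba : ev t th6 = t 1 * (ev t bw * t 1) := by
  have := h.pre.eq check_aba
  rwa [ev_append, ev_append, ev_one] at this

theorem s_bab : ev t th6 = ev t bw * (t 1 * ev t bw) := by
  have := h.pre.eq check_bab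
  rwa [ev_append, ev_append, ev_one] at this

theorem add0 : u t g bw * u t g [1] = u t g [] ∧ u t g [1] * u t g bw = u t g [] := by
  have e1 : u t g [1] = t 1 * g * t 1 * ev t bw := by
    rw [h.u_one]
    unfold T
    rw [h.s_aba]
    calc t 1 * (g * (t 1 * (ev t bw * t 1))) * t 1 = t 1 * g * t 1 * ev t bw * (t 1 * t 1) := by group
      _ = _ := by rw [h.aa, mul_one]
  have e2 : u t g bw = ev t bw * g * ev t bw * t 1 := by
    rw [h.u_bw]
    unfold T
    rw [h.s_bab]
    calc ev t bw * (g * (ev t bw * (t 1 * ev t bw))) * ev t bw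
        = ev t bw * g * ev t bw * t 1 * (ev t bw * ev t bw) := by group
      _ = _ := by rw [h.bb, mul_one]
  constructor
  · rw [e1, e2, u_nil]
    unfold T
    rw [h.s_bab]
    calc ev t bw * g * ev t bw * t 1 * (t 1 * g * t 1 * ev t bw)
        = ev t bw * g * ev t bw * (t 1 * t 1) * g * t 1 * ev t bw := by group
      _ = ev t bw * (g * ev t bw * g) * t 1 * ev t bw := by rw [h.aa]; group
      _ = (ev t bw * ev t bw) * g * (ev t bw * (t 1 * ev t bw)) := by rw [h.gbg]; group
      _ = _ := by rw [h.bb, one_mul]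
  · rw [e1, e2, u_nil]
    unfold T
    rw [h.s_aba]
    calc t 1 * g * t 1 * ev t bw * (ev t bw * g * ev t bw * t 1)
        = t 1 * g * t 1 * (ev t bw * ev t bw) * g * ev t bw * t 1 := by group
      _ = t 1 * (g * t 1 * g) * ev t bw * t 1 := by rw [h.bb]; group
      _ = (t 1 * t 1) * g * (t 1 * (ev t bw * t 1)) := by rw [h.g1]; group
      _ = _ := by rw [h.aa, one_mul]

theorem add (w : List ℕ) : u t g (w ++ bw) * u t g (w ++ [1]) = u t g w := by
  have h1 := h.add0.1
  rw [u_append w bw, u_append w [1]]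
  have h2 : u t g w = ev t w * u t g [] * (ev t w)⁻¹ := by
    have := u_append (t := t) (g := g) w []
    rwa [List.append_nil] at this
  rw [h2, ← h1]
  group

theorem add' (w : List ℕ) : u t g (w ++ [1]) * u t g (w ++ bw) = u t g w := by
  have h1 := h.add0.2
  rw [u_append w bw, u_append w [1]]
  have h2 : u t g w = ev t w * u t g [] * (ev t w)⁻¹ := by
    have := u_append (t := t) (g := g) w []
    rwa [List.append_nil] at this
  rw [h2, ← h1]
  group

theorem comm (w : List ℕ) : u t g (w ++ bw) * u t g (w ++ [1]) = u t g (w ++ [1]) * u t g (w ++ bw) := by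
  rw [h.add, h.add']

theorem comm_base : u t g [] * u t g (W.getD 0 []) = u t g (W.getD 0 []) * u t g [] := by
  have c0 := h.u_same check0
  have c1 := h.u_same check1
  have c2 := h.u_same check2
  have c3 := h.u_same check3
  have c4 := h.u_same check4
  -- `T` commutes with the two factors
  have d1 : u t g [] * u t g (wp ++ bw) = u t g (wp ++ bw) * u t g [] := by
    rw [c1, c2]
    have e1 := h.add v1
    have e2 := h.add' v1
    calc u t g v1 * u t g (v1 ++ [1]) = u t g (v1 ++ [1]) * u t g (v1 ++ bw) * u t g (v1 ++ [1]) := by rw [e2]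
      _ = u t g (v1 ++ [1]) * (u t g (v1 ++ bw) * u t g (v1 ++ [1])) := by group
      _ = _ := by rw [e1]
  have d2 : u t g [] * u t g (wp ++ [1]) = u t g (wp ++ [1]) * u t g [] := by
    rw [c3, c4]
    exact h.comm v2
  rw [c0, ← h.add wp, ← mul_assoc, d1, mul_assoc, d2, mul_assoc]

theorem comm_orth (w : List ℕ) : u t g w * u t g (w ++ W.getD 0 []) = u t g (w ++ W.getD 0 []) * u t g w := by
  have h1 := h.comm_base
  have h2 : u t g w = ev t w * u t g [] * (ev t w)⁻¹ := by
    have := u_append (t := t) (g := g) w []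
    rwa [List.append_nil] at this
  rw [u_append w (W.getD 0 []), h2]
  calc ev t w * u t g [] * (ev t w)⁻¹ * (ev t w * u t g (W.getD 0 []) * (ev t w)⁻¹)
      = ev t w * (u t g [] * u t g (W.getD 0 [])) * (ev t w)⁻¹ := by group
    _ = ev t w * (u t g (W.getD 0 []) * u t g []) * (ev t w)⁻¹ := by rw [h1]
    _ = _ := by group

theorem X_comm {i j : ℕ} (hi : i < 6) (hj : j < 6) : X t g i * X t g j = X t g j * X t g i := by
  have key : ∀ i < 6, ∀ j < 6, i < j → X t g i * X t g j = X t g j * X t g i := by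
    intro i hi j hj hij
    have hcov : (∃ e ∈ DA, e.1 = i ∧ e.2.1 = j) ∨ (∃ e ∈ DO, e.1 = i ∧ e.2.1 = j) := by
      have : ∀ i < 6, ∀ j < 6, i < j → (DA.any fun e => Nat.beq e.1 i && Nat.beq e.2.1 j) = true ∨
        (DO.any fun e => Nat.beq e.1 i && Nat.beq e.2.1 j) = true := by decide
      rcases this i hi j hj hij with h1 | h1
      · left
        rw [List.any_eq_true] at h1
        obtain ⟨e, he, h1⟩ := h1
        rw [Bool.and_eq_true] at h1
        exact ⟨e, he, Nat.eq_of_beq_eq_true h1.1, Nat.eq_of_beq_eq_true h1.2⟩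
      · right
        rw [List.any_eq_true] at h1
        obtain ⟨e, he, h1⟩ := h1
        rw [Bool.and_eq_true] at h1
        exact ⟨e, he, Nat.eq_of_beq_eq_true h1.1, Nat.eq_of_beq_eq_true h1.2⟩
    rcases hcov with ⟨e, he, rfl, rfl⟩ | ⟨e, he, rfl, rfl⟩
    · have h1 := List.all_eq_true.1 checkDA e he
      rw [Bool.and_eq_true, Bool.and_eq_true] at h1
      unfold X
      rw [h.u_same h1.1, h.u_same h1.2.1]
      exact h.comm _
    · have h1 := List.all_eq_true.1 checkDO e he
      rw [Bool.and_eq_true] at h1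
      unfold X
      rw [h.u_same h1.1, h.u_same h1.2]
      exact h.comm_orth _
  rcases lt_trichotomy i j with hij | rfl | hij
  · exact key i hi j hj hij
  · rfl
  · exact (key j hj i hi hij).symm

/-- the action -/
theorem X_conj {i a : ℕ} (hi : i < 6) (ha : a < 6) : t a * X t g i * (t a)⁻¹ =
    if i = a then (X t g i)⁻¹ else if adj a i then X t g i * X t g a else X t g i := by
  by_cases hia : i = a
  · subst hia
    rw [if_pos rfl]
    have h1 := h.pre.eq (List.all_eq_true.1 checkDD i (List.mem_range.2 hi))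
    unfold X
    rw [← u_cons, ← h.u_neg]
    unfold u
    rw [h1]
  rw [if_neg hia]
  have hcov : (adj a i = true ∧ ∃ e ∈ DA, e.1 = i ∧ e.2.1 = a) ∨ (adj a i = false ∧ ∃ e ∈ DC, e.1 = a ∧ e.2.1 = i) := by
    have : ∀ i < 6, ∀ a < 6, i ≠ a → (adj a i = true ∧ (DA.any fun e => Nat.beq e.1 i && Nat.beq e.2.1 a) = true) ∨
      (adj a i = false ∧ (DC.any fun e => Nat.beq e.1 a && Nat.beq e.2.1 i) = true) := by decide +kernel
    rcases this i hi a ha hia with ⟨h0, h1⟩ | ⟨h0, h1⟩
    · left
      rw [List.any_eq_true] at h1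
      obtain ⟨e, he, h1⟩ := h1
      rw [Bool.and_eq_true] at h1
      exact ⟨h0, e, he, Nat.eq_of_beq_eq_true h1.1, Nat.eq_of_beq_eq_true h1.2⟩
    · right
      rw [List.any_eq_true] at h1
      obtain ⟨e, he, h1⟩ := h1
      rw [Bool.and_eq_true] at h1
      exact ⟨h0, e, he, Nat.eq_of_beq_eq_true h1.1, Nat.eq_of_beq_eq_true h1.2⟩
  rcases hcov with ⟨h0, e, he, rfl, rfl⟩ | ⟨h0, e, he, rfl, rfl⟩
  · rw [if_pos h0]
    have h1 := List.all_eq_true.1 checkDA e he
    rw [Bool.and_eq_true, Bool.and_eq_true] at h1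
    unfold X
    rw [← u_cons, h.u_same h1.2.2, h.u_same h1.1, h.u_same h1.2.1]
    exact (h.add _).symm
  · rw [if_neg (by rw [h0]; decide)]
    have h1 := List.all_eq_true.1 checkDC e he
    unfold X
    rw [← u_cons, h.u_same h1]

end Ctx

/-! ### The group of translations -/

/-- the group generated by the translations -/
def E (t : ℕ → G) (g : G) : Subgroup G := Subgroup.closure {x | ∃ i < 6, X t g i = x}

namespace Ctx

variable (h : Ctx t g)

include h

theorem X_mem {i : ℕ} (hi : i < 6) : X t g i ∈ E t g := Subgroup.subset_closure ⟨i, hi, rfl⟩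

theorem E_comm {a b : G} (ha : a ∈ E t g) (hb : b ∈ E t g) : a * b = b * a := by
  have hcomm : ∀ a ∈ {x | ∃ i < 6, X t g i = x}, ∀ b ∈ {x | ∃ i < 6, X t g i = x}, a * b = b * a := by
    rintro _ ⟨i, hi, rfl⟩ _ ⟨j, hj, rfl⟩
    exact h.X_comm hi hj
  have h1 : IsMulCommutative (E t g) := Subgroup.isMulCommutative_closure hcomm
  exact congrArg Subtype.val (h1.is_comm.comm (⟨a, ha⟩ : E t g) ⟨b, hb⟩)

theorem norm1 {a : ℕ} (ha : a < 6) {e : G} (he : e ∈ E t g) : t a * e * (t a)⁻¹ ∈ E t g := by
  unfold E at he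
  induction he using Subgroup.closure_induction with
  | mem y hy =>
    obtain ⟨i, hi, rfl⟩ := hy
    rw [h.X_conj hi ha]
    split_ifs
    · exact (E t g).inv_mem (h.X_mem hi)
    · exact (E t g).mul_mem (h.X_mem hi) (h.X_mem ha)
    · exact h.X_mem hi
  | one => simp
  | mul y z hy hz h1 h2 =>
    have := (E t g).mul_mem h1 h2
    convert this using 1
    group
  | inv y hy h1 =>
    have := (E t g).inv_mem h1
    convert this using 1
    group

theorem norm {w : List ℕ} (hw : ∀ a ∈ w, a < 6) {e : G} (he : e ∈ E t g) : ev t w * e * (ev t w)⁻¹ ∈ E t g := by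
  induction w with
  | nil => simpa using he
  | cons a w ih =>
    have h1 := h.norm1 (hw a List.mem_cons_self) (ih fun b hb => hw b (List.mem_cons_of_mem _ hb))
    rw [ev_cons]
    convert h1 using 1
    group

theorem T_mem : T t g ∈ E t g := by
  have h1 := h.norm (w := (W.getD 0 []).reverse) (by decide) (h.X_mem (i := 0) (by norm_num))
  rw [h.pre.ev_reverse (w := W.getD 0 []) (by decide)] at h1
  unfold X u at h1
  convert h1 using 1
  group

theorem u_mem {w : List ℕ} (hw : ∀ a ∈ w, a < 6) : u t g w ∈ E t g := h.norm hw h.T_mem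

end Ctx

/-! ### The spider relation -/

theorem mul_pow_conj (y x : G) (n : ℕ) :
    (y * x) ^ n = ((List.range n).map fun k => x ^ k * y * (x ^ k)⁻¹).prod * x ^ n := by
  induction n with
  | zero => simp
  | succ n ih =>
    rw [pow_succ, ih, List.range_succ, List.map_append, List.prod_append, List.map_singleton, List.prod_singleton,
      pow_succ]
    group

theorem prod_collect {L : List ℕ} {f : ℕ → G} {e : ℕ → ℤ} {x : G} (hx : ∀ k ∈ L, x * f k = f k * x) :
    (L.map fun k => f k * x ^ e k).prod = (L.map f).prod * x ^ (L.map e).sum := by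
  induction L with
  | nil => simp
  | cons k L ih =>
    rw [List.map_cons, List.prod_cons, ih fun j hj => hx j (List.mem_cons_of_mem _ hj), List.map_cons,
      List.prod_cons, List.map_cons, List.sum_cons, zpow_add]
    have h1 : Commute (x ^ e k) ((L.map f).prod) := by
      apply Commute.zpow_left
      have : ∀ M : List ℕ, (∀ j ∈ M, x * f j = f j * x) → Commute x ((M.map f).prod) := by
        intro M hM
        induction M with
        | nil => simp
        | cons j M ih =>
          rw [List.map_cons, List.prod_cons]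
          exact Commute.mul_right (hM j List.mem_cons_self) (ih fun i hi => hM i (List.mem_cons_of_mem _ hi))
      exact this L fun j hj => hx j (List.mem_cons_of_mem _ hj)
    calc f k * x ^ e k * ((L.map f).prod * x ^ (L.map e).sum)
        = f k * (x ^ e k * (L.map f).prod) * x ^ (L.map e).sum := by group
      _ = f k * ((L.map f).prod * x ^ e k) * x ^ (L.map e).sum := by rw [h1.eq]
      _ = _ := by group

namespace Ctx

variable (h : Ctx t g)

include h

theorem xs_lt : ∀ a ∈ xs, a < 6 := by decide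

theorem rp_lt {w : List ℕ} (hw : ∀ a ∈ w, a < 6) (k : ℕ) : ∀ a ∈ rp w k, a < 6 := by
  induction k with
  | zero => intro a ha; exact absurd ha (by simp [rp])
  | succ k ih =>
    intro a ha
    rcases List.mem_append.1 (show a ∈ w ++ rp w k from ha) with h1 | h1
    · exact hw a h1
    · exact ih a h1

/-- the factors of the tenth power -/
theorem prod_one : ((List.range 10).map fun k => u t g (rp xs k ++ ws)).prod = 1 := by
  have h1 : ev t ws * g = u t g ws * ev t xs := by
    unfold u T xs
    rw [ev_append]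
    calc ev t ws * g = ev t ws * g * (ev t th6 * ev t th6) := by rw [h.ss, mul_one]
      _ = _ := by group
  have h2 := h.sp
  rw [h1, mul_pow_conj] at h2
  have h3 : ev t xs ^ 10 = 1 := by
    rw [← ev_rp, h.pre.eq check_xs, ev_nil]
  rw [h3, mul_one] at h2
  have h4 : ((List.range 10).map fun k => u t g (rp xs k ++ ws)) =
      (List.range 10).map fun k => ev t xs ^ k * u t g ws * (ev t xs ^ k)⁻¹ := by
    apply List.map_congr_left
    intro k _
    rw [u_append, ev_rp]
  rw [h4]
  exact h2

theorem X3_cube : X t g 3 ^ 3 = 1 := by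
  have h1 : ∀ k ∈ List.range 10, t 3 * u t g (rp xs k ++ ws) * (t 3)⁻¹ =
      u t g (rp xs k ++ ws) * X t g 3 ^ (SP.getD k (0, [], [], [], [])).1 := by
    intro k hk
    have h2 := List.all_eq_true.1 checkSP k hk
    rw [← u_cons]
    generalize SP.getD k (0, [], [], [], []) = e at h2
    unfold chkSP at h2
    split_ifs at h2 with h3 h4
    · rw [h.u_same h2, h3, zpow_zero, mul_one]
    · rw [Bool.and_eq_true, Bool.and_eq_true] at h2
      rw [h4, zpow_one, h.u_same h2.2.2]
      unfold X
      rw [h.u_same h2.1, h.u_same h2.2.1]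
      exact (h.add _).symm
    · rw [Bool.and_eq_true, Bool.and_eq_true, Bool.and_eq_true] at h2
      have h5 : e.1 = -1 := by simpa using h2.1
      rw [h5, zpow_neg_one, eq_mul_inv_iff_mul_eq, h.u_same h2.2.2.2]
      unfold X
      rw [h.u_same h2.2.1, h.u_same h2.2.2.1]
      exact h.add _
  have h2 := h.prod_one
  have h3 : (((List.range 10).map fun k => u t g (rp xs k ++ ws)).map (MulAut.conj (t 3))).prod = 1 := by
    rw [← map_list_prod, h2, map_one]
  rw [List.map_map] at h3
  have h4 : (List.range 10).map (MulAut.conj (t 3) ∘ fun k => u t g (rp xs k ++ ws)) =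
      (List.range 10).map fun k => u t g (rp xs k ++ ws) * X t g 3 ^ (SP.getD k (0, [], [], [], [])).1 := by
    apply List.map_congr_left
    intro k hk
    exact h1 k hk
  rw [h4, prod_collect (f := fun k => u t g (rp xs k ++ ws)) (e := fun k => (SP.getD k (0, [], [], [], [])).1) (by
    intro k _
    refine h.E_comm (h.X_mem (by norm_num)) (h.u_mem ?_)
    intro a ha
    rcases List.mem_append.1 ha with h5 | h5
    · exact h.rp_lt h.xs_lt k a h5
    · exact (by decide : ∀ a ∈ ws, a < 6) a h5), h2, one_mul, sumSP] at h3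
  exact_mod_cast h3

theorem T_cube : T t g ^ 3 = 1 := by
  have h1 := h.X3_cube
  have h2 : T t g = (ev t (W.getD 3 []))⁻¹ * X t g 3 * ev t (W.getD 3 []) := by
    unfold X u; group
  have h3 : (T t g) ^ 3 = (ev t (W.getD 3 []))⁻¹ * X t g 3 ^ 3 * ev t (W.getD 3 []) := by
    rw [h2, pow_succ, pow_two, pow_succ, pow_two]; group
  rw [h3, h1]; group

theorem X_cube (i : ℕ) : X t g i ^ 3 = 1 := by
  have h3 : X t g i ^ 3 = ev t (W.getD i []) * T t g ^ 3 * (ev t (W.getD i []))⁻¹ := by
    unfold X u
    rw [pow_succ, pow_two, pow_succ, pow_two]; group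
  rw [h3, h.T_cube]; group

end Ctx

end Cfsg.Agent.H806.Ls.Three
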