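import Cfsg.Agent.H806.LsCent
import Cfsg.Agent.H920.FiTwo
import Cfsg.Agent.H203.LSDef

/-!
# The bound `LS 2 28 T` from the affine Weyl group of type `E₇` (helper806)

`Ctx t g` (helper920) : `t 0, …, t 6` a quotient of the Weyl group of type `E₇`, `g` the affine node, commuting with the
reflection in the highest root. For a simple group `T` containing such elements with `T t g ≠ 1` each nontrivial
representation, in characteristic `≠ 2`, of each perfect central extension of `T` has degree at least `28`.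
-/

set_option autoImplicit false
set_option linter.unusedSectionVars false

universe u v w

namespace Cfsg.Agent.H806.Ls

open Cfsg.Agent.H921.Spor Cfsg.Agent.H921.Spor.Cox Cfsg.Agent.ChevalleyStructure.WeylData Cfsg.Agent.H920
open Cfsg.Agent.H920.FiTwo (Ctx ths W DA DO DC same ex nb step SW adj Rep)

namespace Two

variable {P : Type v} [Group P] {G : Type u} [Group G] {π : P →* G} (h : CE π) {t : ℕ → G} {g : G} (hc : Ctx t g)

/-- the word of the central involution of the Weyl group -/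
def w0 : List ℕ := rp [6, 5, 4, 3, 2, 0, 1] 9

theorem check_w0 : ((List.range 7).all fun a => eqW certE7 (a :: w0) (w0 ++ [a])) = true := by decide +kernel

theorem check_adj : ([(1, 3), (2, 3), (4, 3), (5, 4), (6, 5)].all fun e : ℕ × ℕ =>
    eqW certE7 [e.1, e.2, e.1] [e.2, e.1, e.2]) = true := by decide +kernel

theorem check_01 : eqW certE7 [0, 1] [1, 0] = true := by decide +kernel

/-- `t_0` fixes the sum of the highest root and its image -/
theorem check_swap : same (ths ++ [0]) (0 :: (ths ++ [0])) [7] = true := by decide +kernel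

include hc

theorem tt {a : ℕ} (ha : a < 7) : t a * t a = 1 := hc.pre.sq ha

theorem tinv {a : ℕ} (ha : a < 7) : (t a)⁻¹ = t a := inv_eq_of_mul_eq_one_left (tt hc ha)

theorem w0_comm {w : List ℕ} (hw : ∀ a ∈ w, a < 7) : ev t w * ev t w0 = ev t w0 * ev t w := by
  induction w with
  | nil => simp
  | cons a w ih =>
    have h1 := hc.pre.eq (List.all_eq_true.1 check_w0 a (List.mem_range.2 (hw a List.mem_cons_self)))
    rw [ev_cons, ev_append, ev_cons, ev_nil, mul_one] at h1
    rw [ev_cons, mul_assoc, ih fun b hb => hw b (List.mem_cons_of_mem _ hb), ← mul_assoc, h1, mul_assoc]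

omit hc in
theorem conj_of_braid {a b : G} (hb : a * b * a = b * a * b) : b = (a * b) * a * (a * b)⁻¹ := by
  rw [hb]; group

omit hc in
theorem comm_conj {a b x : G} (ha : a * x = x * a) (hb : b * x = x * b) : x = (a * b) * x * (a * b)⁻¹ := by
  rw [mul_assoc a b x, hb, ← mul_assoc, ha]; group

theorem br_const {x : P} (hx : ∀ a, 1 ≤ a → a < 7 → t a * π x = π x * t a) {a : ℕ} (h1 : 1 ≤ a) (h2 : a < 7) :
    h.br (t a) x = h.br (t 3) x := by
  have key : ∀ e ∈ [(1, 3), (2, 3), (4, 3), (5, 4), (6, 5)], h.br (t e.1) x = h.br (t e.2) x := by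
    intro e he
    have h3 := hc.pre.eq (List.all_eq_true.1 check_adj e he)
    simp only [ev_cons, ev_nil, mul_one, ← mul_assoc] at h3
    have h4 : ∀ e ∈ [((1 : ℕ), (3 : ℕ)), (2, 3), (4, 3), (5, 4), (6, 5)], 1 ≤ e.1 ∧ e.1 < 7 ∧ 1 ≤ e.2 ∧ e.2 < 7 := by
      decide
    obtain ⟨h5, h6, h7, h8⟩ := h4 e he
    exact (h.br_conj (u := t e.1 * t e.2) (hx _ h5 h6) (conj_of_braid h3)
      (comm_conj (hx _ h5 h6) (hx _ h7 h8))).symm
  have k1 := key (1, 3) (by simp)
  have k2 := key (2, 3) (by simp)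
  have k3 := key (4, 3) (by simp)
  have k4 := key (5, 4) (by simp)
  have k5 := key (6, 5) (by simp)
  simp only at k1 k2 k3 k4 k5
  interval_cases a
  · exact k1
  · exact k2
  · rfl
  · exact k3
  · exact k4.trans k3
  · exact k5.trans (k4.trans k3)

theorem br_T {x : P} (hx : π x = FiTwo.T t g) {a : ℕ} (h1 : 1 ≤ a) (h2 : a < 7) : h.br (t a) x = 1 := by
  obtain ⟨gh, hgh⟩ := h.surj g
  obtain ⟨sh, hsh⟩ := h.surj (ev t ths)
  have cg : ∀ a, 1 ≤ a → a < 7 → t a * π gh = π gh * t a := fun a ha hb => by rw [hgh]; exact (hc.gt a ha hb).symm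
  have cs : ∀ a, 1 ≤ a → a < 7 → t a * π sh = π sh * t a := fun a ha hb => by
    rw [hsh]; exact (hc.s_comm_letter ha hb).symm
  have e0 : h.br (t a) x = h.br (t a) (gh * sh) := h.br_congr _ (by rw [hx, map_mul, hgh, hsh]; rfl)
  rw [e0, h.br_mul_right (cg a h1 h2), br_const h hc cg h1 h2, br_const h hc cs h1 h2]
  have e1 : h.br (t 3) sh = h.br (t 3) gh := by
    rw [← br_const h hc cs (a := 1) (by norm_num) (by norm_num), ← br_const h hc cg (a := 1) (by norm_num) (by norm_num)]
    have b1 : t 0 * g * t 0 = g * t 0 * g := hc.g0.symm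
    have b2 : ev t ths * t 0 * ev t ths = t 0 * ev t ths * t 0 := hc.braid
    have c01 : t 0 * t 1 = t 1 * t 0 := by
      have := hc.pre.eq check_01
      simpa only [ev_cons, ev_nil, mul_one] using this
    have cs1 := hc.s_comm_letter (a := 1) (by norm_num) (by norm_num)
    have cg1 := hc.gt 1 (by norm_num) (by norm_num)
    refine h.br_conj (u := (t 0 * ev t ths) * (g * t 0)) (cg 1 (by norm_num) (by norm_num)) ?_ ?_
    · have e1 : (g * t 0) * t 1 = t 1 * (g * t 0) := by rw [mul_assoc, c01, ← mul_assoc, cg1, mul_assoc]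
      have e2 : (t 0 * ev t ths) * t 1 = t 1 * (t 0 * ev t ths) := by
        rw [mul_assoc, cs1, ← mul_assoc, c01, mul_assoc]
      have e3 : (t 0 * ev t ths) * (g * t 0) * t 1 = t 1 * ((t 0 * ev t ths) * (g * t 0)) := by
        rw [mul_assoc, e1, ← mul_assoc, e2, mul_assoc]
      rw [e3]; group
    · rw [hgh, hsh]
      have e1 : (g * t 0) * g * (g * t 0)⁻¹ = t 0 := (conj_of_braid hc.g0).symm
      have e2 : (t 0 * ev t ths) * t 0 * (t 0 * ev t ths)⁻¹ = ev t ths := (conj_of_braid b2.symm).symm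
      calc ev t ths = (t 0 * ev t ths) * t 0 * (t 0 * ev t ths)⁻¹ := e2.symm
        _ = (t 0 * ev t ths) * ((g * t 0) * g * (g * t 0)⁻¹) * (t 0 * ev t ths)⁻¹ := by rw [e1]
        _ = _ := by group
  rw [e1]
  exact h.br_sq (cg 3 (by norm_num) (by norm_num)) (tt hc (by norm_num))

theorem fix_letter {x : P} (hx : π x = FiTwo.T t g) {a : ℕ} (h1 : 1 ≤ a) (h2 : a < 7) : h.cj (t a) x = x :=
  h.cj_fix_iff.2 (br_T h hc hx h1 h2)

theorem fix_word {x : P} (hx : π x = FiTwo.T t g) {w : List ℕ} (hw : ∀ a ∈ w, 1 ≤ a ∧ a < 7) :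
    h.cj (ev t w) x = x := by
  induction w with
  | nil => rw [ev_nil, map_one, MulAut.one_apply]
  | cons a w ih =>
    rw [ev_cons]
    obtain ⟨h1, h2⟩ := hw a List.mem_cons_self
    exact h.cj_fix_mul (fix_letter h hc hx h1 h2) (ih fun b hb => hw b (List.mem_cons_of_mem _ hb))

theorem map_cj_ev {x : P} (hx : π x = FiTwo.T t g) (w : List ℕ) : π (h.cj (ev t w) x) = FiTwo.u t g w := by
  rw [h.map_cj, hx]; rfl

theorem w0_comm_T : ev t w0 * FiTwo.T t g = FiTwo.T t g * ev t w0 := by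
  have h1 := hc.pre.eq FiTwo.check5
  rw [ev_append] at h1
  have h2 : ∀ w : List ℕ, (∀ a ∈ w, 1 ≤ a ∧ a < 7) → ev t w * FiTwo.T t g = FiTwo.T t g * ev t w := by
    intro w hw
    induction w with
    | nil => simp
    | cons a w ih =>
      obtain ⟨h3, h4⟩ := hw a List.mem_cons_self
      rw [ev_cons, mul_assoc, ih fun b hb => hw b (List.mem_cons_of_mem _ hb), ← mul_assoc,
        hc.T_comm_letter h3 h4, mul_assoc]
  have h3 := h2 (rp [6, 5, 4, 3, 2, 1] 5) (by decide)
  have h4 : ev t w0 = ev t ths * (ev t (rp [6, 5, 4, 3, 2, 1] 5))⁻¹ := by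
    rw [h1]; unfold w0; group
  rw [h4]
  have h5 : (ev t (rp [6, 5, 4, 3, 2, 1] 5))⁻¹ * FiTwo.T t g = FiTwo.T t g * (ev t (rp [6, 5, 4, 3, 2, 1] 5))⁻¹ := by
    rw [inv_mul_eq_iff_eq_mul, ← mul_assoc, h3]; group
  rw [mul_assoc, h5, ← mul_assoc, hc.T_comm_s, mul_assoc]

theorem br_w0 {x : P} (hx : π x = FiTwo.T t g) : h.br (ev t w0) x = 1 := by
  have hcomm : ev t w0 * π x = π x * ev t w0 := by rw [hx]; exact w0_comm_T hc
  have key : ∀ w : List ℕ, (∀ a ∈ w, a < 7) → h.br (ev t w0) (h.cj (ev t w) x) = h.br (ev t w0) x := by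
    intro w hw
    refine h.br_conj (u := ev t w) hcomm ?_ (h.map_cj _ _)
    rw [w0_comm hc hw]; group
  have h1 : h.br (ev t w0) (x * h.cj (ev t [0]) x) = h.br (ev t w0) (h.cj (ev t (ths ++ [0])) x) := by
    apply h.br_congr
    rw [map_mul, map_cj_ev h hc hx, map_cj_ev h hc hx, ← hc.add0, hc.u_nil, hx]
  rw [h.br_mul_right hcomm, key [0] (by decide), key (ths ++ [0]) (by decide)] at h1
  exact mul_eq_left.1 h1

theorem fix_ths {x : P} (hx : π x = FiTwo.T t g) : h.cj (ev t ths) x = x := by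
  have h1 := hc.pre.eq FiTwo.check5
  rw [ev_append] at h1
  rw [h1]
  exact h.cj_fix_mul (h.cj_fix_iff.2 (br_w0 h hc hx)) (fix_word h hc hx (by decide))

theorem fix_ex {x : P} (hx : π x = FiTwo.T t g) {l : List ℕ} (hl : ∀ a ∈ l, 1 ≤ a ∧ a ≤ 7) :
    h.cj (ev t (ex l)) x = x := by
  induction l with
  | nil => rw [ex, ev_nil, map_one, MulAut.one_apply]
  | cons a l ih =>
    have ih' := ih fun b hb => hl b (List.mem_cons_of_mem _ hb)
    obtain ⟨h1, h2⟩ := hl a List.mem_cons_self
    unfold ex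
    split_ifs with h7
    · rw [ev_append]; exact h.cj_fix_mul (fix_ths h hc hx) ih'
    · rw [ev_cons]; exact h.cj_fix_mul (fix_letter h hc hx h1 (by omega)) ih'

theorem Y_same {x : P} (hx : π x = FiTwo.T t g) {w w' l : List ℕ} (hs : same w w' l = true) :
    h.cj (ev t w') x = h.cj (ev t w) x := by
  unfold FiTwo.same at hs
  rw [Bool.and_eq_true, List.all_eq_true] at hs
  have h1 : ∀ a ∈ l, 1 ≤ a ∧ a ≤ 7 := by
    intro a ha
    have := hs.1 a ha
    rw [Bool.and_eq_true] at this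
    exact ⟨Nat.le_of_ble_eq_true this.1, Nat.le_of_ble_eq_true this.2⟩
  rw [hc.pre.eq hs.2, ev_append, map_mul, MulAut.mul_apply, fix_ex h hc hx h1]

/-- The canonical lift. -/
theorem exists_lift : ∃ x : P, π x = FiTwo.T t g ∧ x * x = 1 ∧
    x * h.cj (ev t [0]) x = h.cj (ev t (ths ++ [0])) x := by
  obtain ⟨x, hx⟩ := h.surj (FiTwo.T t g)
  set A := x with hA
  set B := h.cj (ev t [0]) x with hB
  set C := h.cj (ev t (ths ++ [0])) x with hC
  have hz : π (C⁻¹ * (A * B)) = 1 := by
    rw [map_mul, map_inv, map_mul, hB, hC, map_cj_ev h hc hx, map_cj_ev h hc hx, ← hc.add0, hc.u_nil, hx]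
    group
  set z := C⁻¹ * (A * B) with hzdef
  have hzi : π z⁻¹ = 1 := by rw [map_inv, hz, inv_one]
  have hx1 : π (x * z⁻¹) = FiTwo.T t g := by rw [map_mul, hx, hzi, mul_one]
  have hAB : A * B = C * z := by rw [hzdef]; group
  have e1 : (x * z⁻¹) * h.cj (ev t [0]) (x * z⁻¹) = h.cj (ev t (ths ++ [0])) (x * z⁻¹) := by
    rw [h.cj_mul_ker _ _ hzi, h.cj_mul_ker _ _ hzi]
    change A * z⁻¹ * (B * z⁻¹) = C * z⁻¹
    have h1 := h.cen _ hzi B
    calc A * z⁻¹ * (B * z⁻¹) = A * (z⁻¹ * B) * z⁻¹ := by group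
      _ = A * (B * z⁻¹) * z⁻¹ := by rw [h1]
      _ = (A * B) * z⁻¹ * z⁻¹ := by group
      _ = C * z⁻¹ := by rw [hAB]; group
  refine ⟨x * z⁻¹, hx1, ?_, e1⟩
  generalize x * z⁻¹ = y at hx1 e1
  -- the pair is swapped by `t 0`
  have e2 : h.cj (ev t [0]) y * y = h.cj (ev t (ths ++ [0])) y := by
    have h1 := congrArg (h.cj (ev t [0])) e1
    rw [map_mul, ← MulAut.mul_apply, ← map_mul, ← ev_append, ← MulAut.mul_apply, ← map_mul, ← ev_append] at h1
    have h2 : ev t ([0] ++ [0]) = 1 := by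
      rw [ev_append, ev_cons, ev_nil, mul_one]; exact tt hc (by norm_num)
    rw [h2, map_one, MulAut.one_apply] at h1
    have h3 := Y_same h hc hx1 check_swap
    exact h1.trans h3
  have hq : π (y * y) = 1 := by rw [map_mul, hx1]; exact hc.TT
  have hq2 : ∀ w : List ℕ, h.cj (ev t w) y * h.cj (ev t w) y = y * y := by
    intro w
    rw [← map_mul, h.cj_ker _ hq]
  have h3 : (y * h.cj (ev t [0]) y) * (h.cj (ev t [0]) y * y) = (y * y) := by
    rw [e1, e2]; exact hq2 _
  have h4 : (y * h.cj (ev t [0]) y) * (h.cj (ev t [0]) y * y) = (y * y) * (y * y) := by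
    have h5 := h.cen _ hq y
    calc (y * h.cj (ev t [0]) y) * (h.cj (ev t [0]) y * y)
        = y * (h.cj (ev t [0]) y * h.cj (ev t [0]) y) * y := by group
      _ = y * (y * y) * y := by rw [hq2]
      _ = _ := by group
  rw [h3] at h4
  exact (mul_eq_left.1 h4.symm)

/-- The situation in the extension. -/
structure Lift (h : CE π) (t : ℕ → G) (g : G) (x : P) : Prop where
  ctx : Ctx t g
  map : π x = FiTwo.T t g
  sq : x * x = 1
  add0 : x * h.cj (ev t [0]) x = h.cj (ev t (ths ++ [0])) x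

end Two

namespace Two

variable {P : Type v} [Group P] {G : Type u} [Group G] {π : P →* G} (h : CE π) {t : ℕ → G} {g : G} {x : P}

/-- the conjugates of the lift -/
noncomputable def Y (t : ℕ → G) (x : P) (w : List ℕ) : P := h.cj (ev t w) x

/-- the lifts of the generators -/
noncomputable def X (t : ℕ → G) (x : P) (i : ℕ) : P := Y h t x (W.getD i [])

variable (hl : Lift h t g x)

omit hl in
theorem Y_append (w w' : List ℕ) : Y h t x (w ++ w') = h.cj (ev t w) (Y h t x w') := by
  unfold Y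
  rw [ev_append, map_mul, MulAut.mul_apply]

include hl

theorem Y_nil : Y h t x [] = x := by
  unfold Y; rw [ev_nil, map_one, MulAut.one_apply]

theorem Y_eq {w w' l : List ℕ} (hs : same w w' l = true) : Y h t x w' = Y h t x w :=
  Y_same h hl.ctx hl.map hs

theorem Y_sq (w : List ℕ) : Y h t x w * Y h t x w = 1 := by
  unfold Y
  rw [← map_mul, hl.sq, map_one]

theorem Y_add (w : List ℕ) : Y h t x w * Y h t x (w ++ [0]) = Y h t x (w ++ (ths ++ [0])) := by
  rw [Y_append h w [0], Y_append h w (ths ++ [0])]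
  unfold Y
  rw [← map_mul, hl.add0]

theorem Y_comm (w : List ℕ) : Y h t x w * Y h t x (w ++ [0]) = Y h t x (w ++ [0]) * Y h t x w := by
  have h1 := Y_sq h hl (w ++ (ths ++ [0]))
  rw [← Y_add h hl] at h1
  have h2 := eq_inv_of_mul_eq_one_left h1
  rw [mul_inv_rev, inv_eq_of_mul_eq_one_left (Y_sq h hl (w ++ [0])), inv_eq_of_mul_eq_one_left (Y_sq h hl w)] at h2
  exact h2

theorem Y_comm_base : Y h t x [] * Y h t x (W.getD 3 []) = Y h t x (W.getD 3 []) * Y h t x [] := by
  have c0 := Y_eq h hl FiTwo.check0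
  have c1 := Y_eq h hl FiTwo.check1
  have c2 := Y_eq h hl FiTwo.check2
  have b1 : Y h t x [3, 2] = Y h t x [] := by
    refine Y_eq h hl (l := [3, 2]) ?_
    decide +kernel
  have b2 : Y h t x [2] = Y h t x [] := by
    refine Y_eq h hl (l := [2]) ?_
    decide +kernel
  have d1 := Y_comm h hl [3, 2]
  rw [b1, ← c1] at d1
  have d2 := Y_comm h hl [2]
  rw [b2, ← c2] at d2
  rw [c0, ← Y_add h hl, ← mul_assoc, d1, mul_assoc, d2, mul_assoc]

theorem Y_comm_orth (w : List ℕ) :
    Y h t x w * Y h t x (w ++ W.getD 3 []) = Y h t x (w ++ W.getD 3 []) * Y h t x w := by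
  have h1 := Y_comm_base h hl
  have h2 : Y h t x w = h.cj (ev t w) (Y h t x []) := by
    have := Y_append h (t := t) (x := x) w []
    rwa [List.append_nil] at this
  rw [Y_append h w (W.getD 3 []), h2, ← map_mul, h1, map_mul]

theorem X_comm {i j : ℕ} (hi : i < 7) (hj : j < 7) : X h t x i * X h t x j = X h t x j * X h t x i := by
  have key : ∀ i < 7, ∀ j < 7, i < j → X h t x i * X h t x j = X h t x j * X h t x i := by
    intro i hi j hj hij
    have hcov : (∃ e ∈ DA, e.1 = i ∧ e.2.1 = j) ∨ (∃ e ∈ DO, e.1 = i ∧ e.2.1 = j) := by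
      have : ∀ i < 7, ∀ j < 7, i < j → (DA.any fun e => Nat.beq e.1 i && Nat.beq e.2.1 j) = true ∨
        (DO.any fun e => Nat.beq e.1 i && Nat.beq e.2.1 j) = true := by decide
      rcases this i hi j hj hij with h1 | h1
      · left
        rw [List.any_eq_true] at h1
        obtain ⟨e, he, h1⟩ := h1
        rw [Bool.and_eq_true] at h1
        exact ⟨e, he, Nat.eq_of_beq_eq_true h1.1, Nat.eq_of_beq_eq_true h1.2⟩
      · right
        rw [List.any_eq_true] at h1
        obtain ⟨e, he, h1⟩ := h1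
        rw [Bool.and_eq_true] at h1
        exact ⟨e, he, Nat.eq_of_beq_eq_true h1.1, Nat.eq_of_beq_eq_true h1.2⟩
    rcases hcov with ⟨e, he, rfl, rfl⟩ | ⟨e, he, rfl, rfl⟩
    · have h1 := List.all_eq_true.1 FiTwo.checkDA e he
      rw [Bool.and_eq_true, Bool.and_eq_true] at h1
      unfold X
      rw [Y_eq h hl h1.1, Y_eq h hl h1.2.1]
      exact Y_comm h hl _
    · have h1 := List.all_eq_true.1 FiTwo.checkDO e he
      rw [Bool.and_eq_true] at h1
      unfold X
      rw [Y_eq h hl h1.1, Y_eq h hl h1.2]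
      exact Y_comm_orth h hl _
  rcases lt_trichotomy i j with hij | rfl | hij
  · exact key i hi j hj hij
  · rfl
  · exact (key j hj i hi hij).symm

theorem X_sq (i : ℕ) : X h t x i * X h t x i = 1 := Y_sq h hl _

omit hl in
theorem Y_cons (a : ℕ) (w : List ℕ) : Y h t x (a :: w) = h.cj (t a) (Y h t x w) := by
  have := Y_append h (t := t) (x := x) [a] w
  rwa [ev_cons, ev_nil, mul_one] at this

/-- the action -/
theorem X_conj {i a : ℕ} (hi : i < 7) (ha : a < 7) :
    h.cj (t a) (X h t x i) = if adj i a then X h t x i * X h t x a else X h t x i := by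
  have hcov : (adj i a = true ∧ ∃ e ∈ DA, e.1 = i ∧ e.2.1 = a) ∨ (adj i a = false ∧ ∃ e ∈ DC, e.1 = a ∧ e.2.1 = i) := by
    have : ∀ i < 7, ∀ a < 7, (adj i a = true ∧ (DA.any fun e => Nat.beq e.1 i && Nat.beq e.2.1 a) = true) ∨
      (adj i a = false ∧ (DC.any fun e => Nat.beq e.1 a && Nat.beq e.2.1 i) = true) := by decide +kernel
    rcases this i hi a ha with ⟨h0, h1⟩ | ⟨h0, h1⟩
    · left
      rw [List.any_eq_true] at h1
      obtain ⟨e, he, h1⟩ := h1
      rw [Bool.and_eq_true] at h1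
      exact ⟨h0, e, he, Nat.eq_of_beq_eq_true h1.1, Nat.eq_of_beq_eq_true h1.2⟩
    · right
      rw [List.any_eq_true] at h1
      obtain ⟨e, he, h1⟩ := h1
      rw [Bool.and_eq_true] at h1
      exact ⟨h0, e, he, Nat.eq_of_beq_eq_true h1.1, Nat.eq_of_beq_eq_true h1.2⟩
  rcases hcov with ⟨h0, e, he, rfl, rfl⟩ | ⟨h0, e, he, rfl, rfl⟩
  · rw [if_pos h0]
    have h1 := List.all_eq_true.1 FiTwo.checkDA e he
    rw [Bool.and_eq_true, Bool.and_eq_true] at h1
    unfold X
    rw [← Y_cons, Y_eq h hl h1.2.2, Y_eq h hl h1.1, Y_eq h hl h1.2.1]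
    exact (Y_add h hl _).symm
  · rw [if_neg (by rw [h0]; decide)]
    have h1 := List.all_eq_true.1 FiTwo.checkDC e he
    unfold X
    rw [← Y_cons, Y_eq h hl h1]

end Two

/-! ### Signs -/

section Sign

variable {k : Type*} [Field k]

/-- the sign -/
def sg (k : Type*) [Field k] (c : ZMod 2) : k := if c = 0 then 1 else -1

theorem sg_add (c d : ZMod 2) : sg k (c + d) = sg k c * sg k d := by
  have : ∀ c : ZMod 2, c = 0 ∨ c = 1 := by decide
  unfold sg
  rcases this c with rfl | rfl <;> rcases this d with rfl | rfl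
  · simp
  · simp
  · simp
  · rw [if_pos (by decide), if_neg (by decide)]; ring

theorem sg_inj (h2 : ((2 : ℕ) : k) ≠ 0) {c d : ZMod 2} (h : sg k c = sg k d) : c = d := by
  have h3 : (1 : k) ≠ -1 := by
    intro h4
    apply h2
    push_cast
    linear_combination h4
  have : ∀ c : ZMod 2, c = 0 ∨ c = 1 := by decide
  unfold sg at h
  rcases this c with rfl | rfl <;> rcases this d with rfl | rfl
  · rfl
  · rw [if_pos rfl, if_neg (by decide)] at h; exact absurd h h3
  · rw [if_pos rfl, if_neg (by decide)] at h; exact absurd h.symm h3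
  · rfl

theorem exists_sg {s : k} (hs : s * s = 1) : ∃ c : ZMod 2, s = sg k c := by
  rcases mul_self_eq_one_iff.1 hs with rfl | rfl
  · exact ⟨0, by simp [sg]⟩
  · exact ⟨1, by rw [sg, if_neg (by decide)]⟩

end Sign

open Cfsg.Agent.H203.LS

/-- **The bound.** -/
theorem ls_two {T : Type u} [Group T] [IsSimpleGroup T] {t : ℕ → T} {g : T} (hc : Ctx t g) (hT : FiTwo.T t g ≠ 1) :
    LS.{u, v, w} 2 28 T := by
  apply LS.of_core
  intro P _ π k _ _ V _ _ _ ρ hcore
  classical
  have h : CE π := ⟨hcore.surj, fun c hc g => hcore.comm_ker hc g⟩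
  obtain ⟨x, hx, hx2, hx3⟩ := Two.exists_lift h hc
  have hl : Two.Lift h t g x := ⟨hc, hx, hx2, hx3⟩
  have hcomm : ∀ i j : Fin 7, ρ (Two.X h t x i) * ρ (Two.X h t x j) = ρ (Two.X h t x j) * ρ (Two.X h t x i) := by
    intro i j
    rw [← map_mul, Two.X_comm h hl i.2 j.2, map_mul]
  have hXne : π (Two.X h t x 2) ≠ 1 := by
    unfold Two.X Two.Y
    rw [h.map_cj, hx]
    intro h1
    apply hT
    have h2 := mul_inv_eq_one.1 h1
    exact mul_eq_left.1 h2
  have hne : ρ (Two.X h t x ((2 : Fin 7) : ℕ)) ≠ 1 := by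
    intro h1
    refine hcore.not_scalar hXne (s := 1) ?_
    intro v
    have h2 : ρ (Two.X h t x 2) = 1 := h1
    rw [h2, one_smul]; rfl
  obtain ⟨v, χ, hv, hχ, hχ2⟩ := exists_weight (fun j : Fin 7 => ρ (Two.X h t x j)) hcomm (j0 := 2) (N := 2)
    hcore.rk (by rw [← map_pow, pow_two, Two.X_sq h hl, map_one]) hne
  have hsq : ∀ j, χ j * χ j = 1 := by
    intro j
    have h1 : ρ (Two.X h t x j * Two.X h t x j) v = (χ j * χ j) • v := by
      rw [map_mul, Module.End.mul_apply]
      have h0 : ρ (Two.X h t x j) v = χ j • v := hχ j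
      rw [h0, map_smul, h0, smul_smul]
    rw [Two.X_sq h hl, map_one, Module.End.one_apply] at h1
    have h2 : (χ j * χ j - 1) • v = 0 := by rw [sub_smul, one_smul, ← h1, sub_self]
    exact sub_eq_zero.1 ((smul_eq_zero.1 h2).resolve_right hv)
  have hc1 : ∀ j : Fin 7, ∃ c : ZMod 2, χ j = sg k c := fun j => exists_sg (hsq j)
  choose cc hcc using hc1
  let c : ℕ → ZMod 2 := fun i => if hi : i < 7 then cc ⟨i, hi⟩ else 0
  have hcv : ∀ i < 7, ρ (Two.X h t x i) v = sg k (c i) • v := by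
    intro i hi
    have h1 := hχ ⟨i, hi⟩
    rw [hcc] at h1
    have h2 : c i = cc ⟨i, hi⟩ := dif_pos hi
    rw [h2]; exact h1
  -- the conjugates
  have hfun : ∀ w : List ℕ, (∀ a ∈ w, a < 7) → ∀ (p : T) (c : ℕ → ZMod 2),
      (∀ i < 7, ρ (h.cj p (Two.X h t x i)) v = sg k (c i) • v) → ∀ i < 7,
      ρ (h.cj (p * ev t w) (Two.X h t x i)) v =
        sg k ((w.foldl (fun c a => fun i => if adj i a then c i + c a else c i) c) i) • v := by
    intro w
    induction w with
    | nil =>
      intro _ p c hc i hi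
      rw [ev_nil, mul_one]
      exact hc i hi
    | cons a w ih =>
      intro hw p c hc i hi
      have ha := hw a List.mem_cons_self
      have h1 := ih (fun b hb => hw b (List.mem_cons_of_mem _ hb)) (p * t a)
        (fun i => if adj i a then c i + c a else c i) (by
          intro i hi
          rw [map_mul, MulAut.mul_apply, Two.X_conj h hl hi ha]
          by_cases hadj : adj i a = true
          · rw [if_pos hadj, if_pos hadj, map_mul, map_mul, Module.End.mul_apply, hc a ha, map_smul, hc i hi,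
              smul_smul, sg_add, mul_comm]
          · rw [if_neg hadj, if_neg hadj]
            exact hc i hi) i hi
      rw [mul_assoc, ← ev_cons] at h1
      rw [List.foldl_cons]
      exact h1
  obtain ⟨m, hm⟩ := FiTwo.exists_rep c
  have hm2 : m.testBit 2 = true := by
    rw [hm.2 2 (by norm_num)]
    rcases FiTwo.z2 (c 2) with h0 | h0
    · exfalso
      apply hχ2
      have h1 : c 2 = cc 2 := dif_pos (by norm_num)
      rw [hcc, ← h1, h0]
      simp [sg]
    · exact h0
  have hcnt : Nat.ble 28 (cnt (SW.map fun w => w.foldl step m)) = true := by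
    have h1 := List.all_eq_true.1 FiTwo.checkS m (List.mem_range.2 hm.1)
    rw [hm2, Bool.not_true, Bool.false_or] at h1
    exact h1
  have h3 : 28 ≤ (SW.map fun w => w.foldl FiTwo.step m).toFinset.card :=
    le_trans (Nat.le_of_ble_eq_true hcnt) (cnt_le _)
  obtain ⟨I, hI1, hI2⟩ := Finset.exists_subset_card_eq h3
  have h4 : ∀ y ∈ I, ∃ w ∈ SW, w.foldl step m = y := by
    intro y hy
    have := List.mem_toFinset.1 (hI1 hy)
    obtain ⟨w, hw, hwy⟩ := List.mem_map.1 this
    exact ⟨w, hw, hwy⟩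
  choose! τ hτ1 hτ2 using h4
  have hSW : ∀ w ∈ SW, ∀ a ∈ w, a < 7 := by
    intro w hw
    have h1 := List.all_eq_true.1 FiTwo.checkSW w hw
    rw [Bool.and_eq_true] at h1
    exact mem_lt h1.1
  let fc : List ℕ → ℕ → ZMod 2 := fun w => w.foldl (fun c a => fun i => if adj i a then c i + c a else c i) c
  have hw1 : ∀ w ∈ SW, ∀ i < 7, ρ (h.cj (ev t w) (Two.X h t x i)) v = sg k (fc w i) • v := by
    intro w hw i hi
    have := hfun w (hSW w hw) 1 c (by
      intro i hi
      rw [map_one, MulAut.one_apply]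
      exact hcv i hi) i hi
    rwa [one_mul] at this
  -- the weight vectors
  choose σ hσ using h.surj
  have hfin := card_le_of_weights (k := k) (V := V) (ι := I) (J := Fin 7) (fun j => ρ (Two.X h t x j))
    (fun y => ρ (σ (ev t (τ y)))⁻¹ v) (fun y j => sg k (fc (τ y) j)) (fun y => hcore.ne_zero _ hv) (by
      intro y j
      have h5 := hw1 (τ y) (hτ1 y y.2) j j.2
      have h6 : h.cj (ev t (τ y)) (Two.X h t x j) = σ (ev t (τ y)) * Two.X h t x j * (σ (ev t (τ y)))⁻¹ := by
        rw [← h.cj_eq, hσ]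
      rw [h6] at h5
      rw [← Module.End.mul_apply, ← map_mul]
      have h7 : Two.X h t x j * (σ (ev t (τ y)))⁻¹ =
          (σ (ev t (τ y)))⁻¹ * (σ (ev t (τ y)) * Two.X h t x j * (σ (ev t (τ y)))⁻¹) := by group
      rw [h7, map_mul, Module.End.mul_apply, h5, map_smul]) (by
      intro y z hyz
      by_contra hne
      have hne' : (y : ℕ) ≠ z := fun h0 => hne (Subtype.ext h0)
      apply hne'
      rw [← hτ2 y y.2, ← hτ2 z z.2]
      refine Rep.ext (Rep.foldl (τ y) (hSW _ (hτ1 y y.2)) hm) (Rep.foldl (τ z) (hSW _ (hτ1 z z.2)) hm) ?_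
      intro i hi
      exact sg_inj hcore.rk (congrFun hyz ⟨i, hi⟩))
  have h8 : Nat.card I = 28 := by rw [Nat.card_eq_fintype_card, Fintype.card_coe, hI2]
  rw [h8] at hfin
  exact hfin

end Cfsg.Agent.H806.Ls
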