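import Cfsg.Agent.KFacts.FiTTh.BasInv
import Cfsg.Agent.KFacts.FiTTh.Uniq

/-!
# `Fi23` has no element of order 32 (helper806)

A Sylow 2-subgroup lies in `2^11 : M23`, and the 2-elements of `M23` have order at most 8: if `m ∈ M23` has order 16
then `m ^ 8` fixes exactly an octad through the fixed point, `m ^ 4` fixes this octad pointwise, so `m ^ 8 = 1`.
-/

set_option autoImplicit false

namespace Cfsg.Agent.H806.Rec

open Cfsg Subgroup
open Cfsg.Agent.SporadicA.GolayBase Cfsg.Agent.SporadicA.OctadFix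
open Cfsg.Agent.KFacts.FiTTh

/-- an orbit inside an octad through a fixed point -/
theorem four_fix {m : Equiv.Perm GolayPt} {O : Finset GolayPt} (hO : O.card = 8) (hn : none ∈ O)
    (hmn : m none = none) (hm : ∀ q ∈ O, m q ∈ O) {p : GolayPt} (hp : p ∈ O) (h16 : (m ^ 16) p = p) :
    (m ^ 4) p = p := by
  classical
  by_cases hpn : p = none
  · rw [hpn]
    exact Equiv.Perm.pow_apply_eq_self_of_apply_eq_self hmn 4
  set d := Function.minimalPeriod m p with hd
  have h1 : d ∣ 16 := by
    apply Function.IsPeriodicPt.minimalPeriod_dvd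
    show m^[16] p = p
    rw [Equiv.Perm.iterate_eq_pow]
    exact h16
  have h2 : d ≤ 7 := by
    have hc : (O.erase none).card = 7 := by rw [Finset.card_erase_of_mem hn, hO]
    rw [← hc, ← Finset.card_range d]
    apply Finset.card_le_card_of_injOn (fun i => m^[i] p)
    · intro i _
      rw [Finset.mem_coe, Finset.mem_erase]
      constructor
      · intro h
        apply hpn
        have h3 : (m ^ i) p = none := by rw [← Equiv.Perm.iterate_eq_pow]; exact h
        have h4 : (m ^ i) none = none := Equiv.Perm.pow_apply_eq_self_of_apply_eq_self hmn i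
        exact (m ^ i).injective (h3.trans h4.symm)
      · induction i with
        | zero => exact hp
        | succ i ih =>
          show m^[i + 1] p ∈ O
          rw [Function.iterate_succ_apply']
          exact hm _ (ih (Finset.mem_coe.2 (Finset.mem_range.2 (by
            have := Finset.mem_range.1 (Finset.mem_coe.1 ‹_›)
            omega))))
    · intro i hi j hj hij
      have hi' := Finset.mem_range.1 (Finset.mem_coe.1 hi)
      have hj' := Finset.mem_range.1 (Finset.mem_coe.1 hj)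
      exact Function.iterate_injOn_Iio_minimalPeriod hi' hj' hij
  have h3 : d ∣ 4 := by
    have h4 : d ∈ Nat.divisors 16 := Nat.mem_divisors.2 ⟨h1, by norm_num⟩
    have h5 : ∀ x ∈ Nat.divisors 16, x ≤ 7 → x ∣ 4 := by decide
    exact h5 d h4 h2
  have h4 : Function.IsPeriodicPt m 4 p := (Function.isPeriodicPt_minimalPeriod m p).trans_dvd h3
  have h5 : m^[4] p = p := h4
  rwa [Equiv.Perm.iterate_eq_pow] at h5

theorem m23_pow {m : Equiv.Perm GolayPt} (hm : m ∈ Spor.M23) (h16 : m ^ 16 = 1) : m ^ 8 = 1 := by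
  by_contra h8
  have h2 : m ^ 8 * m ^ 8 = 1 := by rw [← pow_add]; exact h16
  obtain ⟨O, hO, hn, hf⟩ := MTwThree.exists_octad (Spor.M23.pow_mem hm 8) h2 h8
  have hmn : m none = none := (MTwThree.mem_M23.1 hm).2
  have hst : ∀ q ∈ O, m q ∈ O := by
    intro q hq
    rw [← hf]
    have h3 := (hf q).2 hq
    calc (m ^ 8) (m q) = (m ^ 8 * m) q := rfl
      _ = (m * m ^ 8) q := by rw [← pow_succ, ← pow_succ']
      _ = m ((m ^ 8) q) := rfl
      _ = m q := by rw [h3]
  have h4 : m ^ 4 ∈ fixOct O := mem_fixOct.2 ⟨(MTwThree.mem_M23.1 (Spor.M23.pow_mem hm 4)).1, fun p hp =>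
    four_fix (octad_card hO) hn hmn hst hp (by rw [h16]; rfl)⟩
  have h5 := fixOct_sq hO h4
  rw [← pow_add] at h5
  exact h8 h5

theorem m23_two {m : Equiv.Perm GolayPt} (hm : m ∈ Spor.M23) {k : ℕ} (hk : m ^ 2 ^ k = 1) : m ^ 8 = 1 := by
  induction k with
  | zero =>
    rw [pow_zero, pow_one] at hk
    rw [hk, one_pow]
  | succ k ih =>
    by_cases h : k < 4
    · rw [← orderOf_dvd_iff_pow_eq_one] at hk ⊢
      rcases Nat.lt_or_ge k 3 with h3 | h3
      · exact hk.trans (pow_dvd_pow 2 (by omega : k + 1 ≤ 3))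
      · have : k = 3 := by omega
        subst this
        rw [orderOf_dvd_iff_pow_eq_one] at hk ⊢
        exact m23_pow hm hk
    · push Not at h
      have h1 : (m ^ 2 ^ (k - 3)) ^ 16 = 1 := by
        rw [← pow_mul, show 2 ^ (k - 3) * 16 = 2 ^ (k + 1) by
          rw [show (16 : ℕ) = 2 ^ 4 by norm_num, ← pow_add]; congr 1; omega]
        exact hk
      have h2 := m23_pow (Spor.M23.pow_mem hm (2 ^ (k - 3))) h1
      apply ih
      rw [← pow_mul, show 2 ^ (k - 3) * 8 = 2 ^ k by
        rw [show (8 : ℕ) = 2 ^ 3 by norm_num, ← pow_add]; congr 1; omega] at h2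
      exact h2

/-- the 2-elements of `Fi23` have order at most 16 -/
theorem fi23_two {g : Spor.Fi23} {k : ℕ} (hk : g ^ 2 ^ k = 1) : g ^ 16 = 1 := by
  have := BasInv.finite
  have hf2 : Fact (Nat.Prime 2) := ⟨Nat.prime_two⟩
  have hp : IsPGroup 2 (zpowers g) := by
    apply IsPGroup.of_card (n := (orderOf g).factorization 2) (by
      rw [Nat.card_zpowers]
      obtain ⟨j, -, hj⟩ := (Nat.dvd_prime_pow Nat.prime_two).1 (orderOf_dvd_of_pow_eq_one hk)
      rw [hj, Nat.Prime.factorization_pow Nat.prime_two, Finsupp.single_eq_same])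
  set N := normalizer (BasDef.A BasFi.e : Set Spor.Fi23) with hN
  have hodd : ¬ 2 ∣ Nat.card (Spor.Fi23 ⧸ N) := BasInv.hodd
  obtain ⟨q, hq⟩ := hp.nonempty_fixed_point_of_prime_not_dvd_card (Spor.Fi23 ⧸ N) hodd
  obtain ⟨x, rfl⟩ := QuotientGroup.mk_surjective q
  have h1 : x⁻¹ * g * x ∈ N := by
    have h2 := hq ⟨g, mem_zpowers g⟩
    have h3 : ((g * x : Spor.Fi23) : Spor.Fi23 ⧸ N) = (x : Spor.Fi23 ⧸ N) := h2
    rw [eq_comm, QuotientGroup.eq] at h3
    rwa [← mul_assoc] at h3
  set n : N := ⟨x⁻¹ * g * x, h1⟩ with hn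
  have hnp : ∀ j : ℕ, ((n ^ j : N) : Spor.Fi23) = x⁻¹ * g ^ j * x := by
    intro j
    rw [SubmonoidClass.coe_pow]
    show (x⁻¹ * g * x) ^ j = _
    have := conj_pow (a := x⁻¹) (b := g) (i := j)
    rw [inv_inv] at this
    exact this
  have h4 : (BasInv.base.ind n : Equiv.Perm GolayPt) ^ 2 ^ k = 1 := by
    have h5 : n ^ 2 ^ k = 1 := by
      apply Subtype.ext
      rw [hnp, hk]
      simp
    have h6 := congrArg BasInv.base.ind h5
    rw [map_pow, map_one] at h6
    exact congrArg Subtype.val h6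
  have h5 := m23_two (BasInv.base.ind n).2 h4
  have h6 : BasInv.base.ind (n ^ 8) = 1 := by
    rw [map_pow]
    exact Subtype.ext h5
  have h7 := (BasInv.base.ind_ker _).1 h6
  have h8 := BasInv.base.sq_A h7
  rw [hnp] at h8
  have h9 : x⁻¹ * g ^ 16 * x = 1 := by
    rw [← h8]
    group
  calc g ^ 16 = x * (x⁻¹ * g ^ 16 * x) * x⁻¹ := by group
    _ = 1 := by rw [h9]; group

theorem fi23_32 (g : Spor.Fi23) : orderOf g ≠ 32 := by
  intro h
  have h1 : g ^ 2 ^ 5 = 1 := by
    have := pow_orderOf_eq_one g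
    rwa [h] at this
  have h2 := fi23_two h1
  have h3 := orderOf_dvd_of_pow_eq_one h2
  rw [h] at h3
  exact absurd h3 (by norm_num)

end Cfsg.Agent.H806.Rec
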